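import Cfsg.Agent.SmallCent.Main
import Cfsg.Agent.S3225
import Cfsg.Agent.Solvable.MaximalClass
import Cfsg.Agent.Solvable.TwoMaximalClass
import Cfsg.Agent.Invol.DihedralFusion
import Cfsg.Agent.ZStar.RankOneApps
import Cfsg.Agent.CentFour.Main
import Cfsg.Agent.SelfThree.Main

/-!
Simple groups with an element whose centralizer has order at most four: reduction to the dihedral
configuration.
-/

set_option autoImplicit false
set_option linter.style.haveILetI false

namespace CfsgLib.SmallCent

open Subgroup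

universe u

variable {G : Type u} [Group G] [Finite G] [IsSimpleGroup G]

theorem not_comm_of_not_cyclic (hG : ¬ IsCyclic G) : ¬ IsMulCommutative G := fun h => by
  letI : CommGroup G := { ‹Group G› with mul_comm := h.is_comm.comm }
  exact hG IsSimpleGroup.isCyclic

theorem not_isPGroup (hG : ¬ IsCyclic G) {p : ℕ} [Fact p.Prime] : ¬ IsPGroup p G := fun h => by
  haveI : Nontrivial G := IsSimpleGroup.toNontrivial
  haveI := h.center_nontrivial
  rcases IsSimpleGroup.eq_bot_or_eq_top_of_normal (center G) inferInstance with e | e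
  · exact (Subgroup.nontrivial_iff_ne_bot _).1 inferInstance e
  · exact not_comm_of_not_cyclic hG ⟨⟨fun a b => mem_center_iff.1 (e ▸ mem_top b) a⟩⟩

theorem no_index_two' (hG : ¬ IsCyclic G) (K : Subgroup G) : K.index ≠ 2 := fun h => by
  rcases IsSimpleGroup.eq_bot_or_eq_top_of_normal K (normal_of_index_eq_two h) with e | e
  · rw [e, index_bot] at h
    haveI : Fact (Nat.Prime 2) := ⟨Nat.prime_two⟩
    exact hG (isCyclic_of_prime_card h)
  · rw [e, index_top] at h; omega

theorem normal_odd_eq_bot (h2 : Even (Nat.card G)) (N : Subgroup G) (hN : N.Normal)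
    (ho : Odd (Nat.card N)) : N = ⊥ := by
  rcases IsSimpleGroup.eq_bot_or_eq_top_of_normal N hN with e | e
  · exact e
  · rw [e, Subgroup.card_top] at ho
    exact absurd h2 (Nat.not_even_iff_odd.2 ho)

theorem no_complement (hG : ¬ IsCyclic G) (h2 : Even (Nat.card G)) :
    ¬ Cfsg.HasNormalPComplement 2 G := by
  rintro ⟨P, N, hN, hc⟩
  haveI : Fact (Nat.Prime 2) := ⟨Nat.prime_two⟩
  have hmul := hc.card_mul_card
  rcases IsSimpleGroup.eq_bot_or_eq_top_of_normal N hN with e | e <;> rw [e] at hmul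
  · rw [Subgroup.card_bot, one_mul] at hmul
    exact not_isPGroup hG (IsPGroup.of_equiv P.isPGroup'
      ((MulEquiv.subgroupCongr (eq_top_of_card_eq _ hmul)).trans Subgroup.topEquiv))
  · rw [Subgroup.card_top] at hmul
    have hP1 : Nat.card (P : Subgroup G) = 1 := by
      have hpos : 0 < Nat.card G := Nat.card_pos
      nlinarith
    exact P.not_dvd_index (by
      rw [← (P : Subgroup G).card_mul_index, hP1, one_mul] at h2
      exact h2.two_dvd)

theorem sylow_not_cyclic (hG : ¬ IsCyclic G) (h2 : Even (Nat.card G)) (P : Sylow 2 G) :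
    ¬ IsCyclic (P : Subgroup G) := fun hc => by
  haveI : Fact (Nat.Prime 2) := ⟨Nat.prime_two⟩
  have hmin : (Nat.card G).minFac = 2 := by
    rw [Nat.minFac_eq_two_iff]; exact h2.two_dvd
  have := IsCyclic.normalizer_le_centralizer (P := P) hmin
  exact no_complement hG h2 ⟨P, _, inferInstance, MonoidHom.ker_transferSylow_isComplement' P (this hc)⟩

omit [IsSimpleGroup G] in
theorem centralizer_zpowers_eq (x : G) :
    centralizer (zpowers x : Set G) = centralizer ({x} : Set G) := by
  ext g
  rw [mem_centralizer_iff, mem_centralizer_singleton_iff]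
  refine ⟨fun h => (h x (mem_zpowers x)).symm, fun h y hy => ?_⟩
  obtain ⟨i, rfl⟩ := mem_zpowers_iff.1 hy
  exact ((show Commute x g from h.symm).zpow_left i).eq

theorem quasidihedral_false (hG : ¬ IsCyclic G) (P : Sylow 2 G) (k : ℕ)
    (hcard : Nat.card (P : Subgroup G) = 2 ^ (k + 4)) (a b : (P : Subgroup G))
    (ha : orderOf a = 2 ^ (k + 3)) (hb : orderOf b = 2)
    (hab : b * a * b⁻¹ = a ^ (2 ^ (k + 2) - 1)) {u : G} (huP : u ∈ (P : Subgroup G))
    (hu4 : orderOf u = 4) (hC : centralizer ({u} : Set G) = zpowers u) : False := by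
  classical
  haveI : Fact (Nat.Prime 2) := ⟨Nat.prime_two⟩
  set r : ℕ := 2 ^ (k + 2) - 1 with hr
  have h4 : 4 ≤ 2 ^ (k + 2) := by
    rw [show 4 = 2 ^ 2 by norm_num]; exact Nat.pow_le_pow_right two_pos (by omega)
  have hr2 : ((r : ℤ) + 1) = 2 ^ (k + 2) := by
    have : r + 1 = 2 ^ (k + 2) := by omega
    exact_mod_cast this
  have hrodd : Odd (r : ℤ) := by
    refine ⟨2 ^ (k + 1) - 1, ?_⟩
    have : (2 : ℤ) ^ (k + 2) = 2 * 2 ^ (k + 1) := by ring
    linarith
  have hbb : b * b = 1 := by have := pow_orderOf_eq_one b; rwa [hb, sq] at this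
  have hmove : ∀ i : ℤ, b * a ^ i = a ^ ((r : ℤ) * i) * b := by
    intro i
    rw [← mul_inv_eq_iff_eq_mul, ← conj_zpow, hab, ← zpow_natCast, ← zpow_mul]
  have hb_not : b ∉ zpowers a := by
    intro h
    obtain ⟨i, hi⟩ := mem_zpowers_iff.1 h
    have h1 : b * a * b⁻¹ = a := by rw [← hi]; group
    rw [hab] at h1
    have h3 : a ^ r = a ^ 1 := by rw [h1, pow_one]
    rw [pow_eq_pow_iff_modEq, ha] at h3
    have h5 : r ≡ 1 [MOD 4] := h3.of_dvd (by rw [show 4 = 2 ^ 2 by norm_num]; exact pow_dvd_pow 2 (by omega))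
    have h6 : 2 ^ (k + 2) = 4 * 2 ^ k := by ring
    unfold Nat.ModEq at h5
    omega
  have hidx : (zpowers a).index = 2 := by
    have := (zpowers a).card_mul_index
    rw [Nat.card_zpowers, ha, hcard, show 2 ^ (k + 4) = 2 ^ (k + 3) * 2 by ring] at this
    exact Nat.eq_of_mul_eq_mul_left (by positivity) this
  have hshape : ∀ x : (P : Subgroup G), ∃ i : ℤ, x = a ^ i ∨ x = a ^ i * b := by
    intro x
    by_cases hx : x ∈ zpowers a
    · obtain ⟨i, hi⟩ := mem_zpowers_iff.1 hx
      exact ⟨i, Or.inl hi.symm⟩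
    · obtain ⟨i, hi⟩ := mem_zpowers_iff.1
        ((mul_mem_iff_of_index_two hidx (a := x) (b := b)).2 (iff_of_false hx hb_not))
      exact ⟨i, Or.inr (by rw [hi, mul_assoc, hbb, mul_one])⟩
  have heven : ∀ i j : ℤ, a ^ i = a ^ (2 * j) → Even i := by
    intro i j h
    rw [zpow_eq_zpow_iff_modEq, ha] at h
    have h2 : i ≡ 2 * j [ZMOD 2] := h.of_dvd ⟨2 ^ (k + 2), by push_cast; ring⟩
    rw [Int.even_iff]
    unfold Int.ModEq at h2
    omega
  let M : Subgroup (P : Subgroup G) :=
    { carrier := {x | ∃ i : ℤ, x = a ^ (2 * i) ∨ x = a ^ (2 * i) * b}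
      one_mem' := ⟨0, Or.inl (by simp)⟩
      mul_mem' := by
        rintro x y ⟨i, hx | hx⟩ ⟨j, hy | hy⟩ <;> subst hx hy
        · exact ⟨i + j, Or.inl (by rw [← zpow_add, mul_add])⟩
        · exact ⟨i + j, Or.inr (by rw [← mul_assoc, ← zpow_add, mul_add])⟩
        · refine ⟨i + r * j, Or.inr ?_⟩
          rw [mul_assoc, hmove, ← mul_assoc, ← zpow_add]
          congr 2; ring
        · refine ⟨i + r * j, Or.inl ?_⟩
          rw [mul_assoc, ← mul_assoc b, hmove, mul_assoc _ b b, hbb, mul_one, ← zpow_add]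
          congr 1; ring
      inv_mem' := by
        rintro x ⟨i, hx | hx⟩ <;> subst hx
        · exact ⟨-i, Or.inl (by rw [← zpow_neg]; congr 1; ring)⟩
        · refine ⟨-((r : ℤ) * i), Or.inr ?_⟩
          rw [mul_inv_rev, inv_eq_self_of_sq hbb, ← zpow_neg, hmove]
          congr 2; ring }
  have hMa : ∀ i : ℤ, a ^ i ∈ M ↔ Even i := by
    intro i
    constructor
    · rintro ⟨j, h | h⟩
      · exact heven i j h
      · exfalso
        refine hb_not (mem_zpowers_iff.2 ⟨-(2 * j) + i, ?_⟩)
        rw [zpow_add, h, zpow_neg, inv_mul_cancel_left]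
    · rintro ⟨j, rfl⟩
      exact ⟨j, Or.inl (by rw [two_mul])⟩
  have hMb : ∀ i : ℤ, a ^ i * b ∈ M ↔ Even i := by
    intro i
    have hbM : b ∈ M := ⟨0, Or.inr (by simp)⟩
    rw [M.mul_mem_cancel_right hbM, hMa]
  have hMidx : M.index = 2 := by
    refine index_eq_two_iff.2 ⟨a, fun x => ?_⟩
    obtain ⟨i, rfl | rfl⟩ := hshape x
    · rw [← zpow_add_one, hMa, hMa, Int.even_add_one]
      by_cases h : Even i
      · exact Or.inr ⟨h, fun h' => h' h⟩
      · exact Or.inl ⟨h, h⟩
    · have e : a ^ i * b * a = a ^ (i + (r : ℤ)) * b := by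
        rw [mul_assoc, show b * a = a ^ ((r : ℤ) * 1) * b by rw [← hmove, zpow_one], ← mul_assoc,
          ← zpow_add, mul_one]
      rw [e, hMb, hMb, Int.even_add, iff_false_right (Int.not_even_iff_odd.2 hrodd)]
      by_cases h : Even i
      · exact Or.inr ⟨h, fun h' => h' h⟩
      · exact Or.inl ⟨h, h⟩
  have hsq : ∀ i : ℤ, a ^ i * b * (a ^ i * b) = a ^ ((2 : ℤ) ^ (k + 2) * i) := by
    intro i
    rw [mul_assoc, ← mul_assoc b, hmove, mul_assoc _ b b, hbb, mul_one, ← zpow_add, ← hr2]
    congr 1; ring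
  have hout : ∀ y : (P : Subgroup G), y ∉ M → 2 < orderOf y := by
    intro y hy
    by_contra hle
    have hy2 : y * y = 1 := by
      have h0 := orderOf_pos y
      rcases (by omega : orderOf y = 1 ∨ orderOf y = 2) with h | h
      · rw [orderOf_eq_one_iff.1 h, one_mul]
      · have := pow_orderOf_eq_one y; rwa [h, sq] at this
    obtain ⟨i, rfl | rfl⟩ := hshape y
    · rw [← zpow_add, ← orderOf_dvd_iff_zpow_eq_one, ha] at hy2
      refine hy ((hMa i).2 ?_)
      obtain ⟨c, hc⟩ := hy2
      rw [Int.even_iff]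
      push_cast at hc
      rw [show (2 : ℤ) ^ (k + 3) * c = 4 * (2 ^ (k + 1) * c) by ring] at hc
      omega
    · rw [hsq, ← orderOf_dvd_iff_zpow_eq_one, ha] at hy2
      refine hy ((hMb i).2 ?_)
      push_cast at hy2
      rw [show (2 : ℤ) ^ (k + 3) = 2 ^ (k + 2) * 2 by ring] at hy2
      exact even_iff_two_dvd.2 ((mul_dvd_mul_iff_left (by positivity)).1 hy2)
  have hin : ∀ y ∈ M, orderOf y = 4 → y ∈ zpowers a := by
    rintro y ⟨i, h | h⟩ ho <;> subst h
    · exact zpow_mem (mem_zpowers a) _
    · exfalso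
      have h2 : orderOf (a ^ (2 * i) * b) ∣ 2 := orderOf_dvd_of_pow_eq_one (by
        rw [sq, hsq, ← orderOf_dvd_iff_zpow_eq_one, ha]
        exact ⟨i, by push_cast; ring⟩)
      rw [ho] at h2
      norm_num at h2
  set MG := M.map (P : Subgroup G).subtype
  have hrel : MG.relIndex (P : Subgroup G) = 2 := by
    rw [relIndex, show MG.subgroupOf (P : Subgroup G) = M from
      comap_map_eq_self_of_injective (P : Subgroup G).subtype_injective _, hMidx]
  have hev : Even (Nat.card G) := even_iff_two_dvd.2 ((dvd_mul_of_dvd_left (by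
    rw [hu4]; norm_num : 2 ∣ orderOf u) 1).trans (by rw [mul_one]; exact orderOf_dvd_natCard u))
  obtain ⟨g, hg⟩ := Cfsg.Agent.S3225.result hev (no_index_two' hG) P MG (map_subtype_le _) hrel 2
    one_le_two (fun y hy hyM => by
      have h := hout ⟨y, hy⟩ fun h => hyM ⟨_, h, rfl⟩
      rw [← Subgroup.orderOf_coe] at h
      exact h) u huP (by rw [hu4]; norm_num)
  obtain ⟨v, hv, hve⟩ := hg
  have hvo : orderOf v = 4 := by
    rw [← Subgroup.orderOf_coe, show (v : G) = g * u * g⁻¹ from hve, ← MulAut.conj_apply,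
      MulEquiv.orderOf_eq, hu4]
  obtain ⟨i, hi⟩ := mem_zpowers_iff.1 (hin v hv hvo)
  have hcomm : (a : G) * (g * u * g⁻¹) = g * u * g⁻¹ * a := by
    rw [← show (v : G) = g * u * g⁻¹ from hve, ← hi]
    exact_mod_cast congrArg Subtype.val ((Commute.self_zpow a i).eq)
  have hmem : g⁻¹ * (a : G) * g ∈ centralizer ({u} : Set G) := mem_centralizer_singleton_iff.2 (by
    calc g⁻¹ * (a : G) * g * u = g⁻¹ * ((a : G) * (g * u * g⁻¹)) * g := by group
      _ = _ := by rw [hcomm]; group)
  have hd := (centralizer ({u} : Set G)).orderOf_dvd_natCard hmem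
  rw [hC, Nat.card_zpowers, hu4] at hd
  have hoa : orderOf (g⁻¹ * (a : G) * g) = 2 ^ (k + 3) := by
    rw [show g⁻¹ * (a : G) * g = MulAut.conj g⁻¹ (a : G) by simp, MulEquiv.orderOf_eq,
      Subgroup.orderOf_coe, ha]
  rw [hoa] at hd
  have := Nat.le_of_dvd (by norm_num) hd
  have h8 : 2 ^ (k + 3) = 2 * 2 ^ (k + 2) := by ring
  omega

/-- A self-centralizing element of order four in a simple group. -/
theorem exists_frame (hG : ¬ IsCyclic G) {u : G} (hu4 : orderOf u = 4)
    (hC : centralizer ({u} : Set G) = zpowers u) : Nonempty (Frame G) := by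
  classical
  haveI : Fact (Nat.Prime 2) := ⟨Nat.prime_two⟩
  have hev : Even (Nat.card G) := even_iff_two_dvd.2
    ((show 2 ∣ orderOf u by rw [hu4]; norm_num).trans (orderOf_dvd_natCard u))
  have hp : IsPGroup 2 (zpowers u) := IsPGroup.of_card (n := 2) (by rw [Nat.card_zpowers, hu4]; norm_num)
  obtain ⟨P, hP⟩ := hp.exists_le_sylow
  have huP : u ∈ (P : Subgroup G) := hP (mem_zpowers u)
  obtain ⟨n, hn⟩ := IsPGroup.iff_card.1 P.isPGroup'
  set uP : (P : Subgroup G) := ⟨u, huP⟩
  have huPo : orderOf uP = 2 ^ 2 := by rw [← Subgroup.orderOf_coe]; exact hu4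
  have hA : centralizer (zpowers uP : Set (P : Subgroup G)) = zpowers uP := by
    rw [centralizer_zpowers_eq uP]
    ext x
    rw [mem_centralizer_singleton_iff]
    constructor
    · intro h
      have : (x : G) ∈ centralizer ({u} : Set G) :=
        mem_centralizer_singleton_iff.2 (congrArg Subtype.val h)
      rw [hC] at this
      obtain ⟨i, hi⟩ := mem_zpowers_iff.1 this
      exact mem_zpowers_iff.2 ⟨i, Subtype.ext (by simpa using hi)⟩
    · intro h
      obtain ⟨i, rfl⟩ := mem_zpowers_iff.1 h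
      exact (Commute.zpow_self uP i).eq
  have hn4 : 4 ≤ Nat.card (P : Subgroup G) := by
    have := Subgroup.card_le_of_le hP
    rwa [Nat.card_zpowers, hu4] at this
  have hne4 : Nat.card (P : Subgroup G) ≠ 4 := fun h => by
    refine sylow_not_cyclic hG hev P ⟨⟨uP, ?_⟩⟩
    intro x
    have : zpowers uP = ⊤ := eq_top_of_card_eq _ (by rw [Nat.card_zpowers, huPo, h]; norm_num)
    exact mem_zpowers_iff.1 (this.symm ▸ mem_top x)
  have hn3 : 3 ≤ n := by
    by_contra hh
    rcases (by omega : n = 0 ∨ n = 1 ∨ n = 2) with rfl | rfl | rfl <;> rw [hn] at hn4 hne4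
    all_goals omega
  have hcl := CfsgLib.MaximalClass.class_of_self_centralizing n hn (zpowers uP)
    (by rw [Nat.card_zpowers, huPo]) hA
  have hidx := CfsgLib.MaximalClass.index_commutator_of_class hn3 hn hcl
  rcases (CfsgLib.TwoMax.dsq_of_index_commutator P.isPGroup' hidx).resolve_left hne4 with
    ⟨k, ⟨e⟩⟩ | ⟨k, hk, a, b, ha, hb, hab⟩ | ⟨k, ⟨e⟩⟩
  · obtain ⟨D⟩ := CfsgLib.DihFour.exists_data P.isPGroup'
      (Nat.succ_le_of_lt (Nat.one_lt_two_pow (Nat.succ_ne_zero (k + 1)))) e
    obtain ⟨i, hi | hi⟩ := D.cases u huP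
    swap
    · exfalso
      have hss : D.s * D.s = 1 := by have := pow_orderOf_eq_one D.s; rwa [D.hs, sq] at this
      have h2 : orderOf u ∣ 2 := orderOf_dvd_of_pow_eq_one (by
        rw [sq, hi]
        calc D.r ^ i * D.s * (D.r ^ i * D.s) = D.r ^ i * (D.s * D.r ^ i * D.s⁻¹) * (D.s * D.s) := by group
          _ = 1 := by rw [← conj_zpow, D.hsr, hss, mul_one, inv_zpow, mul_inv_cancel])
      rw [hu4] at h2; norm_num at h2
    have hru : D.r ∈ zpowers u := by
      rw [← hC, mem_centralizer_singleton_iff, hi]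
      exact (Commute.self_zpow D.r i).eq
    have hr4 : orderOf D.r ∣ 4 := by
      have := (zpowers u).orderOf_dvd_natCard hru
      rwa [Nat.card_zpowers, hu4] at this
    have hcard : Nat.card (P : Subgroup G) = 4 * D.h := D.card_eq
    have hh2 : D.h = 2 := by
      have h := Nat.le_of_dvd (by norm_num) hr4
      rw [D.hr] at h
      rcases D.h_pos, h with ⟨h0, h⟩
      rcases (by omega : D.h = 1 ∨ D.h = 2) with h1 | h1
      · exact absurd (by rw [hcard, h1]) hne4
      · exact h1
    have hord : orderOf D.r = 4 := by rw [D.hr, hh2]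
    have hzp : zpowers D.r = zpowers u := eq_of_le_of_card_ge (zpowers_le.2 hru)
      (by rw [Nat.card_zpowers, Nat.card_zpowers, hu4, hord])
    refine ⟨{ syl := P, σ := D.r, τ := D.s, ord_σ := hord,
              τ_sq := by have := pow_orderOf_eq_one D.s; rwa [D.hs, sq] at this,
              inv_στ := D.hsr, τ_not := D.s_not, cent_σ := ?_, gen := ?_, fuse := ?_ }⟩
    · rw [← centralizer_zpowers_eq, hzp, centralizer_zpowers_eq, hC]
    · refine le_antisymm ((closure_le _).2 ?_) fun g hg => ?_
      · rintro x (rfl | rfl)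
        exacts [D.rS, D.sS]
      · have hr' : D.r ∈ closure ({D.r, D.s} : Set G) := subset_closure (Or.inl rfl)
        have hs' : D.s ∈ closure ({D.r, D.s} : Set G) := subset_closure (Or.inr rfl)
        obtain ⟨j, rfl | rfl⟩ := D.cases g hg
        exacts [zpow_mem hr' _, mul_mem (zpow_mem hr' _) hs']
    · intro v hv
      have hc : IsConj v D.z := D.all_conj_of_no_index_two
        (Nat.odd_iff.2 (Nat.two_dvd_ne_zero.1 P.not_dvd_index))
        (fun a ha => by
          obtain ⟨g, hg⟩ := (IsPGroup.of_card (n := 1) (by rw [Nat.card_zpowers, ha, pow_one]) :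
            IsPGroup 2 (zpowers a)).exists_le_sylow
          obtain ⟨x, hx⟩ := MulAction.exists_smul_eq G g P
          refine ⟨x, ?_⟩
          rw [← hx]
          exact ⟨a, hg (mem_zpowers a), by simp⟩)
        (no_index_two' hG) hv
      have hz : D.z = D.r * D.r := by
        rw [CfsgLib.DihFour.Data.z, hh2]; norm_num [zpow_two, sq]
      rw [← hz]
      exact hc.symm
  · exact (quasidihedral_false hG P k hk a b ha hb hab huP hu4 hC).elim
  · exfalso
    have h2 := CfsgLib.ZStar.center_card_two P k e fun N hN ho => normal_odd_eq_bot hev N hN ho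
    rcases IsSimpleGroup.eq_bot_or_eq_top_of_normal (center G) inferInstance with h | h <;>
      rw [h] at h2
    · rw [Subgroup.card_bot] at h2; omega
    · rw [Subgroup.card_top] at h2
      exact hG (isCyclic_of_prime_card h2)

/-- The classification. -/
theorem classify_small (hG : ¬ IsCyclic G) (w : G)
    (hw : Nat.card ↥(centralizer ({w} : Set G)) ≤ 4) :
    Nonempty (G ≃* ↥(alternatingGroup (Fin 5))) ∨ Nonempty (G ≃* ↥(alternatingGroup (Fin 6))) ∨
      Nonempty (G ≃* ↥(alternatingGroup (Fin 7))) ∨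
      Nonempty (G ≃* Matrix.ProjectiveSpecialLinearGroup (Fin 2) (ZMod 7)) := by
  classical
  haveI : Fact (Nat.Prime 2) := ⟨Nat.prime_two⟩
  set C := centralizer ({w} : Set G) with hCdef
  have hwC : w ∈ C := mem_centralizer_singleton_iff.2 rfl
  have hdvd : orderOf w ∣ Nat.card C := C.orderOf_dvd_natCard hwC
  have hw1 : w ≠ 1 := by
    rintro rfl
    have hall : C = ⊤ := eq_top_iff.2 fun g _ => mem_centralizer_singleton_iff.2 (by simp)
    rw [hall, Subgroup.card_top] at hw
    rcases (by have := Nat.card_pos (α := G); omega :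
      Nat.card G = 1 ∨ Nat.card G = 2 ∨ Nat.card G = 3 ∨ Nat.card G = 4) with h | h | h | h
    · have := Finite.one_lt_card (α := G); omega
    · exact hG (isCyclic_of_prime_card (p := 2) h)
    · haveI : Fact (Nat.Prime 3) := ⟨Nat.prime_three⟩
      exact hG (isCyclic_of_prime_card (p := 3) h)
    · exact not_isPGroup hG (IsPGroup.of_card (p := 2) (n := 2) (by rw [h]; norm_num))
  have ho1 : orderOf w ≠ 1 := fun h => hw1 (orderOf_eq_one_iff.1 h)
  have hzle : zpowers w ≤ C := zpowers_le.2 hwC
  have hself : Nat.card C = orderOf w → C = zpowers w := fun h =>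
    (eq_of_le_of_card_ge hzle (by rw [Nat.card_zpowers, h])).symm
  have ho0 := orderOf_pos w
  have hole := Nat.le_of_dvd Nat.card_pos hdvd
  have hev : ∀ x : G, 2 ∣ orderOf x → Even (Nat.card G) := fun x h =>
    even_iff_two_dvd.2 (h.trans (orderOf_dvd_natCard x))
  have hfour : ∀ x : G, orderOf x = 4 → centralizer ({x} : Set G) = zpowers x →
      Nonempty (G ≃* ↥(alternatingGroup (Fin 5))) ∨ Nonempty (G ≃* ↥(alternatingGroup (Fin 6))) ∨
      Nonempty (G ≃* ↥(alternatingGroup (Fin 7))) ∨
      Nonempty (G ≃* Matrix.ProjectiveSpecialLinearGroup (Fin 2) (ZMod 7)) := by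
    intro x hx hxC
    obtain ⟨F⟩ := exists_frame hG hx hxC
    exact Or.inr F.classify
  rcases (by omega : orderOf w = 2 ∨ orderOf w = 3 ∨ orderOf w = 4) with h | h | h
  · rcases (by rw [h] at hdvd; omega : Nat.card C = 2 ∨ Nat.card C = 4) with hc | hc
    · -- a self-centralizing involution
      exfalso
      have hp : IsPGroup 2 (zpowers w) := IsPGroup.of_card (n := 1) (by rw [Nat.card_zpowers, h, pow_one])
      obtain ⟨P, hP⟩ := hp.exists_le_sylow
      haveI : Nontrivial (P : Subgroup G) :=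
        ⟨⟨w, hP (mem_zpowers w)⟩, 1, fun e => hw1 (congrArg Subtype.val e)⟩
      haveI := P.isPGroup'.center_nontrivial
      obtain ⟨c, hc1⟩ := exists_ne (1 : center (P : Subgroup G))
      have hcC : ((c : (P : Subgroup G)) : G) ∈ C := mem_centralizer_singleton_iff.2
        (congrArg Subtype.val (mem_center_iff.1 c.2 ⟨w, hP (mem_zpowers w)⟩).symm)
      rw [hself (hc.trans h.symm)] at hcC
      have hcw : ((c : (P : Subgroup G)) : G) = w := by
        rw [mem_zpowers_iff_mem_range_orderOf, h, Finset.mem_image] at hcC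
        obtain ⟨i, hi, he⟩ := hcC
        rw [Finset.mem_range] at hi
        rcases (by omega : i = 0 ∨ i = 1) with rfl | rfl
        · exact absurd (Subtype.ext (Subtype.ext (by simpa using he.symm))) hc1
        · simpa using he.symm
      have hPC : (P : Subgroup G) ≤ C := fun x hx => mem_centralizer_singleton_iff.2 (by
        rw [← hcw]; exact congrArg Subtype.val (mem_center_iff.1 c.2 ⟨x, hx⟩))
      rw [hself (hc.trans h.symm)] at hPC
      refine sylow_not_cyclic hG (hev w (by rw [h])) P ?_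
      rw [le_antisymm hPC hP]
      infer_instance
    · by_cases hex : ∀ c ∈ C, c ^ 2 = 1
      · refine Or.inl (CfsgLib.CentFour.nonempty_iso h hc hex (no_complement hG (hev w (by rw [h]))) ?_)
        intro E hE hEa
        rcases IsSimpleGroup.eq_bot_or_eq_top_of_normal E hE with e | e
        · rw [e, Subgroup.card_bot]; omega
        · exfalso
          refine not_comm_of_not_cyclic hG ⟨⟨fun x y => ?_⟩⟩
          exact congrArg Subtype.val
            (hEa.1.is_comm.comm (⟨x, e ▸ mem_top x⟩ : E) ⟨y, e ▸ mem_top y⟩)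
      · push Not at hex
        obtain ⟨c, hc', hc2⟩ := hex
        have hco : orderOf c = 4 := by
          have h1 := C.orderOf_dvd_natCard hc'
          rw [hc, show 4 = 2 ^ 2 by norm_num, Nat.dvd_prime_pow Nat.prime_two] at h1
          obtain ⟨j, hj, he⟩ := h1
          have hj2 : j = 2 := by
            by_contra hne
            exact hc2 (orderOf_dvd_iff_pow_eq_one.1 (he ▸ by
              rcases (by omega : j = 0 ∨ j = 1) with rfl | rfl <;> norm_num))
          rw [he, hj2]; norm_num
        have hCc : zpowers c = C :=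
          eq_of_le_of_card_ge (zpowers_le.2 hc') (by rw [Nat.card_zpowers, hco, hc])
        refine hfour c hco (le_antisymm (fun x hx => ?_)
          (zpowers_le.2 (mem_centralizer_singleton_iff.2 rfl)))
        rw [hCc]
        obtain ⟨i, hi⟩ := mem_zpowers_iff.1 (hCc.symm ▸ hwC : w ∈ zpowers c)
        refine mem_centralizer_singleton_iff.2 ?_
        rw [← hi]
        exact ((show Commute x c from mem_centralizer_singleton_iff.1 hx).zpow_right i).eq
  · have hc : Nat.card C = 3 := by rw [h] at hdvd hole; omega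
    haveI : Fact (Nat.Prime 3) := ⟨Nat.prime_three⟩
    rcases CfsgLib.SelfThree.main (x := w) ⟨h, hself (hc.trans h.symm)⟩ with
      ⟨N, hN, -, -, hq⟩ | ⟨N, hN, hNc, -, hq⟩ | hq
    · exfalso
      rcases IsSimpleGroup.eq_bot_or_eq_top_of_normal N hN with e | e <;> subst e
      · rcases hq with hq | ⟨⟨e⟩⟩
        · rw [Nat.card_congr QuotientGroup.quotientBot.toEquiv] at hq
          exact hG (isCyclic_of_prime_card hq)
        · let f : G →* Equiv.Perm (Fin 3) :=
            e.toMonoidHom.comp (QuotientGroup.quotientBot (G := G)).symm.toMonoidHom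
          have hf : Function.Surjective f := e.surjective.comp (MulEquiv.surjective _)
          refine no_index_two' hG ((Equiv.Perm.sign.comp f).ker) ?_
          rw [index_ker, MonoidHom.range_eq_top.2 (show Function.Surjective (Equiv.Perm.sign.comp f) from
            (Equiv.Perm.sign_surjective (Fin 3)).comp hf),
            Subgroup.card_top]
          simp
      · have h1 : Nat.card (G ⧸ (⊤ : Subgroup G)) = 1 := by rw [← Subgroup.index_eq_card, index_top]
        rcases hq with hq | ⟨⟨e⟩⟩
        · omega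
        · have := Nat.card_congr e.toEquiv
          rw [h1, Nat.card_perm, Nat.card_fin] at this
          norm_num [Nat.factorial] at this
    · rcases IsSimpleGroup.eq_bot_or_eq_top_of_normal N hN with e | e <;> subst e
      · exact Or.inl (hq.map fun e => (QuotientGroup.quotientBot (G := G)).symm.trans e)
      · exfalso
        exact not_comm_of_not_cyclic hG ⟨⟨fun x y =>
          congrArg Subtype.val (hNc.is_comm.comm (⟨x, mem_top x⟩ : (⊤ : Subgroup G)) ⟨y, mem_top y⟩)⟩⟩
    · exact Or.inr (Or.inr (Or.inr hq))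
  · refine hfour w h (hself ?_)
    rw [h] at hdvd hole ⊢
    omega

end CfsgLib.SmallCent
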