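import Cfsg.Agent.SmallCent.Local
import Cfsg.Agent.Signalizer.Wielandt

/-!
The odd part of the centralizer of `A` and of an element of `B`.
-/

set_option autoImplicit false
set_option linter.style.haveILetI false

namespace CfsgLib.SmallCent

open scoped Pointwise

universe u

variable {G : Type u} [Group G] [Finite G]

omit [Finite G] in
theorem eq_of_sq {x y : G} (hc : Commute x y) (hx : Odd (orderOf x)) (hy : Odd (orderOf y))
    (h : x * x = y * y) : x = y := by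
  have h1 : Odd (orderOf (x * y⁻¹)) := by
    refine Odd.of_dvd_nat ?_ hc.inv_right.orderOf_mul_dvd_mul_orderOf
    rw [orderOf_inv]
    exact hx.mul hy
  refine mul_inv_eq_one.1 (eq_one_of_sq_of_odd h1 ?_)
  calc x * y⁻¹ * (x * y⁻¹) = x * (y⁻¹ * x) * y⁻¹ := by group
    _ = (x * x) * (y⁻¹ * y⁻¹) := by rw [← hc.inv_right.eq]; group
    _ = 1 := by rw [h]; group

omit [Finite G] in
theorem exists_four {u v : G} (hu : u * u = 1) (hv : v * v = 1) (huv : u * v = v * u) (hu1 : u ≠ 1)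
    (hv1 : v ≠ 1) (hne : u ≠ v) :
    ∃ E : Subgroup G, Nat.card E = 4 ∧ Cfsg.IsElementaryAbelian 2 E ∧
      ∀ x, x ∈ E ↔ (x = 1 ∨ x = u ∨ x = v ∨ x = u * v) := by
  classical
  have e1 : u * (u * v) = v := by rw [← mul_assoc, hu, one_mul]
  have e2 : u * v * u = v := by rw [mul_assoc, ← huv, e1]
  have e3 : v * (u * v) = u := by rw [← mul_assoc, ← huv, mul_assoc, hv, mul_one]
  have e4 : u * v * v = u := by rw [mul_assoc, hv, mul_one]
  have e5 : u * v * (u * v) = 1 := by rw [← mul_assoc, e2, hv]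
  let E : Subgroup G :=
    { carrier := {x | x = 1 ∨ x = u ∨ x = v ∨ x = u * v}
      one_mem' := Or.inl rfl
      mul_mem' := by
        rintro x y (hx | hx | hx | hx) (hy | hy | hy | hy) <;> subst x <;> subst y <;>
          simp [hu, hv, e1, e2, e3, e4, e5, huv.symm]
      inv_mem' := by
        rintro x (hx | hx | hx | hx) <;> subst x
        · simp
        · exact Or.inr (Or.inl (inv_eq_of_mul_eq_one_right hu))
        · exact Or.inr (Or.inr (Or.inl (inv_eq_of_mul_eq_one_right hv)))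
        · exact Or.inr (Or.inr (Or.inr (inv_eq_of_mul_eq_one_right e5))) }
  have hmem : ∀ x, x ∈ E ↔ (x = 1 ∨ x = u ∨ x = v ∨ x = u * v) := fun x => Iff.rfl
  refine ⟨E, ?_, ⟨⟨⟨fun p q => ?_⟩⟩, fun x hx => ?_⟩, hmem⟩
  · have hn1 : u * v ≠ 1 := fun h => hne (by
      rw [mul_eq_one_iff_eq_inv.1 h, inv_eq_of_mul_eq_one_right hv])
    have hset : (E : Set G) = ↑({1, u, v, u * v} : Finset G) := by
      ext x; simp [hmem]
    rw [← SetLike.coe_sort_coe, Nat.card_coe_set_eq, hset, Set.ncard_coe_finset]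
    have hnu : u * v ≠ u := fun h => hv1 (mul_eq_left.1 h)
    have hnv : u * v ≠ v := fun h => hu1 (mul_eq_right.1 h)
    simp [hu1.symm, hv1.symm, hne, hn1.symm, hnu.symm, hnv.symm]
  · obtain ⟨x, hx⟩ := p
    obtain ⟨y, hy⟩ := q
    refine Subtype.ext ?_
    show x * y = y * x
    rcases hx with hx | hx | hx | hx <;> rcases hy with hy | hy | hy | hy <;> subst x <;> subst y <;>
      simp [hu, hv, e1, e2, e3, e4, e5, huv.symm]
  · rcases hx with hx | hx | hx | hx <;> subst x <;> simp [sq, hu, hv, e5]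

/-- An odd-order subgroup on which the centralizer of each involution of a four group lies in
`X` is contained in `X`. -/
theorem le_of_centralizers {u v : G} (hu : u * u = 1) (hv : v * v = 1) (huv : u * v = v * u)
    (hu1 : u ≠ 1) (hv1 : v ≠ 1) (hne : u ≠ v) {D X : Subgroup G} (hD : Odd (Nat.card D))
    (huD : ∀ d ∈ D, u * d * u⁻¹ ∈ D) (hvD : ∀ d ∈ D, v * d * v⁻¹ ∈ D)
    (huX : ∀ d ∈ X, u * d * u⁻¹ ∈ X) (hvX : ∀ d ∈ X, v * d * v⁻¹ ∈ X)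
    (hU : ∀ d ∈ D, d * u = u * d → d ∈ X) (hV : ∀ d ∈ D, d * v = v * d → d ∈ X)
    (hW : ∀ d ∈ D, d * (u * v) = u * v * d → d ∈ X) : D ≤ X := by
  haveI : Fact (Nat.Prime 2) := ⟨Nat.prime_two⟩
  obtain ⟨E, hE4, hE, hmem⟩ := exists_four hu hv huv hu1 hv1 hne
  have hnorm : ∀ Y : Subgroup G, (∀ d ∈ Y, u * d * u⁻¹ ∈ Y) → (∀ d ∈ Y, v * d * v⁻¹ ∈ Y) →
      E ≤ Subgroup.normalizer (Y : Set G) := fun Y hY1 hY2 => by
    refine CfsgLib.Signalizer.le_normalizer_of_conj_mem fun e he d hd => ?_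
    rcases (hmem e).1 he with rfl | rfl | rfl | rfl
    · simpa using hd
    · exact hY1 d hd
    · exact hY2 d hd
    · have := hY1 _ (hY2 d hd)
      simpa [mul_assoc] using this
  have hEDX : E ≤ Subgroup.normalizer ((D ⊓ X : Subgroup G) : Set G) :=
    hnorm _ (fun d hd => ⟨huD d hd.1, huX d hd.2⟩) fun d hd => ⟨hvD d hd.1, hvX d hd.2⟩
  have hEb : E ≤ Subgroup.normalizer ((⊥ : Subgroup G) : Set G) :=
    hnorm _ (fun d hd => by simp [Subgroup.mem_bot.1 hd]) fun d hd => by simp [Subgroup.mem_bot.1 hd]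
  have h := CfsgLib.Signalizer.coe_eq_mul_of_centralizers (p := 2) hE (by rw [hE4]; norm_num)
    (K := D) (X := D ⊓ X) (Y := ⊥) (fun h2 => Nat.not_even_iff_odd.2 hD (even_iff_two_dvd.2 h2))
    (hnorm D huD hvD) inf_le_left bot_le hEDX hEb (fun a ha ha1 k hk => by
      obtain ⟨hkD, hka⟩ := Subgroup.mem_inf.1 hk
      have hka' := Subgroup.mem_centralizer_singleton_iff.1 hka
      refine ⟨k, ⟨⟨hkD, ?_⟩, hka⟩, 1, one_mem _, (mul_one k).symm⟩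
      rcases (hmem a).1 ha with rfl | rfl | rfl | rfl
      · exact absurd rfl ha1
      · exact hU k hkD hka'
      · exact hV k hkD hka'
      · exact hW k hkD hka')
  intro d hd
  have hd' : d ∈ ((D ⊓ X : Subgroup G) : Set G) * ((⊥ : Subgroup G) : Set G) := h ▸ hd
  obtain ⟨x, hx, y, hy, rfl⟩ := hd'
  rw [Subgroup.mem_bot.1 hy]
  show x * 1 ∈ X
  rw [mul_one]
  exact hx.2

namespace Frame

variable (F : Frame G)

/-- The part of `φAφ⁻¹` centralizing `A`. -/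
noncomputable def Astar : Subgroup G := F.CA ⊓ F.A.map (MulAut.conj F.φ).toMonoidHom

theorem mem_Astar {x : G} : x ∈ F.Astar ↔ x ∈ F.CA ∧ ∃ a ∈ F.A, F.φ * a * F.φ⁻¹ = x := by
  simp only [Astar, Subgroup.mem_inf, Subgroup.mem_map]
  rfl

theorem Astar_props {x : G} (hx : x ∈ F.Astar) : x ∈ F.CA ∧ Odd (orderOf x) ∧
    x * F.s = F.s * x ∧ F.z * x * F.z⁻¹ = x⁻¹ ∧ ∀ b ∈ F.B, x * b = b * x := by
  obtain ⟨h, a, ha, rfl⟩ := F.mem_Astar.1 hx
  exact ⟨h, odd_conj (F.odd_of_mem (F.A_le ha)), F.φA_comm_s ha, F.z_inverts_φA ha,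
    fun b hb => F.φA_comm_B ha hb⟩

theorem card_Astar_dvd : Nat.card F.Astar ∣ Nat.card F.A := by
  exact (Subgroup.card_dvd_of_le inf_le_right).trans
    (dvd_of_eq (Subgroup.card_map_of_injective (f := (MulAut.conj F.φ).toMonoidHom)
      (MulAut.conj F.φ).injective))

theorem A_ne_bot (hα : F.Astar ≠ ⊥) : F.A ≠ ⊥ := fun h => hα (by
  rw [Astar, h, Subgroup.map_bot, inf_bot_eq])

theorem s_not_CA (hA : F.A ≠ ⊥) : F.s ∉ F.CA := fun h => by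
  obtain ⟨a, ha, ha1⟩ := (Subgroup.bot_or_exists_ne_one F.A).resolve_left hA
  have h1 := F.s_inverts_A ha
  rw [mul_inv_eq_of_eq_mul (F.mem_CA.1 h a ha).symm] at h1
  exact ha1 (eq_one_of_sq_of_odd (F.odd_of_mem (F.A_le ha)) (mul_eq_one_iff_eq_inv.2 h1))

theorem σ_not_CA (hA : F.A ≠ ⊥) : F.σ ∉ F.CA := fun h => F.s_not_CA hA (mul_mem h F.τ_CA)

/-- The odd part of the centralizer of `A` and `y`. -/
theorem exists_D (hA : F.A ≠ ⊥) {y : G} (hy : y ∈ F.B) (hy1 : y ≠ 1) :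
    ∃ D : Subgroup G, Odd (Nat.card D) ∧
      ∀ d, d ∈ D ↔ d ∈ F.CA ∧ d * y = y * d ∧ Odd (orderOf d) := by
  set K := F.CA ⊓ Subgroup.centralizer ({y} : Set G) with hK
  have hmemK : ∀ {g : G}, g ∈ K ↔ g ∈ F.CA ∧ g * y = y * g := by
    intro g; simp [hK, Subgroup.mem_centralizer_singleton_iff]
  have hzK : F.z ∈ K := hmemK.2 ⟨F.z_CA, (F.z_comm (F.B_le hy)).symm⟩
  obtain ⟨D, hDK, hD, -, -, -, -, hDodd⟩ := exists_complement K F.z_sq F.z_ne hzK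
    (fun x hxK hxz T hT hxT hzT hTp => by
      obtain ⟨hxA, hxy⟩ := hmemK.1 hxK
      obtain ⟨o, ho, w, hw, rfl⟩ := F.exists_decomp (F.mem_C.2 hxz)
      have hwA : w ∈ F.CA := (F.CA.mul_mem_cancel_left (F.O_le_CA ho)).1 hxA
      have hoy : Commute o y := F.O_comm ho (F.B_le hy)
      have hwy : Commute w y := by
        have := hoy.inv_left.mul_left (show Commute (o * w) y from hxy)
        rwa [inv_mul_cancel_left] at this
      have hyne : y ≠ y⁻¹ := fun h =>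
        hy1 (eq_one_of_sq_of_odd (F.odd_of_mem (F.B_le hy)) (mul_eq_one_iff_eq_inv.2 h))
      have hzy : F.z * y * F.z⁻¹ = y := mul_inv_eq_of_eq_mul (F.z_comm (F.B_le hy)).symm
      have hinv : ∀ v : G, v * y * v⁻¹ = y⁻¹ → ¬ Commute v y := fun v hv hc =>
        hyne (by rwa [mul_inv_eq_of_eq_mul hc.eq] at hv)
      have hzinv : ∀ v : G, v * y * v⁻¹ = y⁻¹ → (F.z * v) * y * (F.z * v)⁻¹ = y⁻¹ := fun v hv => by
        calc (F.z * v) * y * (F.z * v)⁻¹ = F.z * (v * y * v⁻¹) * F.z⁻¹ := by group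
          _ = y⁻¹ := by rw [hv, ← conj_inv, hzy]
      obtain ⟨k, hk⟩ := IsPGroup.iff_orderOf.1 hTp ⟨o * w, hxT⟩
      rw [← Subgroup.orderOf_coe] at hk
      have hoo : ∀ v : G, v ∈ (F.syl : Subgroup G) → Commute o v → v * v = 1 → w = v →
          o * w = v := by
        rintro v hv hov hvv rfl
        have hd : orderOf (o * o) ∣ 2 ^ k := by
          rw [← hk]
          have : o * w * (o * w) = o * o := by
            rw [mul_assoc, ← mul_assoc w o w, ← hov.eq, mul_assoc o w w, hvv, mul_one]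
          rw [← this, ← sq]
          exact orderOf_pow_dvd 2
        have h2 : o * o = 1 := orderOf_eq_one_iff.1 (Nat.eq_one_of_dvd_coprimes
          ((Nat.coprime_two_left.2 (F.odd_of_mem (mul_mem ho ho))).pow_left k) hd dvd_rfl)
        rw [eq_one_of_sq_of_odd (F.odd_of_mem ho) h2, one_mul]
      rcases F.syl_cases hw with h | h | h | h | h | h | h | h
      · exact Or.inl (hoo 1 (one_mem _) (Commute.one_right o) (one_mul 1) h)
      · subst w; exact absurd hwy (hinv _ (F.inverts_σ (F.B_le hy)))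
      · exact Or.inr (hoo F.z (h ▸ hw) (F.z_comm ho) F.z_sq h)
      · subst w; exact absurd hwy (hinv _ (hzinv _ (F.inverts_σ (F.B_le hy))))
      · subst w; exact absurd hwy (hinv _ (F.τ_inverts_B hy))
      · subst w; exact absurd hwA (F.s_not_CA hA)
      · subst w; exact absurd hwy (hinv _ (hzinv _ (F.τ_inverts_B hy)))
      · subst w; exact absurd ((F.CA.mul_mem_cancel_left F.z_CA).1 hwA) (F.s_not_CA hA))
  refine ⟨D, hD, fun d => ⟨fun hd => ?_, fun ⟨h1, h2, h3⟩ => hDodd d (hmemK.2 ⟨h1, h2⟩) h3⟩⟩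
  obtain ⟨h1, h2⟩ := hmemK.1 (hDK hd)
  exact ⟨h1, h2, odd_orderOf_of_mem hD hd⟩

theorem zs_comm {x : G} (h : x * (F.z * F.s) = F.z * F.s * x) :
    F.φ * x * F.φ⁻¹ * F.z = F.z * (F.φ * x * F.φ⁻¹) := by
  rw [← F.φ_zs]; exact comm_conj h

/-- Odd elements centralizing `A` and some non-identity element of `B` centralize `B`. -/
theorem key_comm_B (hA : F.A ≠ ⊥) {y : G} (hy : y ∈ F.B) (hy1 : y ≠ 1) {d : G} (hd : d ∈ F.CA)
    (hdy : d * y = y * d) (ho : Odd (orderOf d)) {b : G} (hb : b ∈ F.B) : d * b = b * d := by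
  obtain ⟨D, hD, hmem⟩ := F.exists_D hA hy hy1
  have hnorm : ∀ v : G, v * v = 1 → (∀ x ∈ F.A, v⁻¹ * x * v ∈ F.A) → v * y * v⁻¹ = y →
      ∀ e ∈ D, v * e * v⁻¹ ∈ D := by
    intro v _ hvA hvy e he
    obtain ⟨h1, h2, h3⟩ := (hmem e).1 he
    refine (hmem _).2 ⟨F.CA_conj hvA h1, ?_, odd_conj h3⟩
    conv_lhs => rw [← hvy]
    conv_rhs => rw [← hvy]
    exact comm_conj h2
  set X := Subgroup.centralizer (F.B : Set G) with hX
  have hXn : ∀ v : G, (∀ x ∈ F.B, v * x = x * v) → ∀ e ∈ X, v * e * v⁻¹ ∈ X := fun v hv e he =>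
    mul_mem (mul_mem (Subgroup.mem_centralizer_iff.2 fun x hx => (hv x hx).symm) he)
      (inv_mem (Subgroup.mem_centralizer_iff.2 fun x hx => (hv x hx).symm))
  have hzA : ∀ x ∈ F.A, F.z⁻¹ * x * F.z ∈ F.A := fun x hx => by
    rwa [mul_assoc, F.z_comm (F.A_le hx), inv_mul_cancel_left]
  have hle : D ≤ X := le_of_centralizers F.z_sq F.s_sq F.s_z.symm F.z_ne F.s_ne F.s_ne_z.symm hD
    (hnorm _ F.z_sq hzA (mul_inv_eq_of_eq_mul (F.z_comm (F.B_le hy)).symm))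
    (hnorm _ F.s_sq (fun x hx => F.s_normA hx) (mul_inv_eq_of_eq_mul (F.mem_B.1 hy).2.symm))
    (hXn _ fun x hx => (F.z_comm (F.B_le hx)).symm) (hXn _ fun x hx => (F.mem_B.1 hx).2.symm)
    (fun e he hc => Subgroup.mem_centralizer_iff.2 fun x hx =>
      F.O_comm (F.B_le hx) (F.mem_O (F.mem_C.2 hc) ((hmem e).1 he).2.2))
    (fun e he hc => Subgroup.mem_centralizer_iff.2 fun x hx => by
      obtain ⟨b', hb', a, ha, rfl⟩ := F.odd_comm_s ((hmem e).1 he).2.2 hc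
      exact ((show Commute x b' from F.O_comm (F.B_le hx) (F.B_le hb')).mul_right
        (show Commute (F.φ * a * F.φ⁻¹) x from F.φA_comm_B ha hx).symm).eq)
    (fun e he hc => Subgroup.mem_centralizer_iff.2 fun x hx => by
      have h1 := F.O_comm (F.B_le hx) (F.mem_O (F.mem_C.2 (F.zs_comm hc)) (odd_conj ((hmem e).1 he).2.2))
      have h2 := comm_conj (g := F.φ⁻¹) h1
      have e1 : F.φ⁻¹ * x * F.φ⁻¹⁻¹ = x := by
        conv_lhs => rw [← F.φ_CB hx]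
        group
      have e2 : F.φ⁻¹ * (F.φ * e * F.φ⁻¹) * F.φ⁻¹⁻¹ = e := by group
      rwa [e1, e2] at h2)
  exact (Subgroup.mem_centralizer_iff.1 (hle ((hmem d).2 ⟨hd, hdy, ho⟩)) b hb).symm

/-- If `A*` and `B` are non-trivial, some non-trivial element of `θBθ⁻¹` centralizes `B`. -/
theorem exists_witness (hα : F.Astar ≠ ⊥) (hB : F.B ≠ ⊥) :
    ∃ b₀ ∈ F.B, b₀ ≠ 1 ∧ ∀ b ∈ F.B, F.θ * b₀ * F.θ⁻¹ * b = b * (F.θ * b₀ * F.θ⁻¹) := by
  have hA := F.A_ne_bot hα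
  obtain ⟨y, hy, hy1⟩ := (Subgroup.bot_or_exists_ne_one F.B).resolve_left hB
  obtain ⟨x, hx, hx1⟩ := (Subgroup.bot_or_exists_ne_one F.Astar).resolve_left hα
  obtain ⟨hxA, hxo, -, hxz, hxB⟩ := F.Astar_props hx
  obtain ⟨D, hD, hmem⟩ := F.exists_D hA hy hy1
  by_contra hno
  push Not at hno
  have hτA : ∀ a ∈ F.A, F.τ⁻¹ * a * F.τ ∈ F.A := fun a ha => by
    rwa [mul_assoc, (F.mem_A.1 ha).2, inv_mul_cancel_left]
  have hinvD : ∀ v : G, (∀ a ∈ F.A, v⁻¹ * a * v ∈ F.A) → v * y * v⁻¹ = y⁻¹ →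
      ∀ e ∈ D, v * e * v⁻¹ ∈ D := by
    intro v hvA hvy e he
    obtain ⟨h1, h2, h3⟩ := (hmem e).1 he
    refine (hmem _).2 ⟨F.CA_conj hvA h1, ?_, odd_conj h3⟩
    have h4 := comm_conj (g := v) h2
    rw [hvy] at h4
    simpa using (Commute.inv_right (show Commute _ y⁻¹ from h4)).eq
  have hτD := hinvD F.τ hτA (F.τ_inverts_B hy)
  have hAD : ∀ a ∈ F.A, a ∈ D := fun a ha => (hmem a).2
    ⟨F.O_le_CA (F.A_le ha), F.O_comm (F.A_le ha) (F.B_le hy), F.odd_of_mem (F.A_le ha)⟩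
  have hfix : ∀ e ∈ D, e * F.τ = F.τ * e → e ∈ F.A := by
    intro e he hc
    obtain ⟨h1, h2, h3⟩ := (hmem e).1 he
    obtain ⟨a, ha, b, hb, rfl⟩ := F.odd_comm_τ h3 hc
    by_cases hb1 : b = 1
    · simpa [hb1] using ha
    exfalso
    obtain ⟨b', hb', hne⟩ := hno b hb hb1
    apply hne
    have hc1 := F.key_comm_B hA hy hy1 h1 h2 h3 hb'
    have hc2 : Commute a b' := F.O_comm (F.A_le ha) (F.B_le hb')
    have := hc2.inv_left.mul_left (show Commute _ b' from hc1)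
    rw [inv_mul_cancel_left] at this
    exact this
  have hσD : ∀ e ∈ D, F.σ⁻¹ * e * F.σ ∈ D := by
    intro e he
    have := hinvD F.σ⁻¹ (fun a ha => by
      rw [inv_inv, F.inverts_σ (F.A_le ha)]; exact inv_mem ha) (by
      rw [inv_inv]
      calc F.σ⁻¹ * y * F.σ = F.σ⁻¹ * (F.σ * y⁻¹ * F.σ⁻¹) * F.σ := by
            rw [F.inverts_σ (inv_mem (F.B_le hy)), inv_inv]
        _ = y⁻¹ := by group) e he
    rwa [inv_inv] at this
  have hfix' : ∀ e ∈ D, e * (F.z * F.τ) = F.z * F.τ * e → e ∈ F.A := by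
    intro e he hc
    rw [← F.σ_τ_σ] at hc
    have h1 : F.σ⁻¹ * e * F.σ * F.τ = F.τ * (F.σ⁻¹ * e * F.σ) := by
      calc F.σ⁻¹ * e * F.σ * F.τ = F.σ⁻¹ * (e * (F.σ * F.τ * F.σ⁻¹)) * F.σ := by group
        _ = F.σ⁻¹ * ((F.σ * F.τ * F.σ⁻¹) * e) * F.σ := by rw [hc]
        _ = _ := by group
    have h2 := hfix _ (hσD e he) h1
    have h3 : e = (F.σ⁻¹ * e * F.σ)⁻¹ := by
      rw [← F.inverts_σ (F.A_le h2)]; group
    rw [h3]; exact inv_mem h2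
  have hcent : ∀ a ∈ F.A, ∀ e ∈ D, a * e = e * a := fun a ha e he => F.mem_CA.1 ((hmem e).1 he).1 a ha
  have hdec : ∀ v : G, v * v = 1 → (∀ e ∈ D, v * e * v⁻¹ ∈ D) →
      (∀ e ∈ D, e * v = v * e → e ∈ F.A) →
      ∀ e ∈ D, ∃ i ∈ D, ∃ c ∈ F.A, e = i * c ∧ v * e * v⁻¹ = i⁻¹ * c := by
    intro v hv hvD hvA e he
    have hm : e * (v * e⁻¹ * v⁻¹) ∈ D := mul_mem he (hvD _ (inv_mem he))
    obtain ⟨k, hk⟩ := exists_sqrt (odd_orderOf_of_mem hD hm)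
    set q := e * (v * e⁻¹ * v⁻¹) with hq
    set i := q ^ k with hi
    have hvq : v * q * v⁻¹ = q⁻¹ := by
      calc v * q * v⁻¹ = (v * e * v⁻¹) * ((v * v) * e⁻¹ * (v * v)⁻¹) := by rw [hq]; group
        _ = q⁻¹ := by rw [hv, hq]; group
    have hvi : v * i * v⁻¹ = i⁻¹ := by rw [hi, ← conj_pow, hvq, inv_pow]
    have hiD : i ∈ D := pow_mem hm k
    have hve : v * e * v⁻¹ = (i * i)⁻¹ * e := by rw [hk, hq]; group
    have hc : v * (i⁻¹ * e) * v⁻¹ = i⁻¹ * e := by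
      rw [← conj_mul, ← conj_inv, hvi, inv_inv, hve]; group
    refine ⟨i, hiD, i⁻¹ * e, hvA _ (mul_mem (inv_mem hiD) he) (mul_inv_eq_iff_eq_mul.1 hc).symm,
      by group, ?_⟩
    rw [hve]; group
  have hzτD : ∀ e ∈ D, F.z * F.τ * e * (F.z * F.τ)⁻¹ ∈ D := fun e he => by
    refine hinvD (F.z * F.τ) (fun a ha => ?_) ?_ e he
    · have : F.z * F.τ * a = a * (F.z * F.τ) := by
        rw [← mul_assoc, F.z_comm (F.A_le ha), mul_assoc, ← (F.mem_A.1 ha).2, ← mul_assoc]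
      rwa [mul_assoc, ← this, inv_mul_cancel_left]
    · calc F.z * F.τ * y * (F.z * F.τ)⁻¹ = F.z * (F.τ * y * F.τ⁻¹) * F.z⁻¹ := by group
        _ = y⁻¹ := by
          rw [F.τ_inverts_B hy]
          exact mul_inv_eq_of_eq_mul (F.z_comm (inv_mem (F.B_le hy))).symm
  have hxD : x ∈ D := (hmem x).2 ⟨hxA, hxB y hy, hxo⟩
  obtain ⟨i, hi, c, hc, e1, e2⟩ := hdec F.τ F.τ_sq hτD hfix x hxD
  obtain ⟨j, hj, c', hc', e3, e4⟩ := hdec (F.z * F.τ) F.z_τ_sq hzτD hfix' x hxD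
  have hzc : ∀ a ∈ F.A, F.z * a * F.z⁻¹ = a := fun a ha => mul_inv_eq_of_eq_mul (F.z_comm (F.A_le ha)).symm
  set e := c⁻¹ * c' * (c' * c⁻¹) with he
  have heA : e ∈ F.A := mul_mem (mul_mem (inv_mem hc) hc') (mul_mem hc' (inv_mem hc))
  have hzi : F.z * i⁻¹ * F.z⁻¹ = i⁻¹ * e := by
    have h1 : F.z * F.τ * x * (F.z * F.τ)⁻¹ = (F.z * i⁻¹ * F.z⁻¹) * c := by
      calc F.z * F.τ * x * (F.z * F.τ)⁻¹ = F.z * (F.τ * x * F.τ⁻¹) * F.z⁻¹ := by group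
        _ = F.z * i⁻¹ * F.z⁻¹ * (F.z * c * F.z⁻¹) := by rw [e2]; group
        _ = _ := by rw [hzc c hc]
    rw [e4] at h1
    have hj2 : j = i * c * c'⁻¹ := by rw [eq_mul_inv_iff_mul_eq, ← e3, e1]
    have hcm : c' * c⁻¹ * i⁻¹ = i⁻¹ * (c' * c⁻¹) := hcent _ (mul_mem hc' (inv_mem hc)) _ (inv_mem hi)
    have hcc : Commute c c' := F.O_comm (F.A_le hc) (F.A_le hc')
    calc F.z * i⁻¹ * F.z⁻¹ = j⁻¹ * c' * c⁻¹ := by rw [h1]; group
      _ = (c' * c⁻¹ * i⁻¹) * c' * c⁻¹ := by rw [hj2]; group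
      _ = i⁻¹ * ((c' * c⁻¹) * (c' * c⁻¹)) := by rw [hcm]; group
      _ = i⁻¹ * e := by rw [he, ← hcc.symm.inv_right.eq]
  have he1 : e = 1 := by
    have h2 : F.z * (F.z * i⁻¹ * F.z⁻¹) * F.z⁻¹ = i⁻¹ := by
      calc F.z * (F.z * i⁻¹ * F.z⁻¹) * F.z⁻¹ = (F.z * F.z) * i⁻¹ * (F.z * F.z)⁻¹ := by group
        _ = i⁻¹ := by rw [F.z_sq]; group
    rw [hzi, ← conj_mul, hzi, hzc e heA, mul_assoc, mul_eq_left] at h2
    exact eq_one_of_sq_of_odd (F.odd_of_mem (F.A_le heA)) h2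
  rw [he1, mul_one] at hzi
  have hzx : F.z * x * F.z⁻¹ = x := by
    rw [e1, ← conj_mul, hzc c hc]
    congr 1
    rw [← conj_inv, inv_inj] at hzi
    exact hzi
  rw [hzx] at hxz
  exact hx1 (eq_one_of_sq_of_odd hxo (mul_eq_one_iff_eq_inv.2 hxz))

/-- `B` and `θBθ⁻¹` commute. -/
theorem B_comm_θB (hα : F.Astar ≠ ⊥) {b b' : G} (hb : b ∈ F.B) (hb' : b' ∈ F.B) :
    b * (F.θ * b' * F.θ⁻¹) = F.θ * b' * F.θ⁻¹ * b := by
  by_cases hB : F.B = ⊥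
  · rw [show b = 1 from Subgroup.mem_bot.1 (hB ▸ hb), one_mul, mul_one]
  obtain ⟨b₀, hb₀, hb₀1, hw⟩ := F.exists_witness hα hB
  have h1 := comm_conj (g := F.θ⁻¹) (hw b hb)
  rw [show F.θ⁻¹ * (F.θ * b₀ * F.θ⁻¹) * F.θ⁻¹⁻¹ = b₀ by group, inv_inv] at h1
  have h2 : F.θ⁻¹ * b * F.θ ∈ F.CA :=
    mul_mem (mul_mem (inv_mem F.θ_CA) (F.O_le_CA (F.B_le hb))) F.θ_CA
  have h3 := F.key_comm_B (F.A_ne_bot hα) hb₀ hb₀1 h2 h1.symm (odd_conj' (F.odd_of_mem (F.B_le hb))) hb'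
  have h4 := comm_conj (g := F.θ) h3
  rwa [show F.θ * (F.θ⁻¹ * b * F.θ) * F.θ⁻¹ = b by group] at h4

/-- If `A*` and `B` are non-trivial then they have the same order. -/
theorem card_Astar_eq (hα : F.Astar ≠ ⊥) (hB : F.B ≠ ⊥) : Nat.card F.Astar = Nat.card F.B := by
  have hA := F.A_ne_bot hα
  obtain ⟨y, hy, hy1⟩ := (Subgroup.bot_or_exists_ne_one F.B).resolve_left hB
  obtain ⟨D, hD, hmem⟩ := F.exists_D hA hy hy1
  have zτo : ∀ x : G, Odd (orderOf x) → x * (F.z * F.τ) = F.z * F.τ * x →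
      ∃ a ∈ F.A, ∃ b ∈ F.B, x = a * (F.θ * (F.θ * b * F.θ⁻¹) * F.θ⁻¹) := by
    intro x ho hc
    have h1 : F.θ⁻¹ * x * F.θ * F.τ = F.τ * (F.θ⁻¹ * x * F.θ) := by
      calc F.θ⁻¹ * x * F.θ * F.τ = F.θ⁻¹ * (x * (F.θ * F.τ * F.θ⁻¹)) * F.θ := by group
        _ = F.θ⁻¹ * ((F.θ * F.τ * F.θ⁻¹) * x) * F.θ := by rw [F.θ_τ, hc]
        _ = _ := by group
    obtain ⟨a, ha, b, hb, e⟩ := F.odd_comm_τ (odd_conj' ho) h1
    refine ⟨a, ha, b, hb, ?_⟩
    calc x = F.θ * (F.θ⁻¹ * x * F.θ) * F.θ⁻¹ := by group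
      _ = (F.θ * a * F.θ⁻¹) * (F.θ * (F.θ * b * F.θ⁻¹) * F.θ⁻¹) := by rw [e, conj_mul]
      _ = _ := by rw [F.θ_A ha]
  -- the three families commute
  set S₀ : Set G := {x | x ∈ F.CA ∧ Odd (orderOf x) ∧ (x * F.z = F.z * x ∨ x * F.τ = F.τ * x ∨
    x * (F.z * F.τ) = F.z * F.τ * x)} with hS₀
  have hzy' : ∀ x ∈ F.CA, Odd (orderOf x) → x * (F.z * F.τ) = F.z * F.τ * x → ∀ b ∈ F.B,
      x * (F.θ * b * F.θ⁻¹) = F.θ * b * F.θ⁻¹ * x := by
    intro x hx ho hc b hb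
    obtain ⟨a, ha, b', hb', rfl⟩ := zτo x ho hc
    have c1 : Commute a (F.θ * b * F.θ⁻¹) := F.mem_CA.1 (F.θB_CA hb) a ha
    have c2 : Commute (F.θ * (F.θ * b' * F.θ⁻¹) * F.θ⁻¹) (F.θ * b * F.θ⁻¹) :=
      comm_conj (F.B_comm_θB hα hb hb').symm
    exact (c1.mul_left c2).eq
  have hzO : ∀ x ∈ F.CA, Odd (orderOf x) → x * (F.z * F.τ) = F.z * F.τ * x → ∀ o ∈ F.O,
      x * o = o * x := by
    intro x hx ho hc o ho'
    obtain ⟨a, ha, b, hb, rfl⟩ := F.exists_AB ho'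
    have c1 : Commute x a := (F.mem_CA.1 hx a ha).symm
    refine (c1.mul_right ?_).eq
    have h1 : F.θ * x * F.θ⁻¹ * F.z = F.z * (F.θ * x * F.θ⁻¹) := by
      rw [← F.θ_zτ]; exact comm_conj hc
    obtain ⟨a', ha', b', hb', e⟩ := F.exists_AB (F.mem_O (F.mem_C.2 h1) (odd_conj ho))
    have c2 : Commute (F.θ * x * F.θ⁻¹) (F.θ * b * F.θ⁻¹) := by
      rw [e]
      exact (show Commute a' _ from F.mem_CA.1 (F.θB_CA hb) a' ha').mul_left (F.B_comm_θB hα hb' hb)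
    have c3 := comm_conj (g := F.θ⁻¹) c2.eq
    rw [show F.θ⁻¹ * (F.θ * x * F.θ⁻¹) * F.θ⁻¹⁻¹ = x by group,
      show F.θ⁻¹ * (F.θ * b * F.θ⁻¹) * F.θ⁻¹⁻¹ = b by group] at c3
    exact c3
  have hcommS : ∀ p ∈ S₀, ∀ q ∈ S₀, p * q = q * p := by
    have hOt : ∀ o ∈ F.O, ∀ x ∈ F.CA, Odd (orderOf x) → x * F.τ = F.τ * x → o * x = x * o := by
      intro o ho x hx hxo hc
      obtain ⟨a, ha, b, hb, rfl⟩ := F.exists_AB ho
      obtain ⟨a', ha', b', hb', rfl⟩ := F.odd_comm_τ hxo hc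
      have c1 : Commute a (a' * (F.θ * b' * F.θ⁻¹)) := F.mem_CA.1 hx a ha
      exact (c1.mul_left ((show Commute b a' from F.O_comm (F.B_le hb) (F.A_le ha')).mul_right
        (F.B_comm_θB hα hb hb'))).eq
    have htw : ∀ x ∈ F.CA, Odd (orderOf x) → x * F.τ = F.τ * x → ∀ w ∈ F.CA, Odd (orderOf w) →
        w * (F.z * F.τ) = F.z * F.τ * w → x * w = w * x := by
      intro x hx hxo hc w hw hwo hcw
      obtain ⟨a, ha, b, hb, rfl⟩ := F.odd_comm_τ hxo hc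
      exact ((show Commute a w from F.mem_CA.1 hw a ha).mul_left
        (show Commute w _ from hzy' w hw hwo hcw b hb).symm).eq
    have htt : ∀ x ∈ F.CA, Odd (orderOf x) → x * F.τ = F.τ * x → ∀ w ∈ F.CA, Odd (orderOf w) →
        w * F.τ = F.τ * w → x * w = w * x := by
      intro x hx hxo hc w hw hwo hcw
      obtain ⟨a, ha, b, hb, rfl⟩ := F.odd_comm_τ hxo hc
      obtain ⟨a', ha', b', hb', rfl⟩ := F.odd_comm_τ hwo hcw
      exact ((show Commute a _ from F.mem_CA.1 hw a ha).mul_left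
        ((show Commute (F.θ * b * F.θ⁻¹) a' from (F.mem_CA.1 (F.θB_CA hb) a' ha').symm).mul_right
          (comm_conj (F.O_comm (F.B_le hb) (F.B_le hb'))))).eq
    have hww : ∀ x ∈ F.CA, Odd (orderOf x) → x * (F.z * F.τ) = F.z * F.τ * x → ∀ w ∈ F.CA,
        Odd (orderOf w) → w * (F.z * F.τ) = F.z * F.τ * w → x * w = w * x := by
      intro x hx hxo hc w hw hwo hcw
      have h1 : ∀ u : G, u * (F.z * F.τ) = F.z * F.τ * u → Odd (orderOf u) →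
          F.θ * u * F.θ⁻¹ ∈ F.O := fun u hu huo =>
        F.mem_O (F.mem_C.2 (by rw [← F.θ_zτ]; exact comm_conj hu)) (odd_conj huo)
      have c3 := comm_conj (g := F.θ⁻¹) (F.O_comm (h1 x hc hxo) (h1 w hcw hwo))
      rw [show F.θ⁻¹ * (F.θ * x * F.θ⁻¹) * F.θ⁻¹⁻¹ = x by group,
        show F.θ⁻¹ * (F.θ * w * F.θ⁻¹) * F.θ⁻¹⁻¹ = w by group] at c3
      exact c3
    rintro p ⟨hp, hpo, hp'⟩ q ⟨hq, hqo, hq'⟩
    rcases hp' with hp' | hp' | hp' <;> rcases hq' with hq' | hq' | hq'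
    · exact F.O_comm (F.mem_O (F.mem_C.2 hp') hpo) (F.mem_O (F.mem_C.2 hq') hqo)
    · exact hOt p (F.mem_O (F.mem_C.2 hp') hpo) q hq hqo hq'
    · exact (hzO q hq hqo hq' p (F.mem_O (F.mem_C.2 hp') hpo)).symm
    · exact (hOt q (F.mem_O (F.mem_C.2 hq') hqo) p hp hpo hp').symm
    · exact htt p hp hpo hp' q hq hqo hq'
    · exact htw p hp hpo hp' q hq hqo hq'
    · exact hzO p hp hpo hp' q (F.mem_O (F.mem_C.2 hq') hqo)
    · exact (htw q hq hqo hq' p hp hpo hp').symm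
    · exact hww p hp hpo hp' q hq hqo hq'
  -- products of the four factors
  have hBA : ∀ b ∈ F.B, ∀ e ∈ F.B, F.θ * e * F.θ⁻¹ ∈ S₀ := fun _ _ e he =>
    ⟨F.θB_CA he, F.θB_odd he, Or.inr (Or.inl (F.θB_comm_τ he))⟩
  have hOS : ∀ o ∈ F.O, o ∈ S₀ := fun o ho => ⟨F.O_le_CA ho, F.odd_of_mem ho, Or.inl (F.z_comm ho)⟩
  let FS : Set G := {x | x ∈ F.CA ∧ Odd (orderOf x) ∧ x * (F.z * F.τ) = F.z * F.τ * x ∧
    F.z * x * F.z⁻¹ = x⁻¹}
  have hFS : ∀ x ∈ FS, x ∈ S₀ := fun x hx => ⟨hx.1, hx.2.1, Or.inr (Or.inr hx.2.2.1)⟩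
  have hzconjA : ∀ a ∈ F.A, F.z * a * F.z⁻¹ = a := fun a ha => mul_inv_eq_of_eq_mul (F.z_comm (F.A_le ha)).symm
  have hzθ : ∀ b ∈ F.B, F.z * (F.θ * (F.θ * b * F.θ⁻¹) * F.θ⁻¹) * F.z⁻¹ =
      (F.θ * (F.θ * b * F.θ⁻¹) * F.θ⁻¹)⁻¹ := by
    intro b hb
    have h : (F.z * F.τ) * (F.θ * b * F.θ⁻¹) * (F.z * F.τ)⁻¹ = (F.θ * b * F.θ⁻¹)⁻¹ := by
      calc (F.z * F.τ) * (F.θ * b * F.θ⁻¹) * (F.z * F.τ)⁻¹
          = F.z * (F.τ * (F.θ * b * F.θ⁻¹) * F.τ⁻¹) * F.z⁻¹ := by group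
        _ = _ := by rw [mul_inv_eq_of_eq_mul (F.θB_comm_τ hb).symm, F.z_inverts_θB hb]
    calc F.z * (F.θ * (F.θ * b * F.θ⁻¹) * F.θ⁻¹) * F.z⁻¹
        = F.θ * ((F.z * F.τ) * (F.θ * b * F.θ⁻¹) * (F.z * F.τ)⁻¹) * F.θ⁻¹ := by
          conv_lhs => rw [← F.θ_zτ]
          group
      _ = _ := by rw [h]; simp only [conj_inv]
  let P : Subgroup G := Subgroup.closure S₀
  have hPcomm : ∀ p ∈ P, ∀ q ∈ P, p * q = q * p := by
    intro p hp q hq
    have h1 : P ≤ Subgroup.centralizer (S₀ : Set G) := (Subgroup.closure_le _).2 fun u hu =>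
      Subgroup.mem_centralizer_iff.2 fun v hv => hcommS v hv u hu
    have h2 : P ≤ Subgroup.centralizer (P : Set G) := by
      rw [Subgroup.centralizer_closure]; exact h1
    exact (Subgroup.mem_centralizer_iff.1 (h2 hp) q hq).symm
  have hform : ∀ p ∈ P, ∃ o ∈ F.O, ∃ e ∈ F.B, ∃ f ∈ FS, p = o * (F.θ * e * F.θ⁻¹) * f := by
    intro p hp
    induction hp using Subgroup.closure_induction with
    | mem u hu =>
      obtain ⟨huA, huo, hu'⟩ := hu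
      have h1S : (1 : G) ∈ FS := ⟨one_mem _, by simp, by simp, by simp⟩
      rcases hu' with h | h | h
      · exact ⟨u, F.mem_O (F.mem_C.2 h) huo, 1, one_mem _, 1, h1S, by simp⟩
      · obtain ⟨a, ha, b, hb, rfl⟩ := F.odd_comm_τ huo h
        exact ⟨a, F.A_le ha, b, hb, 1, h1S, by simp⟩
      · obtain ⟨a, ha, b, hb, rfl⟩ := zτo u huo h
        refine ⟨a, F.A_le ha, 1, one_mem _, F.θ * (F.θ * b * F.θ⁻¹) * F.θ⁻¹,
          ⟨(F.CA.mul_mem_cancel_left (F.O_le_CA (F.A_le ha))).1 huA,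
            odd_conj (F.θB_odd hb), ?_, hzθ b hb⟩, by simp⟩
        rw [← F.θ_τ]
        exact comm_conj (F.θB_comm_τ hb)
    | one => exact ⟨1, one_mem _, 1, one_mem _, 1, ⟨one_mem _, by simp, by simp, by simp⟩, by simp⟩
    | mul u v hu hv ihu ihv =>
      obtain ⟨o, ho, e, he, f, hf, rfl⟩ := ihu
      obtain ⟨o', ho', e', he', f', hf', rfl⟩ := ihv
      refine ⟨o * o', mul_mem ho ho', e * e', mul_mem he he', f * f', ⟨mul_mem hf.1 hf'.1, ?_, ?_, ?_⟩, ?_⟩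
      · exact Odd.of_dvd_nat (hf.2.1.mul hf'.2.1)
          (show Commute f f' from hcommS _ (hFS f hf) _ (hFS f' hf')).orderOf_mul_dvd_mul_orderOf
      · exact (Commute.mul_left hf.2.2.1 hf'.2.2.1).eq
      · rw [← conj_mul, hf.2.2.2, hf'.2.2.2, ← mul_inv_rev,
          hcommS _ (hFS f' hf') _ (hFS f hf)]
      · have hs := hBA 1 (one_mem _)
        have c1 : Commute (F.θ * e * F.θ⁻¹) o' := hcommS _ (hs e he) _ (hOS o' ho')
        have c2 : Commute f o' := hcommS _ (hFS f hf) _ (hOS o' ho')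
        have c3 : Commute f (F.θ * e' * F.θ⁻¹) := hcommS _ (hFS f hf) _ (hs e' he')
        calc o * (F.θ * e * F.θ⁻¹) * f * (o' * (F.θ * e' * F.θ⁻¹) * f')
            = o * (F.θ * e * F.θ⁻¹) * ((f * o') * (F.θ * e' * F.θ⁻¹)) * f' := by group
          _ = o * ((F.θ * e * F.θ⁻¹) * o') * (f * (F.θ * e' * F.θ⁻¹)) * f' := by rw [c2.eq]; group
          _ = o * o' * (F.θ * (e * e') * F.θ⁻¹) * (f * f') := by rw [c1.eq, c3.eq]; group
    | inv u hu ih =>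
      obtain ⟨o, ho, e, he, f, hf, rfl⟩ := ih
      refine ⟨o⁻¹, inv_mem ho, e⁻¹, inv_mem he, f⁻¹, ⟨inv_mem hf.1, by rw [orderOf_inv]; exact hf.2.1,
        (show Commute f _ from hf.2.2.1).inv_left.eq, ?_⟩, ?_⟩
      · rw [← conj_inv, hf.2.2.2]
      · have hs := hBA 1 (one_mem _)
        have c1 : Commute (F.θ * e⁻¹ * F.θ⁻¹) o⁻¹ :=
          hcommS _ (hs _ (inv_mem he)) _ (hOS _ (inv_mem ho))
        have c2 : Commute (o⁻¹ * (F.θ * e⁻¹ * F.θ⁻¹)) f⁻¹ :=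
          ((show Commute f o from hcommS _ (hFS f hf) _ (hOS o ho)).symm.inv_left.inv_right).mul_left
            ((show Commute (F.θ * e⁻¹ * F.θ⁻¹) f from hcommS _ (hs _ (inv_mem he)) _ (hFS f hf)).inv_right)
        rw [c2.eq, ← c1.eq]; group
  have hPn : ∀ v : G, (∀ x ∈ S₀, v * x * v⁻¹ ∈ S₀) → ∀ p ∈ P, v * p * v⁻¹ ∈ P := by
    intro v hv p hp
    have : P.map (MulAut.conj v).toMonoidHom ≤ P := by
      rw [MonoidHom.map_closure, Subgroup.closure_le]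
      rintro _ ⟨x, hx, rfl⟩
      exact Subgroup.subset_closure (hv x hx)
    exact this ⟨p, hp, rfl⟩
  have hzS : ∀ v : G, v ∈ F.CA → v * F.z * v⁻¹ = F.z → v * F.τ * v⁻¹ = F.τ →
      ∀ x ∈ S₀, v * x * v⁻¹ ∈ S₀ := by
    rintro v hv h1 h2 x ⟨hx, hxo, hx'⟩
    have h3 : v * (F.z * F.τ) * v⁻¹ = F.z * F.τ := by rw [← conj_mul, h1, h2]
    refine ⟨mul_mem (mul_mem hv hx) (inv_mem hv), odd_conj hxo, hx'.imp (fun h => ?_)
      (Or.imp (fun h => ?_) fun h => ?_)⟩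
    · have := comm_conj (g := v) h; rwa [h1] at this
    · have := comm_conj (g := v) h; rwa [h2] at this
    · have := comm_conj (g := v) h; rwa [h3] at this
  have hzPn := hPn F.z (hzS F.z F.z_CA (by group) (mul_inv_eq_of_eq_mul F.τ_z.symm))
  have hτPn := hPn F.τ (hzS F.τ F.τ_CA (mul_inv_eq_of_eq_mul F.τ_z) (by group))
  have hτA : ∀ a ∈ F.A, F.τ⁻¹ * a * F.τ ∈ F.A := fun a ha => by
    rwa [mul_assoc, (F.mem_A.1 ha).2, inv_mul_cancel_left]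
  have hzDn : ∀ d ∈ D, F.z * d * F.z⁻¹ ∈ D := fun d hd => by
    obtain ⟨h1, h2, h3⟩ := (hmem d).1 hd
    refine (hmem _).2 ⟨mul_mem (mul_mem F.z_CA h1) (inv_mem F.z_CA), ?_, odd_conj h3⟩
    have := comm_conj (g := F.z) h2
    rwa [mul_inv_eq_of_eq_mul (F.z_comm (F.B_le hy)).symm] at this
  have hτDn : ∀ d ∈ D, F.τ * d * F.τ⁻¹ ∈ D := fun d hd => by
    obtain ⟨h1, h2, h3⟩ := (hmem d).1 hd
    refine (hmem _).2 ⟨mul_mem (mul_mem F.τ_CA h1) (inv_mem F.τ_CA), ?_, odd_conj h3⟩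
    have h4 := comm_conj (g := F.τ) h2
    rw [F.τ_inverts_B hy] at h4
    simpa using (Commute.inv_right (show Commute _ y⁻¹ from h4)).eq
  have hDP : D ≤ P := le_of_centralizers F.z_sq F.τ_sq F.τ_z.symm F.z_ne F.τ_ne F.τ_ne_z.symm hD
    hzDn hτDn hzPn hτPn
    (fun d hd h => Subgroup.subset_closure ⟨((hmem d).1 hd).1, ((hmem d).1 hd).2.2, Or.inl h⟩)
    (fun d hd h => Subgroup.subset_closure ⟨((hmem d).1 hd).1, ((hmem d).1 hd).2.2, Or.inr (Or.inl h)⟩)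
    (fun d hd h => Subgroup.subset_closure ⟨((hmem d).1 hd).1, ((hmem d).1 hd).2.2, Or.inr (Or.inr h)⟩)
  have hsA : ∀ x ∈ F.CA, F.s * x * F.s⁻¹ ∈ F.CA := fun x hx => F.CA_conj (fun a ha => F.s_normA ha) hx
  have hsτ : F.s * F.τ * F.s⁻¹ = F.z * F.τ := by
    calc F.s * F.τ * F.s⁻¹ = F.σ * (F.τ * F.τ) * F.τ⁻¹ * F.σ⁻¹ := by rw [s]; group
      _ = F.z * F.τ := by rw [F.τ_sq, mul_one, F.τ_inv, F.σ_τ_σ]
  have hsz : F.s * F.z * F.s⁻¹ = F.z := mul_inv_eq_of_eq_mul F.s_z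
  have hsFS : ∀ e ∈ F.B, F.s * (F.θ * e * F.θ⁻¹) * F.s⁻¹ ∈ FS := fun e he => by
    refine ⟨hsA _ (F.θB_CA he), odd_conj (F.θB_odd he), ?_, ?_⟩
    · rw [← hsτ]; exact comm_conj (F.θB_comm_τ he)
    · calc F.z * (F.s * (F.θ * e * F.θ⁻¹) * F.s⁻¹) * F.z⁻¹
          = (F.z * F.s) * (F.θ * e * F.θ⁻¹) * (F.z * F.s)⁻¹ := by group
        _ = F.s * (F.z * (F.θ * e * F.θ⁻¹) * F.z⁻¹) * F.s⁻¹ := by rw [← F.s_z]; group
        _ = _ := by rw [F.z_inverts_θB he]; group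
  have hs2 : ∀ x : G, F.s * (F.s * x * F.s⁻¹) * F.s⁻¹ = x := fun x => by
    calc F.s * (F.s * x * F.s⁻¹) * F.s⁻¹ = (F.s * F.s) * x * (F.s * F.s)⁻¹ := by group
      _ = x := by rw [F.s_sq]; group
  -- the two directions
  let ψ : F.B → F.Astar := fun e => ⟨F.θ * (e : G) * F.θ⁻¹ * (F.s * (F.θ * e * F.θ⁻¹) * F.s⁻¹), by
    have hm1 := F.θB_CA e.2
    have hS1 := hBA 1 (one_mem _) (e : G) e.2
    have hc : Commute (F.θ * (e : G) * F.θ⁻¹) (F.s * (F.θ * e * F.θ⁻¹) * F.s⁻¹) :=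
      hcommS _ hS1 _ (hFS _ (hsFS e e.2))
    have ho : Odd (orderOf (F.θ * (e : G) * F.θ⁻¹ * (F.s * (F.θ * e * F.θ⁻¹) * F.s⁻¹))) :=
      Odd.of_dvd_nat ((F.θB_odd e.2).mul (odd_conj (F.θB_odd e.2))) hc.orderOf_mul_dvd_mul_orderOf
    obtain ⟨a, ha, he⟩ := F.mem_φA ho (by
      refine (mul_inv_eq_iff_eq_mul.1 ?_).symm
      rw [← conj_mul, hs2, ← hc.eq]) (by
      rw [← conj_mul, F.z_inverts_θB e.2, (hsFS e e.2).2.2.2, ← mul_inv_rev, ← hc.eq])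
    exact F.mem_Astar.2 ⟨mul_mem hm1 (hsA _ hm1), a, ha, he.symm⟩⟩
  refine (Nat.card_congr (Equiv.ofBijective ψ ⟨?_, ?_⟩)).symm
  · intro e e' h
    have h' : F.θ * (e : G) * F.θ⁻¹ * (F.s * (F.θ * e * F.θ⁻¹) * F.s⁻¹) =
        F.θ * (e' : G) * F.θ⁻¹ * (F.s * (F.θ * e' * F.θ⁻¹) * F.s⁻¹) := congrArg Subtype.val h
    set p := F.θ * (e : G) * F.θ⁻¹
    set p' := F.θ * (e' : G) * F.θ⁻¹
    have hS := hBA 1 (one_mem _) (e : G) e.2
    have hS' := hBA 1 (one_mem _) (e' : G) e'.2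
    have hτ : ∀ q, q ∈ FS → F.τ * q * F.τ⁻¹ = q⁻¹ := fun q hq => by
      have h1 : F.z * F.τ * q * (F.z * F.τ)⁻¹ = q := mul_inv_eq_of_eq_mul hq.2.2.1.symm
      calc F.τ * q * F.τ⁻¹ = F.z⁻¹ * (F.z * F.τ * q * (F.z * F.τ)⁻¹) * F.z := by group
        _ = F.z * q * F.z⁻¹ := by rw [h1, F.z_inv]
        _ = q⁻¹ := hq.2.2.2
    have h'' : F.τ * p * F.τ⁻¹ * (F.τ * (F.s * p * F.s⁻¹) * F.τ⁻¹) =
        F.τ * p' * F.τ⁻¹ * (F.τ * (F.s * p' * F.s⁻¹) * F.τ⁻¹) := by rw [conj_mul, conj_mul, h']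
    rw [mul_inv_eq_of_eq_mul (F.θB_comm_τ e.2).symm, mul_inv_eq_of_eq_mul (F.θB_comm_τ e'.2).symm,
      hτ _ (hsFS e e.2), hτ _ (hsFS e' e'.2)] at h''
    have hpp : p * p = p' * p' := by
      have c1 : Commute p (F.s * p * F.s⁻¹) := hcommS _ hS _ (hFS _ (hsFS e e.2))
      have c2 : Commute p' (F.s * p' * F.s⁻¹) := hcommS _ hS' _ (hFS _ (hsFS e' e'.2))
      have key : ∀ x y : G, Commute x y → (x * y) * (x * y⁻¹) = x * x := fun x y h => by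
        rw [mul_assoc x y, ← mul_assoc y x, ← h.eq]; group
      exact (key _ _ c1).symm.trans ((congrArg₂ (· * ·) h' h'').trans (key _ _ c2))
    have hpe := eq_of_sq (hcommS _ hS _ hS') (F.θB_odd e.2) (F.θB_odd e'.2) hpp
    exact Subtype.ext (mul_left_cancel (mul_right_cancel hpe))
  · rintro ⟨x, hx⟩
    obtain ⟨hxA, hxo, hxs, hxz, hxB⟩ := F.Astar_props hx
    obtain ⟨o, ho, e, he, f, hf, hxe⟩ := hform x (hDP ((hmem x).2 ⟨hxA, hxB y hy, hxo⟩))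
    have hS := hBA 1 (one_mem _) e he
    set p := F.θ * e * F.θ⁻¹ with hp
    have hpz : F.z * p * F.z⁻¹ = p⁻¹ := F.z_inverts_θB he
    have hfz := hf.2.2.2
    have hop : Commute o p := hcommS _ (hOS o ho) _ hS
    have hof : Commute o f := hcommS _ (hOS o ho) _ (hFS f hf)
    have hpf : Commute p f := hcommS _ hS _ (hFS f hf)
    have ho1 : o = 1 := by
      rw [hxe, ← conj_mul, ← conj_mul, hpz, hfz, mul_inv_eq_of_eq_mul (F.z_comm ho).symm,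
        show (o * p * f)⁻¹ = o⁻¹ * (p⁻¹ * f⁻¹) by
          rw [mul_inv_rev, mul_inv_rev, ← hop.inv_inv.eq, ← mul_assoc, ← hof.inv_inv.eq, mul_assoc,
            ← hpf.inv_inv.eq], mul_assoc] at hxz
      exact eq_one_of_sq_of_odd (F.odd_of_mem ho) (mul_eq_one_iff_eq_inv.2 (mul_right_cancel hxz))
    rw [ho1, one_mul] at hxe
    refine ⟨⟨e, he⟩, Subtype.ext ?_⟩
    show p * (F.s * p * F.s⁻¹) = x
    rw [hxe]
    congr 1
    -- compare the parts fixed by `zτ`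
    have hsx : F.s * x * F.s⁻¹ = x := mul_inv_eq_of_eq_mul hxs.symm
    rw [hxe, ← conj_mul] at hsx
    set f' := F.s * p * F.s⁻¹ with hf'
    set p' := F.s * f * F.s⁻¹ with hp'
    have hf'F : f' ∈ FS := hsFS e he
    have hτf : ∀ q, q ∈ FS → F.z * F.τ * q * (F.z * F.τ)⁻¹ = q := fun q hq =>
      mul_inv_eq_of_eq_mul hq.2.2.1.symm
    have hzp : F.z * F.τ * p * (F.z * F.τ)⁻¹ = p⁻¹ := by
      calc F.z * F.τ * p * (F.z * F.τ)⁻¹ = F.z * (F.τ * p * F.τ⁻¹) * F.z⁻¹ := by group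
        _ = p⁻¹ := by rw [hp, mul_inv_eq_of_eq_mul (F.θB_comm_τ he).symm, F.z_inverts_θB he]
    have hτs : F.z * F.τ * F.s = F.s * F.τ := by rw [← hsτ]; group
    have hzp' : F.z * F.τ * p' * (F.z * F.τ)⁻¹ = p'⁻¹ := by
      have hτfe : F.τ * f * F.τ⁻¹ = f⁻¹ := by
        calc F.τ * f * F.τ⁻¹ = F.z⁻¹ * (F.z * F.τ * f * (F.z * F.τ)⁻¹) * F.z := by group
          _ = F.z * f * F.z⁻¹ := by rw [hτf f hf, F.z_inv]
          _ = f⁻¹ := hfz
      calc F.z * F.τ * p' * (F.z * F.τ)⁻¹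
          = (F.z * F.τ * F.s) * f * (F.z * F.τ * F.s)⁻¹ := by rw [hp']; group
        _ = F.s * (F.τ * f * F.τ⁻¹) * F.s⁻¹ := by rw [hτs]; group
        _ = p'⁻¹ := by rw [hτfe, hp']; group
    -- f' * p' = p * f
    have h3 := congrArg (fun q => F.z * F.τ * q * (F.z * F.τ)⁻¹) hsx
    simp only [← conj_mul] at h3
    rw [hτf f' hf'F, hτf f hf, hzp', hzp] at h3
    have hp'S : p' ∈ S₀ := ⟨hsA _ hf.1, odd_conj hf.2.1, Or.inr (Or.inl (by
      have := comm_conj (g := F.s) hf.2.2.1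
      rwa [← conj_mul, hsz, hsτ, show F.z * (F.z * F.τ) = F.τ by rw [← mul_assoc, F.z_sq, one_mul]] at this))⟩
    have c1 : Commute f' p' := hcommS _ (hFS f' hf'F) _ hp'S
    have hsq : f' * f' = f * f := by
      calc f' * f' = (f' * p') * (f' * p'⁻¹) := by
            rw [mul_assoc f' p', ← mul_assoc p' f', ← c1.eq]; group
        _ = (p * f) * (p⁻¹ * f) := by rw [hsx, h3]
        _ = f * f := by rw [hpf.eq]; group
    exact eq_of_sq (hcommS _ (hFS f' hf'F) _ (hFS f hf)) hf'F.2.1 hf.2.1 hsq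

end Frame

end CfsgLib.SmallCent
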