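import Mathlib.Tactic
import Mathlib.Data.Rat.Defs
import Mathlib.RingTheory.Coprime.Lemmas
import Mathlib.NumberTheory.Divisors

/-!
The arithmetic of the block equations.
-/

set_option autoImplicit false

namespace CfsgLib.SmallCent

/-- Clearing denominators. -/
theorem clear_equations {g a b x : ℕ} {δ P Q : ℤ} (ha : 0 < a) (hb : 0 < b) (hg : 0 < g)
    (hδ : δ = 1 ∨ δ = -1) (hx : 1 < x) (hP : P ≠ 0) (hQ : Q ≠ 0) (hS : P + Q = -(1 + δ * x))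
    (h1 : (g : ℚ) * ((x : ℚ) - δ) ^ 2 = 64 * a * b * ((a : ℚ) + b) ^ 2 * x * (x + δ))
    (h2 : 256 * ((a : ℚ) * b) ^ 2 = (g : ℚ) * (1 + (δ : ℚ) / x + 1 / P + 1 / Q)) :
    (g : ℤ) * ((x : ℤ) - δ) ^ 2 = 64 * a * b * ((a : ℤ) + b) ^ 2 * x * (x + δ) ∧
    P * Q * (((a : ℤ) + b) ^ 2 * (x + δ) ^ 2 - 4 * a * b * ((x : ℤ) - δ) ^ 2) =
      δ * x * ((a : ℤ) + b) ^ 2 * (x + δ) ^ 2 ∧
    (P - Q) ^ 2 * (((a : ℤ) + b) ^ 2 * (x + δ) ^ 2 - 4 * a * b * ((x : ℤ) - δ) ^ 2) =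
      (x + δ) ^ 2 * ((x : ℤ) - δ) ^ 2 * ((a : ℤ) - b) ^ 2 := by
  have h1' : (g : ℤ) * ((x : ℤ) - δ) ^ 2 = 64 * a * b * ((a : ℤ) + b) ^ 2 * x * (x + δ) := by
    exact_mod_cast h1
  have hd2 : δ * δ = 1 := by rcases hδ with rfl | rfl <;> rfl
  have h2' : 256 * ((a : ℤ) * b) ^ 2 * (x * (P * Q)) = g * ((x + δ) * (P * Q) + x * (P + Q)) := by
    have hxq : (x : ℚ) ≠ 0 := by positivity
    have hPq : (P : ℚ) ≠ 0 := by exact_mod_cast hP
    have hQq : (Q : ℚ) ≠ 0 := by exact_mod_cast hQ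
    have : 256 * ((a : ℚ) * b) ^ 2 * (x * (P * Q)) = g * ((x + δ) * (P * Q) + x * (P + Q)) := by
      rw [h2]; field_simp; ring
    exact_mod_cast this
  have hS' : P + Q = -(δ * (x + δ)) := by rw [mul_add, hd2, hS]; ring
  rw [hS'] at h2'
  set X : ℤ := x + δ
  set D : ℤ := x - δ
  have hX : X ≠ 0 := by simp only [X]; rcases hδ with rfl | rfl <;> omega
  have hpq : P * Q * (((a : ℤ) + b) ^ 2 * X ^ 2 - 4 * a * b * D ^ 2) =
      δ * x * ((a : ℤ) + b) ^ 2 * X ^ 2 := by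
    have hne : (64 : ℤ) * a * b * x ≠ 0 := by positivity
    refine mul_left_cancel₀ hne ?_
    linear_combination -(D ^ 2) * h2' - (X * (P * Q) - δ * x * X) * h1'
  refine ⟨h1', hpq, ?_⟩
  have hSq : (P + Q) ^ 2 = X ^ 2 := by rw [hS', neg_sq, mul_pow, sq δ, hd2, one_mul]
  have hXD : X ^ 2 - 4 * δ * x = D ^ 2 := by simp only [X, D]; ring
  linear_combination (((a : ℤ) + b) ^ 2 * X ^ 2 - 4 * a * b * D ^ 2) * hSq - 4 * hpq +
    (((a : ℤ) + b) ^ 2 * X ^ 2) * hXD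

/-- The case `a = b`. -/
theorem equal_case {g a x k : ℕ} {δ : ℤ} (ha : Odd a) (hδ : δ = 1 ∨ δ = -1) (hx : 1 < x)
    (hk : g = 24 * a ^ 4 * k) (hkodd : Odd k)
    (h1 : (g : ℤ) * ((x : ℤ) - δ) ^ 2 = 64 * a * a * ((a : ℤ) + a) ^ 2 * x * (x + δ)) :
    g = 360 * a ^ 4 ∨ g = 168 * a ^ 4 := by
  have ha0 : (a : ℤ) ≠ 0 := by have := ha.pos; omega
  have e : 3 * (k : ℤ) * ((x : ℤ) - δ) ^ 2 = 32 * x * (x + δ) := by
    refine mul_left_cancel₀ (show (8 : ℤ) * (a : ℤ) ^ 4 ≠ 0 by positivity) ?_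
    subst hk; push_cast at h1
    linear_combination h1
  have hodd : Odd (3 * (k : ℤ)) := (by decide : Odd (3 : ℤ)).mul (by exact_mod_cast hkodd)
  set D : ℤ := (x : ℤ) - δ with hD
  have hxD : (x : ℤ) = D + δ := by omega
  rw [hxD] at e
  have step : ∀ {m n : ℤ}, 3 * (k : ℤ) * m ^ 2 = 2 * n → ∃ r, m = 2 * r := fun {m n} h => by
    rcases Int.even_or_odd m with ⟨r, hr⟩ | hm
    · exact ⟨r, by omega⟩
    · have := hodd.mul (hm.pow (n := 2))
      rw [h] at this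
      exact absurd this (Int.not_odd_iff_even.2 ⟨n, by ring⟩)
  clear_value D
  obtain ⟨e1, rfl⟩ : ∃ r, D = 2 * r := step (n := 16 * (D + δ) * (D + δ + δ)) (by linear_combination e)
  obtain ⟨f, rfl⟩ : ∃ r, e1 = 2 * r := step (n := 8 * (2 * e1 + δ) * (e1 + δ))
    (mul_left_cancel₀ (show (4 : ℤ) ≠ 0 by norm_num) (by linear_combination e))
  obtain ⟨h, rfl⟩ : ∃ r, f = 2 * r := step (n := 2 * (4 * f + δ) * (2 * f + δ))
    (mul_left_cancel₀ (show (16 : ℤ) ≠ 0 by norm_num) (by linear_combination e))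
  have e3 : 3 * (k : ℤ) * h ^ 2 = (8 * h + δ) * (4 * h + δ) :=
    mul_left_cancel₀ (show (64 : ℤ) ≠ 0 by norm_num) (by linear_combination e)
  have hd2 : δ * δ = 1 := by rcases hδ with rfl | rfl <;> rfl
  have hh : h ∣ 1 := ⟨3 * k * h - 12 * δ - 32 * h, by linear_combination -e3 - hd2⟩
  rcases Int.isUnit_iff.1 (isUnit_of_dvd_one hh) with rfl | rfl
  · rcases hδ with rfl | rfl
    · left
      norm_num at e3
      have hk15 : k = 15 := by omega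
      rw [hk, hk15]; ring
    · right
      norm_num at e3
      have hk7 : k = 7 := by omega
      rw [hk, hk7]; ring
  · exfalso
    rcases hδ with rfl | rfl <;> omega

/-! The finite check. -/

def chkY (a f : ℕ) (pos : Bool) : ℕ := a * (a + 1) ^ 2 * (if pos then (4 * f + 1) * (2 * f + 1) else (4 * f - 1) * (2 * f - 1))
def chkM (a f : ℕ) (pos : Bool) : ℕ := (a + 1) ^ 2 * (if pos then (2 * f + 1) ^ 2 else (2 * f - 1) ^ 2)
def chkOk (a f : ℕ) (pos : Bool) : Bool :=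
  decide (a < 3) || decide (a % 2 ≠ 1) || decide (f = 0) || decide (¬ f ^ 2 ∣ chkY a f pos) ||
  decide (chkY a f pos / f ^ 2 % 2 ≠ 1) || decide (chkM a f pos < 16 * a * f ^ 2) ||
  decide (Nat.sqrt (chkM a f pos - 16 * a * f ^ 2) ^ 2 ≠ chkM a f pos - 16 * a * f ^ 2) ||
  (!pos && ((a == 3 && f == 4) || (a == 5 && f == 2) || (a == 9 && f == 2)))
theorem chk_all : ∀ a < 10, ∀ f < 31, chkOk a f true = true ∧ chkOk a f false = true := by decide +kernel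

/-- The finite part of the case `b = 1`. -/
theorem finite_part : ∀ a < 10, ∀ f < 31, ∀ pos : Bool, 3 ≤ a → a % 2 = 1 → 1 ≤ f →
    f ^ 2 ∣ a * (a + 1) ^ 2 * (if pos then (4 * f + 1) * (2 * f + 1) else (4 * f - 1) * (2 * f - 1)) →
    (a * (a + 1) ^ 2 * (if pos then (4 * f + 1) * (2 * f + 1) else (4 * f - 1) * (2 * f - 1))) / f ^ 2 % 2 = 1 →
    16 * a * f ^ 2 ≤ (a + 1) ^ 2 * (if pos then (2 * f + 1) ^ 2 else (2 * f - 1) ^ 2) →
    Nat.sqrt ((a + 1) ^ 2 * (if pos then (2 * f + 1) ^ 2 else (2 * f - 1) ^ 2) - 16 * a * f ^ 2) ^ 2 =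
      (a + 1) ^ 2 * (if pos then (2 * f + 1) ^ 2 else (2 * f - 1) ^ 2) - 16 * a * f ^ 2 →
    (a = 3 ∧ f = 4 ∧ pos = false) ∨ (a = 5 ∧ f = 2 ∧ pos = false) ∨ (a = 9 ∧ f = 2 ∧ pos = false) := by
  intro a ha f hf pos h1 h2 h3 h4 h5 h6 h7
  have h := chk_all a ha f hf
  have hok : chkOk a f pos = true := by cases pos; exacts [h.2, h.1]
  have n1 : ¬ a < 3 := by omega
  have n3 : ¬ f = 0 := by omega
  have n4 : f ^ 2 ∣ chkY a f pos := h4
  have n5 : chkY a f pos / f ^ 2 % 2 = 1 := h5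
  have n6 : ¬ chkM a f pos < 16 * a * f ^ 2 := not_lt.2 h6
  have n7 : Nat.sqrt (chkM a f pos - 16 * a * f ^ 2) ^ 2 = chkM a f pos - 16 * a * f ^ 2 := h7
  simp only [chkOk, n1, h2, n3, n4, n5, n6, n7, not_true_eq_false, ne_eq, decide_false, Bool.false_or,
    Bool.and_eq_true, Bool.or_eq_true, beq_iff_eq, Bool.not_eq_true'] at hok
  obtain ⟨hp, (⟨e1, e2⟩ | ⟨e1, e2⟩) | ⟨e1, e2⟩⟩ := hok
  · exact Or.inl ⟨e1, e2, hp⟩
  · exact Or.inr (Or.inl ⟨e1, e2, hp⟩)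
  · exact Or.inr (Or.inr ⟨e1, e2, hp⟩)

/-- Bounding `a`. -/
theorem bound_a {a c G E : ℕ} {δ m : ℤ} (ha : 3 ≤ a) (hc : Odd c) (hE : Odd E) (hG : Even G)
    (hN : G * c = a + 1) (hδ : δ = 1 ∨ δ = -1)
    (hm : m ^ 2 = (2 * ((a : ℤ) + 1) * E + c * δ) ^ 2 - 16 * a * E ^ 2) : a ≤ 9 := by
  have hE1 : (1 : ℤ) ≤ E := by have := hE.pos; omega
  have hc1 : (1 : ℤ) ≤ c := by have := hc.pos; omega
  have haz : (3 : ℤ) ≤ a := by omega
  obtain ⟨G', rfl⟩ := hG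
  have hG1 : 1 ≤ G' := by rcases Nat.eq_zero_or_pos G' with rfl | h <;> omega
  have hNz : 2 * ((G' : ℤ) * c) = (a : ℤ) + 1 := by
    have : ((G' : ℤ) + G') * c = (a : ℤ) + 1 := by exact_mod_cast hN
    linarith
  have hc2 : 2 * (c : ℤ) ≤ (a : ℤ) + 1 := by nlinarith
  set q : ℤ := 2 * ((a : ℤ) - 1) * E + c * δ with hq
  have hqpos : 0 < q := by rcases hδ with rfl | rfl <;> nlinarith
  set M := |m|
  have hd2 : δ * δ = 1 := by rcases hδ with rfl | rfl <;> rfl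
  have hprod : (M - q) * (M + q) = 8 * E * c * δ := by
    have : M * M = m ^ 2 := by rw [sq]; exact abs_mul_abs_self m
    linear_combination this + hm
  have hM0 : 0 ≤ M := abs_nonneg m
  obtain ⟨r, hr⟩ : ∃ r, M - q = 2 * r := by
    rcases Int.even_or_odd (M - q) with ⟨r, hr⟩ | ho
    · exact ⟨r, by omega⟩
    · have ho' : Odd (M + q) := by obtain ⟨j, hj⟩ := ho; exact ⟨j + q, by omega⟩
      have := ho.mul ho'
      rw [hprod] at this
      exact absurd this (Int.not_odd_iff_even.2 ⟨4 * E * c * δ, by ring⟩)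
  have hrt : r * (r + q) = 2 * E * c * δ :=
    mul_left_cancel₀ (show (4 : ℤ) ≠ 0 by norm_num) (by
      rw [show M + q = 2 * (r + q) by omega, hr] at hprod; linear_combination hprod)
  rcases hδ with rfl | rfl
  · exfalso
    have hr1 : 1 ≤ r := by nlinarith
    nlinarith
  · set t := r + q with ht
    have ht0 : 0 < t := by omega
    have hr0 : r < 0 := by nlinarith
    obtain ⟨s, rfl⟩ : ∃ s, r = -s := ⟨-r, (neg_neg r).symm⟩
    have hs1 : 1 ≤ s := by omega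
    have hst : s * t = 2 * E * c := by linear_combination -hrt
    have hqst : q = s + t := by omega
    by_cases hG2 : G' = 1
    · subst hG2
      have hc' : 2 * (c : ℤ) = a + 1 := by push_cast at hNz; linarith
      rcases (by omega : s = 1 ∨ t = 1 ∨ (2 ≤ s ∧ 2 ≤ t)) with h | h | ⟨h, h'⟩
      · subst s; nlinarith
      · rw [h] at hst hqst; nlinarith
      · nlinarith [mul_nonneg (sub_nonneg.2 h) (sub_nonneg.2 h')]
    · have h2 : 2 ≤ (G' : ℤ) := by omega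
      have h4 : 4 * (c : ℤ) ≤ a + 1 := by nlinarith
      nlinarith [mul_nonneg (sub_nonneg.2 hs1) (show (0 : ℤ) ≤ t - 1 by omega)]

/-- The case `b = 1 < a`. -/
theorem one_case {g a x : ℕ} {δ P Q : ℤ} (ha : Odd a) (ha1 : 3 ≤ a) (hδ : δ = 1 ∨ δ = -1)
    (hx : 1 < x) (g' : ℕ) (hg : g = 8 * g') (hg' : Odd g')
    (h1 : (g : ℤ) * ((x : ℤ) - δ) ^ 2 = 64 * a * (1 : ℕ) * ((a : ℤ) + (1 : ℕ)) ^ 2 * x * (x + δ))
    (h3 : (P - Q) ^ 2 * (((a : ℤ) + (1 : ℕ)) ^ 2 * (x + δ) ^ 2 - 4 * a * (1 : ℕ) * ((x : ℤ) - δ) ^ 2) =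
      (x + δ) ^ 2 * ((x : ℤ) - δ) ^ 2 * ((a : ℤ) - (1 : ℕ)) ^ 2) :
    (a = 3 ∧ g = 2520) ∨ (a = 5 ∧ g = 7560) := by
  push_cast at h1 h3
  simp only [mul_one] at h1 h3
  have hgodd : Odd (g' : ℤ) := by exact_mod_cast hg'
  subst hg
  push_cast at h1
  set D : ℤ := (x : ℤ) - δ with hD
  have hxD : (x : ℤ) = D + δ := by omega
  rw [hxD] at h1 h3
  have step : ∀ {m n : ℤ}, (g' : ℤ) * m ^ 2 = 2 * n → ∃ r, m = 2 * r := fun {m n} h => by
    rcases Int.even_or_odd m with ⟨r, hr⟩ | hm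
    · exact ⟨r, by omega⟩
    · have := hgodd.mul (hm.pow (n := 2))
      rw [h] at this
      exact absurd this (Int.not_odd_iff_even.2 ⟨n, by ring⟩)
  obtain ⟨e, he⟩ : ∃ r, D = 2 * r := step (n := 4 * a * ((a : ℤ) + 1) ^ 2 * (D + δ) * (D + δ + δ))
    (mul_left_cancel₀ (show (8 : ℤ) ≠ 0 by norm_num) (by linear_combination h1))
  rw [he] at h1 h3
  obtain ⟨f, hf⟩ : ∃ r, e = 2 * r := step (n := 2 * a * ((a : ℤ) + 1) ^ 2 * (2 * e + δ) * (e + δ))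
    (mul_left_cancel₀ (show (32 : ℤ) ≠ 0 by norm_num) (by linear_combination h1))
  rw [hf] at h1 h3
  have hf1 : 1 ≤ f := by rcases hδ with rfl | rfl <;> omega
  have e2 : (g' : ℤ) * f ^ 2 = a * ((a : ℤ) + 1) ^ 2 * ((4 * f + δ) * (2 * f + δ)) :=
    mul_left_cancel₀ (show (128 : ℤ) ≠ 0 by norm_num) (by linear_combination h1)
  set M' : ℤ := ((a : ℤ) + 1) ^ 2 * (2 * f + δ) ^ 2 - 16 * a * f ^ 2 with hM'
  have h3' : (P - Q) ^ 2 * M' = (4 * f + 2 * δ) ^ 2 * (2 * f) ^ 2 * ((a : ℤ) - 1) ^ 2 :=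
    mul_left_cancel₀ (show (4 : ℤ) ≠ 0 by norm_num) (by rw [hM']; linear_combination h3)
  -- `M'` is a square
  have hR : ((4 * f + 2 * δ) * (2 * f) * ((a : ℤ) - 1)) ≠ 0 := by
    refine mul_ne_zero (mul_ne_zero ?_ (by omega)) (by omega)
    rcases hδ with rfl | rfl <;> omega
  have hPQ : P - Q ≠ 0 := fun h => by
    rw [h, zero_pow two_ne_zero, zero_mul] at h3'
    exact hR (pow_eq_zero_iff two_ne_zero |>.1 (by linear_combination -h3'))
  obtain ⟨m', hm'⟩ : ∃ m', M' = m' ^ 2 := by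
    have hd : (P - Q) ^ 2 ∣ ((4 * f + 2 * δ) * (2 * f) * ((a : ℤ) - 1)) ^ 2 :=
      ⟨M', by linear_combination -h3'⟩
    obtain ⟨m', hm'⟩ := (Int.pow_dvd_pow_iff two_ne_zero).1 hd
    refine ⟨m', mul_left_cancel₀ (pow_ne_zero 2 hPQ) ?_⟩
    have h : ((4 * f + 2 * δ) * (2 * f) * ((a : ℤ) - 1)) ^ 2 = ((P - Q) * m') ^ 2 := by rw [hm']
    linear_combination h3' + h
  -- the common factor
  obtain ⟨F, rfl⟩ := Int.eq_ofNat_of_zero_le (show 0 ≤ f by omega)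
  have hF1 : 1 ≤ F := by omega
  obtain ⟨E, c, hcop, hFE, hNc⟩ := Nat.exists_coprime F (a + 1)
  set G := Nat.gcd F (a + 1)
  have hG0 : 0 < G := Nat.gcd_pos_of_pos_left _ hF1
  have hd2 : δ * δ = 1 := by rcases hδ with rfl | rfl <;> rfl
  have hFz : (F : ℤ) = E * G := by exact_mod_cast hFE
  have hNz : (a : ℤ) + 1 = c * G := by exact_mod_cast hNc
  have e3 : (g' : ℤ) * (E : ℤ) ^ 2 = a * (c : ℤ) ^ 2 * ((4 * (F : ℤ) + δ) * (2 * F + δ)) := by
    refine mul_left_cancel₀ (show ((G : ℤ) ^ 2) ≠ 0 by positivity) ?_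
    calc (G : ℤ) ^ 2 * (g' * (E : ℤ) ^ 2) = g' * (F : ℤ) ^ 2 := by rw [hFz]; ring
      _ = a * ((a : ℤ) + 1) ^ 2 * ((4 * F + δ) * (2 * F + δ)) := e2
      _ = _ := by rw [hNz]; ring
  have hEa : (E : ℤ) ^ 2 ∣ a := by
    have h : (E : ℤ) ^ 2 ∣ a * ((c : ℤ) ^ 2 * ((4 * (F : ℤ) + δ) * (2 * F + δ))) :=
      ⟨g', by linear_combination -e3⟩
    refine IsCoprime.dvd_of_dvd_mul_right (IsCoprime.pow_left ?_) h
    refine IsCoprime.mul_right (IsCoprime.pow_right (Int.isCoprime_iff_gcd_eq_one.2 ?_)) ?_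
    · simpa [Int.gcd] using hcop
    · refine ⟨-(6 * δ + 8 * (F : ℤ)) * G, 1, ?_⟩
      linear_combination hd2 + (6 * δ + 8 * (F : ℤ)) * hFz
  have hEodd : Odd E := by
    have hd : E ^ 2 ∣ a := by exact_mod_cast hEa
    exact Odd.of_dvd_nat ha ((dvd_pow_self E two_ne_zero).trans hd)
  have hcodd : Odd c := by
    rcases Nat.even_or_odd c with ⟨j, rfl⟩ | h
    · have := hgodd.mul ((show Odd (E : ℤ) by exact_mod_cast hEodd).pow (n := 2))
      rw [e3] at this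
      push_cast at this
      exact absurd this (Int.not_odd_iff_even.2
        ⟨2 * a * (j : ℤ) ^ 2 * ((4 * F + δ) * (2 * F + δ)), by ring⟩)
    · exact h
  have hGeven : Even G := by
    rcases Nat.even_or_odd G with h | h
    · exact h
    · obtain ⟨j, hj⟩ := ha
      have := hcodd.mul h
      rw [← hNc] at this
      exact absurd this (Nat.not_odd_iff_even.2 ⟨j + 1, by omega⟩)
  have hGm : (G : ℤ) ^ 2 ∣ m' ^ 2 := ⟨(c : ℤ) ^ 2 * (2 * F + δ) ^ 2 - 16 * a * (E : ℤ) ^ 2, by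
    rw [← hm', hM', hNz, hFz]; ring⟩
  obtain ⟨m, rfl⟩ := (Int.pow_dvd_pow_iff two_ne_zero).1 hGm
  have hm : m ^ 2 = (2 * ((a : ℤ) + 1) * E + c * δ) ^ 2 - 16 * a * (E : ℤ) ^ 2 :=
    mul_left_cancel₀ (show ((G : ℤ) ^ 2) ≠ 0 by positivity) (by
      rw [← mul_pow, ← hm', hM', hFz, hNz]; ring)
  have ha9 := bound_a ha1 hcodd hEodd hGeven (by rw [mul_comm]; exact hNc.symm) hδ hm
  have hF30 : F < 31 := by
    have hE3 : E ^ 2 ≤ a := Nat.le_of_dvd (by omega) (by exact_mod_cast hEa)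
    have hE : E ≤ 3 := by nlinarith
    have hG : G ≤ 10 := le_trans (Nat.le_of_dvd (by omega) (Nat.gcd_dvd_right F (a + 1))) (by omega)
    calc F = E * G := hFE
      _ ≤ 3 * 10 := Nat.mul_le_mul hE hG
      _ < 31 := by norm_num
  have hfin := finite_part a (by omega) F hF30
  obtain ⟨pos, hpos⟩ : ∃ pos : Bool, δ = if pos then 1 else -1 := by
    rcases hδ with rfl | rfl
    exacts [⟨true, rfl⟩, ⟨false, rfl⟩]
  have hM2 : ((((a + 1) ^ 2 * (if pos then (2 * F + 1) ^ 2 else (2 * F - 1) ^ 2)) : ℕ) : ℤ) =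
      ((a : ℤ) + 1) ^ 2 * (2 * (F : ℤ) + δ) ^ 2 := by
    rw [hpos]; cases pos
    · simp only [Bool.false_eq_true, if_false]
      push_cast [Nat.cast_sub (show 1 ≤ 2 * F by omega), Nat.cast_sub (show 1 ≤ 4 * F by omega)]
      ring
    · simp only [if_true]
      push_cast
      ring
  have he2 : ((a * (a + 1) ^ 2 * (if pos then (4 * F + 1) * (2 * F + 1) else (4 * F - 1) * (2 * F - 1)) : ℕ) : ℤ) =
      a * ((a : ℤ) + 1) ^ 2 * ((4 * (F : ℤ) + δ) * (2 * F + δ)) := by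
    rw [hpos]; cases pos
    · simp only [Bool.false_eq_true, if_false]
      push_cast [Nat.cast_sub (show 1 ≤ 2 * F by omega), Nat.cast_sub (show 1 ≤ 4 * F by omega)]
      ring
    · simp only [if_true]
      push_cast
      ring
  have hy : a * (a + 1) ^ 2 * (if pos then (4 * F + 1) * (2 * F + 1) else (4 * F - 1) * (2 * F - 1)) =
      g' * F ^ 2 := by
    apply Int.natCast_inj.1
    rw [he2, ← e2]; push_cast; ring
  have hle : 16 * a * F ^ 2 ≤ (a + 1) ^ 2 * (if pos then (2 * F + 1) ^ 2 else (2 * F - 1) ^ 2) := by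
    apply Int.ofNat_le.1
    rw [hM2]; push_cast
    have : (0 : ℤ) ≤ M' := hm' ▸ sq_nonneg _
    rw [hM'] at this
    linarith
  have hsq : (a + 1) ^ 2 * (if pos then (2 * F + 1) ^ 2 else (2 * F - 1) ^ 2) - 16 * a * F ^ 2 =
      (((G : ℤ) * m).natAbs) ^ 2 := by
    apply Int.natCast_inj.1
    rw [Nat.cast_sub hle, hM2, Nat.cast_pow, Int.natAbs_sq, ← hm', hM']
    push_cast; ring
  rcases hfin pos ha1 (Nat.odd_iff.1 ha) hF1 (hy ▸ dvd_mul_left _ _)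
    (by rw [hy, Nat.mul_div_cancel _ (by positivity)]; exact Nat.odd_iff.1 hg') hle
    (by rw [hsq, Nat.sqrt_eq']) with ⟨rfl, rfl, rfl⟩ | ⟨rfl, rfl, rfl⟩ | ⟨rfl, rfl, rfl⟩
  · left
    refine ⟨rfl, ?_⟩
    have : g' * 16 = 5040 := by simpa using hy.symm
    omega
  · right
    refine ⟨rfl, ?_⟩
    have : g' * 4 = 3780 := by simpa using hy.symm
    omega
  · exfalso
    have hδ' : δ = -1 := hpos
    rw [hM', hδ'] at h3'
    push_cast at h3'
    omega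

end CfsgLib.SmallCent
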