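import Mathlib.GroupTheory.Sylow
import Mathlib.GroupTheory.Transfer
import Mathlib.GroupTheory.SpecificGroups.Cyclic
import Mathlib.Algebra.Group.Nat.Even
import Mathlib.Tactic

/-!
Elementary facts about elements of odd order, involutions, and groups whose involution
centralizer has cyclic Sylow 2-subgroup of order two.
-/

set_option autoImplicit false
set_option linter.style.haveILetI false

namespace CfsgLib.SmallCent

variable {G : Type*} [Group G]

theorem inv_eq_self_of_sq {x : G} (h : x * x = 1) : x⁻¹ = x := inv_eq_of_mul_eq_one_right h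

theorem odd_orderOf_of_mem [Finite G] {M : Subgroup G} (hM : Odd (Nat.card M)) {x : G}
    (hx : x ∈ M) : Odd (orderOf x) :=
  Odd.of_dvd_nat hM (M.orderOf_dvd_natCard hx)

theorem eq_one_of_sq_of_odd {x : G} (hx : Odd (orderOf x)) (h : x * x = 1) : x = 1 := by
  obtain ⟨k, hk⟩ := hx
  have h1 := pow_orderOf_eq_one x
  rwa [hk, pow_succ, pow_mul, sq, h, one_pow, one_mul] at h1

theorem exists_sqrt {d : G} (hd : Odd (orderOf d)) : ∃ k : ℕ, d ^ k * d ^ k = d := by
  obtain ⟨k, hk⟩ := hd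
  refine ⟨k + 1, ?_⟩
  rw [← pow_add, show k + 1 + (k + 1) = orderOf d + 1 by omega, pow_succ, pow_orderOf_eq_one, one_mul]

/-- An element inverted by an involution translates it to a conjugate by its square root. -/
theorem exists_conj_translate {t d : G} (ht : t * t = 1) (hd : Odd (orderOf d))
    (hinv : t * d * t⁻¹ = d⁻¹) : ∃ k : ℕ, d ^ k * t * (d ^ k)⁻¹ = d * t := by
  obtain ⟨k, hk⟩ := exists_sqrt hd
  refine ⟨k, ?_⟩
  have h : t * (d ^ k)⁻¹ = d ^ k * t := by
    have h1 : t * d ^ k * t⁻¹ = (d ^ k)⁻¹ := by rw [← conj_pow, hinv, inv_pow]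
    rw [← h1, inv_eq_self_of_sq ht]
    calc t * (t * d ^ k * t) = (t * t) * d ^ k * t := by group
      _ = d ^ k * t := by rw [ht, one_mul]
  rw [mul_assoc, h, ← mul_assoc, hk]

theorem mul_self_of_conj {g x : G} (h : x * x = 1) : g * x * g⁻¹ * (g * x * g⁻¹) = 1 := by
  rw [conj_mul, h, mul_one, mul_inv_cancel]

/-- The central involution of the dihedral group generated by two involutions. -/
theorem exists_half [Finite G] {u v : G} (hu : u * u = 1) (hv : v * v = 1)
    (he : Even (orderOf (u * v))) :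
    orderOf ((u * v) ^ (orderOf (u * v) / 2)) = 2 ∧
      Commute u ((u * v) ^ (orderOf (u * v) / 2)) ∧ Commute v ((u * v) ^ (orderOf (u * v) / 2)) := by
  set d := u * v
  set n := orderOf d with hn
  obtain ⟨m, hm⟩ := he
  have hm0 : 0 < n := orderOf_pos d
  have hhalf : n / 2 = m := by omega
  rw [hhalf]
  set w := d ^ m
  have hw2 : w * w = 1 := by rw [← pow_add, ← hm, hn, pow_orderOf_eq_one]
  have hw1 : w ≠ 1 := fun h => by
    have := Nat.le_of_dvd (by omega) (orderOf_dvd_of_pow_eq_one h)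
    omega
  have hui : u * d * u⁻¹ = d⁻¹ := by
    simp only [d, mul_inv_rev, inv_eq_self_of_sq hu, inv_eq_self_of_sq hv]
    rw [← mul_assoc, hu, one_mul]
  have hvi : v * d * v⁻¹ = d⁻¹ := by
    simp only [d, mul_inv_rev, inv_eq_self_of_sq hu, inv_eq_self_of_sq hv]
    rw [mul_assoc, mul_assoc, hv, mul_one]
  have key : ∀ x : G, x * d * x⁻¹ = d⁻¹ → Commute x w := fun x hx => by
    have h : x * w * x⁻¹ = w := by
      rw [← conj_pow, hx, inv_pow]; exact inv_eq_self_of_sq hw2
    exact mul_inv_eq_iff_eq_mul.1 h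
  exact ⟨orderOf_eq_prime (by rw [sq]; exact hw2) hw1, key u hui, key v hvi⟩

/-- Two involutions with product of odd order are conjugate by a power of the product. -/
theorem exists_conj_of_odd {u v : G} (hu : u * u = 1) (hv : v * v = 1)
    (ho : Odd (orderOf (u * v))) : ∃ k : ℕ, (u * v) ^ k * v * ((u * v) ^ k)⁻¹ = u := by
  have hvi : v * (u * v) * v⁻¹ = (u * v)⁻¹ := by
    rw [mul_inv_rev, inv_eq_self_of_sq hu, inv_eq_self_of_sq hv, mul_assoc, mul_assoc, hv, mul_one]
  obtain ⟨k, hk⟩ := exists_conj_translate hv ho hvi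
  exact ⟨k, by rw [hk, mul_assoc, hv, mul_one]⟩

/-- A subgroup with an involution whose centralizer in it has two-part two has an odd normal
subgroup of index two. -/
theorem exists_complement [Finite G] (K : Subgroup G) {z : G} (hz : z * z = 1) (hz1 : z ≠ 1)
    (hzK : z ∈ K) (h4 : ∀ x ∈ K, x * z = z * x → ∀ T : Subgroup G, T ≤ K → x ∈ T → z ∈ T →
      IsPGroup 2 T → x = 1 ∨ x = z) :
    ∃ D : Subgroup G, D ≤ K ∧ Odd (Nat.card D) ∧ (∀ g ∈ K, ∀ d ∈ D, g * d * g⁻¹ ∈ D) ∧
      (∀ g ∈ K, g ∈ D ∨ g * z ∈ D) ∧ z ∉ D ∧ Nat.card K = 2 * Nat.card D ∧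
      ∀ d ∈ K, Odd (orderOf d) → d ∈ D := by
  classical
  haveI : Fact (Nat.Prime 2) := ⟨Nat.prime_two⟩
  set zK : K := ⟨z, hzK⟩ with hzKdef
  have hzo : orderOf zK = 2 := orderOf_eq_prime (by rw [sq]; exact Subtype.ext hz)
    (fun h => hz1 (congrArg Subtype.val h))
  set Z := Subgroup.zpowers zK
  have hZc : Nat.card Z = 2 := by rw [Nat.card_zpowers, hzo]
  obtain ⟨T, hT⟩ := (IsPGroup.of_card (n := 1) (by rw [hZc, pow_one]) : IsPGroup 2 Z).exists_le_sylow
  have hzT : zK ∈ (T : Subgroup K) := hT (Subgroup.mem_zpowers _)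
  have hTp := IsPGroup.map T.isPGroup' K.subtype
  have key : ∀ x : K, x ∈ (T : Subgroup K) → x * zK = zK * x → x = 1 ∨ x = zK := fun x hx hxz =>
    (h4 _ x.2 (congrArg Subtype.val hxz) ((T : Subgroup K).map K.subtype) (Subgroup.map_subtype_le _)
      ⟨x, hx, rfl⟩ ⟨zK, hzT, rfl⟩ hTp).imp (fun h => Subtype.ext h) fun h => Subtype.ext h
  have hTz : (T : Subgroup K) = Z := by
    refine le_antisymm ?_ hT
    haveI : Nontrivial (T : Subgroup K) := ⟨⟨zK, hzT⟩, 1, fun h =>
      hz1 (congrArg (fun t : (T : Subgroup K) => ((t : K) : G)) h)⟩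
    haveI := T.isPGroup'.center_nontrivial
    obtain ⟨⟨c, hc⟩, hc1⟩ := exists_ne (1 : Subgroup.center (T : Subgroup K))
    have hcc : ∀ y : K, y ∈ (T : Subgroup K) → y * (c : K) = (c : K) * y := fun y hy =>
      congrArg Subtype.val (Subgroup.mem_center_iff.1 hc ⟨y, hy⟩)
    rcases key c c.2 (hcc zK hzT).symm with h | h
    · exact absurd (Subtype.ext (Subtype.ext h)) hc1
    intro x hx
    rcases key x hx (by rw [← h]; exact hcc x hx) with h' | h'
    · rw [h']; exact one_mem _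
    · rw [h']; exact Subgroup.mem_zpowers _
  have hP : Subgroup.normalizer ((T : Subgroup K) : Set K) ≤ Subgroup.centralizer ((T : Subgroup K) : Set K) := by
    intro g hg
    have h1 := (Subgroup.mem_normalizer_iff.1 hg zK).1 hzT
    rw [hTz] at h1 ⊢
    have h2 : g * zK * g⁻¹ = zK := by
      obtain ⟨i, hi⟩ := Subgroup.mem_zpowers_iff.1 h1
      rcases Int.even_or_odd' i with ⟨j, rfl | rfl⟩
      · exfalso
        rw [zpow_mul, zpow_ofNat, ← hzo, pow_orderOf_eq_one, one_zpow, eq_comm, conj_eq_one_iff] at hi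
        rw [hi, orderOf_one] at hzo
        omega
      · rw [← hi, zpow_add, zpow_mul, zpow_ofNat, ← hzo, pow_orderOf_eq_one, one_zpow, zpow_one,
          one_mul]
    refine Subgroup.mem_centralizer_iff.2 fun y hy => ?_
    obtain ⟨i, rfl⟩ := Subgroup.mem_zpowers_iff.1 hy
    exact (Commute.zpow_left (show Commute zK g from (mul_inv_eq_iff_eq_mul.1 h2).symm) i).eq
  set D₀ := (MonoidHom.transferSylow T hP).ker with hD₀
  have hc : Subgroup.IsComplement' D₀ (T : Subgroup K) := MonoidHom.ker_transferSylow_isComplement' T hP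
  haveI : D₀.Normal := MonoidHom.normal_ker _
  have hidx : D₀.index = 2 := by rw [Subgroup.IsComplement'.index_eq_card hc.symm, hTz, hZc]
  have hodd : Odd (Nat.card D₀) := Nat.not_even_iff_odd.1 fun he =>
    MonoidHom.not_dvd_card_ker_transferSylow T hP he.two_dvd
  have hzD : zK ∉ D₀ := fun h => by
    have := odd_orderOf_of_mem hodd h
    rw [hzo] at this
    exact absurd this (by decide)
  have hsplit : ∀ g : K, g ∈ D₀ ∨ g * zK ∈ D₀ := fun g => by
    by_cases hg : g ∈ D₀
    · exact Or.inl hg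
    · exact Or.inr ((Subgroup.mul_mem_iff_of_index_two hidx).2 (iff_of_false hg hzD))
  clear_value D₀
  refine ⟨D₀.map K.subtype, Subgroup.map_subtype_le _, ?_, ?_, ?_, ?_, ?_, ?_⟩
  · rw [Subgroup.card_map_of_injective K.subtype_injective]; exact hodd
  · rintro g hg _ ⟨d, hd, rfl⟩
    exact ⟨⟨g, hg⟩ * d * ⟨g, hg⟩⁻¹, Subgroup.Normal.conj_mem inferInstance d hd ⟨g, hg⟩, rfl⟩
  · intro g hg
    exact (hsplit ⟨g, hg⟩).imp (fun h => ⟨_, h, rfl⟩) fun h => ⟨_, h, rfl⟩
  · rintro ⟨d, hd, hdz⟩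
    exact hzD (by rwa [show zK = d from Subtype.ext hdz.symm])
  · rw [Subgroup.card_map_of_injective K.subtype_injective, ← hidx, mul_comm, Subgroup.card_mul_index]
  · intro d hd ho
    refine ⟨⟨d, hd⟩, ?_, rfl⟩
    rcases hsplit ⟨d, hd⟩ with h | h
    · exact h
    · obtain ⟨k, hk⟩ := exists_sqrt ho
      have hk' : (⟨d, hd⟩ : K) = (⟨d, hd⟩ : K) ^ k * (⟨d, hd⟩ : K) ^ k := Subtype.ext (by simpa using hk.symm)
      rw [hk']
      exact Subgroup.mul_self_mem_of_index_two hidx _

end CfsgLib.SmallCent
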