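import Cfsg.Agent.SmallCent.Local
import Cfsg.Agent.S4481
import Cfsg.Agent.S4482
import Cfsg.Agent.Char.ClassProducts
import Cfsg.Agent.Blocks.Congr
import Cfsg.Agent.Blocks.CharExtra

/-!
The equations supplied by the principal 2-block.
-/

set_option autoImplicit false
set_option linter.style.haveILetI false

namespace CfsgLib.SmallCent

open Cfsg CfsgLib.Char
open scoped ComplexConjugate

universe u

namespace Frame

variable {G : Type u} [Group G] [Finite G] (F : Frame G)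

theorem odd_index : Odd (F.syl : Subgroup G).index := by
  haveI : Fact (Nat.Prime 2) := ⟨Nat.prime_two⟩
  exact Nat.odd_iff.mpr (Nat.two_dvd_ne_zero.mp F.syl.not_dvd_index)

theorem card_eq_eight_mul : Nat.card G = 8 * (F.syl : Subgroup G).index := by
  rw [← (F.syl : Subgroup G).card_mul_index, F.card_syl]

theorem card_cent_z_τ :
    Nat.card (Subgroup.centralizer ({F.z, F.τ} : Set G)) = 4 * Nat.card F.A := by
  have hmem : ∀ g, g ∈ Subgroup.centralizer ({F.z, F.τ} : Set G) ↔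
      g ∈ F.C ∧ g * F.τ = F.τ * g := fun g => by
    simp [Subgroup.mem_centralizer_iff, F.mem_C, eq_comm]
  have h4 : Nat.card (Bool × Bool × F.A) = 4 * Nat.card F.A := by
    simp [Nat.card_prod]; ring
  rw [← h4]
  let w : Bool → Bool → G := fun i j => (cond i F.z 1) * (cond j F.τ 1)
  have hw : ∀ i j, w i j ∈ (F.syl : Subgroup G) ∧ w i j ∈ F.C ∧ w i j * F.τ = F.τ * w i j := by
    intro i j
    have h1 : cond i F.z 1 ∈ (F.syl : Subgroup G) := by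
      cases i
      exacts [one_mem _, mul_mem F.σ_syl F.σ_syl]
    have h2 : cond j F.τ 1 ∈ (F.syl : Subgroup G) := by
      cases j
      exacts [one_mem _, F.τ_syl]
    have hc1 : Commute (cond i F.z 1) F.τ := by
      cases i
      exacts [Commute.one_left _, F.τ_z.symm]
    have hc2 : Commute (cond j F.τ 1) F.τ := by
      cases j
      exacts [Commute.one_left _, Commute.refl _]
    exact ⟨mul_mem h1 h2, F.syl_le (mul_mem h1 h2), (hc1.mul_left hc2).eq⟩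
  refine (Nat.card_congr (Equiv.ofBijective
    (fun q : Bool × Bool × F.A => (⟨(q.2.2 : G) * w q.1 q.2.1, (hmem _).2 ⟨mul_mem
      (F.O_le (F.A_le q.2.2.2)) (hw _ _).2.1,
      ((show Commute (q.2.2 : G) F.τ from (F.mem_A.1 q.2.2.2).2).mul_left (hw _ _).2.2).eq⟩⟩ :
      Subgroup.centralizer ({F.z, F.τ} : Set G))) ⟨?_, ?_⟩)).symm
  · rintro ⟨i, j, x⟩ ⟨i', j', x'⟩ h
    obtain ⟨e1, e2⟩ := F.decomp_unique (F.A_le x.2) (F.A_le x'.2) (hw i j).1 (hw i' j').1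
      (congrArg Subtype.val h)
    obtain rfl : x = x' := Subtype.ext e1
    have hzτ : F.z * F.τ ≠ 1 := fun e => F.τ_ne_z
      ((eq_inv_of_mul_eq_one_right e).trans F.z_inv)
    cases i <;> cases j <;> cases i' <;> cases j' <;>
      simp_all [w, F.z_ne, F.τ_ne, F.τ_ne_z, F.z_ne.symm, F.τ_ne.symm, F.τ_ne_z.symm, hzτ.symm]
  · rintro ⟨g, hg⟩
    obtain ⟨hgC, hgt⟩ := (hmem g).1 hg
    obtain ⟨x, hx, h | h | h | h⟩ := F.comm_τ hgC hgt
    · exact ⟨(false, false, ⟨x, hx⟩), Subtype.ext (by simp [w, h])⟩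
    · exact ⟨(true, false, ⟨x, hx⟩), Subtype.ext (by simp [w, h])⟩
    · exact ⟨(false, true, ⟨x, hx⟩), Subtype.ext (by simp [w, h])⟩
    · exact ⟨(true, true, ⟨x, hx⟩), Subtype.ext (by simp [w, h])⟩

theorem card_pairs_σ :
    Nat.card {p : G × G // IsConj F.z p.1 ∧ IsConj F.z p.2 ∧ p.1 * p.2 = F.σ} = 4 := by
  classical
  set T : Finset G := {F.τ, F.s, F.z * F.τ, F.z * F.s} with hT
  have h4 : T.card = 4 := by
    have n1 : F.τ ≠ F.s := fun h => by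
      have h1 : F.σ = 1 := mul_right_cancel (h.symm.trans (one_mul F.τ).symm)
      have := F.ord_σ
      rw [h1, orderOf_one] at this
      omega
    have n2 : F.τ ≠ F.z * F.τ := fun h => F.z_ne (mul_eq_right.1 h.symm)
    have n3 : F.τ ≠ F.z * F.s := fun h => by
      have h1 : F.z * F.σ = 1 := mul_right_cancel ((mul_assoc F.z F.σ F.τ).trans (h.symm.trans (one_mul F.τ).symm))
      have h2 := F.ord_σ
      rw [eq_inv_of_mul_eq_one_right h1, F.z_inv, F.order_z] at h2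
      omega
    have n4 : F.s ≠ F.z * F.τ := fun h => by
      have h1 : F.σ = F.z := mul_right_cancel h
      have h2 := F.ord_σ
      rw [h1, F.order_z] at h2
      omega
    have n5 : F.s ≠ F.z * F.s := fun h => F.z_ne (mul_eq_right.1 h.symm)
    have n6 : F.z * F.τ ≠ F.z * F.s := fun h => n1 (mul_left_cancel h)
    simp [hT, n1, n2, n3, n4, n5, n6]
  have hinv : ∀ p ∈ T, p * p = 1 ∧ p ≠ 1 ∧ p * F.σ * p⁻¹ = F.σ⁻¹ := by
    have hz : ∀ p : G, p * p = 1 → p * F.z = F.z * p → p * F.σ * p⁻¹ = F.σ⁻¹ → p ≠ F.z →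
        F.z * p * (F.z * p) = 1 ∧ F.z * p ≠ 1 ∧ F.z * p * F.σ * (F.z * p)⁻¹ = F.σ⁻¹ := by
      intro p hp hc hi hne
      refine ⟨?_, fun h => hne ((eq_inv_of_mul_eq_one_right h).trans F.z_inv), ?_⟩
      · rw [mul_assoc, ← mul_assoc p, hc, mul_assoc, hp, mul_one, F.z_sq]
      · calc F.z * p * F.σ * (F.z * p)⁻¹ = F.z * (p * F.σ * p⁻¹) * F.z⁻¹ := by group
          _ = F.σ⁻¹ := by
            rw [hi]
            exact mul_inv_eq_of_eq_mul ((show Commute F.σ F.z from F.σ_z).inv_left.symm).eq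
    intro p hp
    simp only [hT, Finset.mem_insert, Finset.mem_singleton] at hp
    rcases hp with rfl | rfl | rfl | rfl
    · exact ⟨F.τ_sq, F.τ_ne, F.inv_στ⟩
    · exact ⟨F.s_sq, F.s_ne, F.s_inv_σ⟩
    · exact hz _ F.τ_sq F.τ_z F.inv_στ F.τ_ne_z
    · exact hz _ F.s_sq F.s_z F.s_inv_σ F.s_ne_z
  have hconj : ∀ v : G, v * v = 1 → v ≠ 1 → IsConj F.z v := fun v h1 h2 =>
    F.fuse v (orderOf_eq_prime (by rw [sq, h1]) h2)
  have hof : ∀ v : G, IsConj F.z v → v * v = 1 ∧ v ≠ 1 := fun v hv => by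
    obtain ⟨g, rfl⟩ := isConj_iff.1 hv
    exact ⟨mul_self_of_conj F.z_sq, fun h => F.z_ne (conj_eq_one_iff.1 h)⟩
  rw [← h4, ← Nat.card_eq_finsetCard]
  refine Nat.card_congr (Equiv.ofBijective (fun p => (⟨p.1.1, ?_⟩ : T)) ⟨?_, ?_⟩)
  · obtain ⟨⟨p, q⟩, hp, hq, hpq⟩ := p
    obtain ⟨hp2, hp1⟩ := hof p hp
    obtain ⟨hq2, -⟩ := hof q hq
    simp only at hpq hp2 hp1 hq2 ⊢
    have hi : p * F.σ * p⁻¹ = F.σ⁻¹ := by
      rw [← hpq, mul_inv_rev, ← mul_assoc, hp2, one_mul, inv_eq_self_of_sq hq2]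
    have hpC : p ∈ F.C := F.mem_C.2 (mul_inv_eq_iff_eq_mul.1 (by
      rw [z, ← conj_mul, hi, ← mul_inv_rev]; exact F.z_inv))
    have base : ∀ y ∈ F.O, ∀ r : G, r * F.σ * r⁻¹ = F.σ⁻¹ → p = y * r → p = r := by
      intro y hy r hr e
      have h : y * F.σ⁻¹ * y⁻¹ = F.σ⁻¹ := by
        calc y * F.σ⁻¹ * y⁻¹ = (y * r) * F.σ * (y * r)⁻¹ := by rw [← hr]; group
          _ = F.σ⁻¹ := by rw [← e, hi]
      have hc : Commute y F.σ :=
        by simpa using (show Commute y F.σ⁻¹ from mul_inv_eq_iff_eq_mul.1 h).inv_right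
      have h1 := F.inverts_σ hy
      rw [mul_inv_eq_of_eq_mul hc.eq.symm] at h1
      rw [e, eq_one_of_sq_of_odd (F.odd_of_mem hy) (mul_eq_one_iff_eq_inv.2 h1), one_mul]
    simp only [hT, Finset.mem_insert, Finset.mem_singleton]
    rcases F.invol_C hpC hp2 with h | h | ⟨y, hy, h | h⟩ | ⟨x, hx, h | h⟩
    · exact absurd h hp1
    · exfalso
      rw [h, mul_inv_eq_of_eq_mul F.σ_z.symm, F.σ_inv] at hi
      exact F.z_ne (mul_eq_right.1 hi.symm)
    · exact Or.inl (base y (F.B_le hy) _ F.inv_στ h)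
    · refine Or.inr (Or.inr (Or.inl (base y (F.B_le hy) _ (hinv _ ?_).2.2 h)))
      simp [hT]
    · exact Or.inr (Or.inl (base x (F.A_le hx) _ F.s_inv_σ h))
    · refine Or.inr (Or.inr (Or.inr (base x (F.A_le hx) _ (hinv _ ?_).2.2 h)))
      simp [hT]
  · intro a b he
    obtain ⟨⟨p, q⟩, _, _, h⟩ := a
    obtain ⟨⟨p', q'⟩, _, _, h'⟩ := b
    obtain rfl : p = p' := congrArg Subtype.val he
    obtain rfl : q = q' := mul_left_cancel (h.trans h'.symm)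
    rfl
  · rintro ⟨p, hp⟩
    obtain ⟨h2, h1, hi⟩ := hinv p hp
    refine ⟨⟨(p, p * F.σ), hconj p h2 h1, hconj _ ?_ ?_, by rw [← mul_assoc, h2, one_mul]⟩, rfl⟩
    · calc p * F.σ * (p * F.σ) = (p * F.σ * p⁻¹) * (p * p) * F.σ := by group
        _ = 1 := by rw [hi, h2, mul_one, inv_mul_cancel]
    · intro h
      have he : p = F.σ⁻¹ := eq_inv_of_mul_eq_one_left h
      rw [he] at h2
      exact F.z_ne (by rw [← F.z_inv, z, mul_inv_rev]; exact h2)

theorem card_cent_z : Nat.card (Subgroup.centralizer ({F.z} : Set G)) =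
    8 * (Nat.card F.A * Nat.card F.B) := by rw [← F.card_O]; exact F.card_C

/-- The equations from the principal block. -/
theorem char_data : ∃ (δ : ℤ) (x : ℕ) (P Q : ℤ), (δ = 1 ∨ δ = -1) ∧ 1 < x ∧ P ≠ 0 ∧ Q ≠ 0 ∧
    P + Q = -(1 + δ * x) ∧
    (Nat.card G : ℚ) * ((x : ℚ) - δ) ^ 2 = 64 * Nat.card F.A * Nat.card F.B *
      ((Nat.card F.A : ℚ) + Nat.card F.B) ^ 2 * x * (x + δ) ∧
    256 * ((Nat.card F.A : ℚ) * Nat.card F.B) ^ 2 =
      (Nat.card G : ℚ) * (1 + (δ : ℚ) / x + 1 / P + 1 / Q) := by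
  classical
  haveI : Fintype G := Fintype.ofFinite G
  obtain ⟨M, hM⟩ := CfsgLib.Block.exists_isPModular Nat.prime_two
  have hI : IsPrimitiveRoot Complex.I (2 ^ (3 - 1)) := by
    rw [show (2 : ℕ) ^ (3 - 1) = 4 by norm_num, IsPrimitiveRoot.iff_orderOf]
    exact orderOf_eq_prime_pow (p := 2) (n := 1) (by
      rw [pow_one, Complex.I_sq]; norm_num) (by
      rw [show (2 : ℕ) ^ (1 + 1) = 4 from rfl, Complex.I_pow_four])
  have hP : Nonempty ((F.syl : Subgroup G) ≃* DihedralGroup (2 ^ (3 - 1))) := F.nonempty_dihedral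
  obtain ⟨-, χ₁, χ₂, χ₃, χ', δ, δ₂, δ₃, hδ, hδ₂, hδ₃, -, n1, n2, n3, d12, d13, d23, -, hblk, hval,
    hrel⟩ := Cfsg.Agent.S4481.result M hM 3 le_rfl F.syl hP F.σ F.σ_syl
      (by rw [F.ord_σ]; rfl) Complex.I hI
  have hv1 := hval 1 one_pos (by norm_num)
  have hv2 := hval 2 two_pos (by norm_num)
  have hval' : ∀ l : ℕ, 0 < l → l < 2 ^ (3 - 1) → (χ₁ : G → ℂ) (F.σ ^ l) = δ :=
    fun l h1 h2 => (hval l h1 h2).1
  have hconj : IsConj (F.σ ^ (2 ^ (3 - 2))) F.τ ∧ IsConj (F.σ ^ (2 ^ (3 - 2))) (F.σ * F.τ) := by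
    have e : F.σ ^ (2 ^ (3 - 2)) = F.σ * F.σ := by rw [show (2 : ℕ) ^ (3 - 2) = 2 from rfl, sq]
    rw [e]; exact ⟨F.fuse _ F.order_τ, F.fuse _ F.order_s⟩
  obtain ⟨hne, hord⟩ := Cfsg.Agent.S4482.result M hM 3 le_rfl F.syl F.σ F.τ F.σ_syl F.τ_syl
    (by rw [F.ord_σ]; rfl) F.order_τ F.inv_στ F.gen hconj χ₁ (by rw [hblk]; exact Or.inr (Or.inl rfl))
    n1 δ hδ hval'
  have ez : F.σ ^ (2 ^ (3 - 2)) = F.z := by rw [show (2 : ℕ) ^ (3 - 2) = 2 from rfl, sq]; rfl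
  have hcs : Nat.card (Subgroup.centralizer ({F.z, F.s} : Set G)) = 4 * Nat.card F.B := by
    have := F.swap.card_cent_z_τ
    rwa [F.swap_A] at this
  rw [ez, show (Nat.card (Subgroup.centralizer ({F.z} : Set G)) : ℚ) =
      8 * ((Nat.card F.A : ℚ) * Nat.card F.B) by rw [F.card_cent_z]; push_cast; ring,
    F.card_cent_z_τ, show F.σ * F.τ = F.s from rfl, hcs] at hord
  set x := charDegree (χ₁ : G → ℂ) with hx
  set x2 := charDegree (χ₂ : G → ℂ) with hx2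
  set x3 := charDegree (χ₃ : G → ℂ) with hx3
  have hx0 : 0 < x := (CfsgLib.Block.Chr.irr_one χ₁).2
  have hx20 : 0 < x2 := (CfsgLib.Block.Chr.irr_one χ₂).2
  have hx30 : 0 < x3 := (CfsgLib.Block.Chr.irr_one χ₃).2
  have hsum0 := (hrel 1 (by simp) ⟨0, by norm_num⟩).1
  rw [(CfsgLib.Block.Chr.irr_one χ₁).1, (CfsgLib.Block.Chr.irr_one χ₂).1,
    (CfsgLib.Block.Chr.irr_one χ₃).1] at hsum0
  have hsum : (δ₂ * x2 : ℤ) + δ₃ * x3 = -(1 + δ * x) := by
    have h : (((δ₂ * x2 : ℤ) + δ₃ * x3 : ℤ) : ℂ) = ((-(1 + δ * x) : ℤ) : ℂ) := by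
      push_cast; linear_combination hsum0
    exact_mod_cast h
  have hA0 : (Nat.card F.A : ℚ) ≠ 0 := by exact_mod_cast Nat.card_pos.ne'
  have hB0 : (Nat.card F.B : ℚ) ≠ 0 := by exact_mod_cast Nat.card_pos.ne'
  have hord' : (Nat.card G : ℚ) * ((x : ℚ) - δ) ^ 2 = 64 * Nat.card F.A * Nat.card F.B *
      ((Nat.card F.A : ℚ) + Nat.card F.B) ^ 2 * x * (x + δ) := by
    rw [hord]; push_cast
    field_simp
    try ring
  have hx1 : 1 < x := by
    by_contra hle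
    obtain hxe : x = 1 := by omega
    rcases hδ with rfl | rfl
    · exact hne (by rw [hxe]; rfl)
    · rw [hxe] at hord'
      norm_num at hord'
  refine ⟨δ, x, δ₂ * x2, δ₃ * x3, hδ, hx1, ?_, ?_, hsum, hord', ?_⟩
  · exact mul_ne_zero (by rcases hδ₂ with h | h <;> rw [h] <;> norm_num) (by exact_mod_cast hx20.ne')
  · exact mul_ne_zero (by rcases hδ₃ with h | h <;> rw [h] <;> norm_num) (by exact_mod_cast hx30.ne')
  set triv : G → ℂ := fun _ => 1 with htriv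
  set T : Finset (G → ℂ) := {triv, (χ₁ : G → ℂ), (χ₂ : G → ℂ), (χ₃ : G → ℂ)} with hT
  have hTsub : T ⊆ irrFinset G := by
    intro χ hχ
    simp only [hT, Finset.mem_insert, Finset.mem_singleton] at hχ
    rw [mem_irrFinset]
    rcases hχ with rfl | rfl | rfl | rfl
    exacts [isIrrCharacter_one, χ₁.2, χ₂.2, χ₃.2]
  have hTsum : ∀ f : (G → ℂ) → ℂ, ∑ χ ∈ T, f χ =
      f triv + (f (χ₁ : G → ℂ) + (f (χ₂ : G → ℂ) + f (χ₃ : G → ℂ))) := by
    intro f
    have e12 : (χ₁ : G → ℂ) ≠ χ₂ := fun h => d12 (Subtype.ext h)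
    have e13 : (χ₁ : G → ℂ) ≠ χ₃ := fun h => d13 (Subtype.ext h)
    have e23 : (χ₂ : G → ℂ) ≠ χ₃ := fun h => d23 (Subtype.ext h)
    rw [hT, Finset.sum_insert (by simp only [Finset.mem_insert, Finset.mem_singleton, not_or]; exact ⟨Ne.symm n1, Ne.symm n2, Ne.symm n3⟩),
      Finset.sum_insert (by simp [e12, e13]), Finset.sum_pair e23]
  have s1 : (χ₁ : G → ℂ) F.σ = δ := by simpa using hv1.1
  have s2 : (χ₂ : G → ℂ) F.σ = δ₂ := by simpa using hv1.2.1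
  have s3 : (χ₃ : G → ℂ) F.σ = δ₃ := by simpa using hv1.2.2.1
  have e2 : F.σ ^ 2 = F.z := sq _
  have t1 : (χ₁ : G → ℂ) F.z = δ := by rw [← e2]; exact hv2.1
  have t2 : (χ₂ : G → ℂ) F.z = -δ₂ := by rw [← e2, hv2.2.1]; norm_num
  have t3 : (χ₃ : G → ℂ) F.z = -δ₃ := by rw [← e2, hv2.2.2.1]; norm_num
  have hsqδ : ∀ {d : ℤ}, d = 1 ∨ d = -1 → (d : ℂ) * d = 1 := fun {d} h => by
    rcases h with rfl | rfl <;> norm_num
  have hzero : ∀ χ ∈ irrFinset G \ T, χ F.σ = 0 := by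
    have hcent : Nat.card (Subgroup.centralizer ({F.σ} : Set G)) = 4 := by
      rw [F.cent_σ, Nat.card_zpowers, F.ord_σ]
    have h := sum_irr_mul_conj F.σ F.σ
    rw [if_pos (IsConj.refl F.σ), hcent, ← Finset.sum_sdiff hTsub, hTsum] at h
    simp only [s1, s2, s3, map_intCast, hsqδ hδ, hsqδ hδ₂, hsqδ hδ₃, htriv, map_one] at h
    have h0 : ∑ χ ∈ irrFinset G \ T, (Complex.normSq (χ F.σ) : ℂ) = 0 := by
      simp only [Complex.normSq_eq_conj_mul_self]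
      rw [Finset.sum_congr rfl fun χ _ => mul_comm (conj (χ F.σ)) (χ F.σ)]
      linear_combination h
    rw [← Complex.ofReal_sum, Complex.ofReal_eq_zero,
      Finset.sum_eq_zero_iff_of_nonneg fun χ _ => Complex.normSq_nonneg _] at h0
    exact fun χ hχ => Complex.normSq_eq_zero.1 (h0 χ hχ)
  have hcp := card_class_products F.z F.z F.σ
  rw [F.card_pairs_σ, ← Finset.sum_sdiff hTsub,
    Finset.sum_eq_zero fun χ hχ => by rw [hzero χ hχ]; simp, zero_add, hTsum] at hcp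
  simp only [t1, t2, t3, s1, s2, s3, map_intCast, htriv, map_one,
    (CfsgLib.Block.Chr.irr_one χ₁).1, (CfsgLib.Block.Chr.irr_one χ₂).1,
    (CfsgLib.Block.Chr.irr_one χ₃).1, ← hx, ← hx2, ← hx3] at hcp
  have hK : (Nat.card {y : G // IsConj F.z y} : ℂ) * (8 * ((Nat.card F.A : ℂ) * Nat.card F.B)) =
      (Nat.card G : ℂ) := by
    have h1 := card_conj_class_mul_card_centralizer F.z
    rw [F.card_cent_z] at h1
    exact_mod_cast h1
  have hG0 : (Nat.card G : ℂ) ≠ 0 := by exact_mod_cast Nat.card_pos.ne'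
  apply Rat.cast_injective (α := ℂ)
  push_cast
  have ed : ∀ {d : ℤ} (n : ℕ), d = 1 ∨ d = -1 → (1 : ℂ) / ((d : ℂ) * n) = d / n := by
    intro d n h
    rcases h with rfl | rfl <;> simp [div_neg, neg_div]
  rw [ed x2 hδ₂, ed x3 hδ₃]
  have q1 : (δ : ℂ) * δ * δ = δ := by rw [hsqδ hδ, one_mul]
  have q2 : (-(δ₂ : ℂ)) * -(δ₂ : ℂ) * δ₂ = δ₂ := by rw [neg_mul_neg, hsqδ hδ₂, one_mul]
  have q3 : (-(δ₃ : ℂ)) * -(δ₃ : ℂ) * δ₃ = δ₃ := by rw [neg_mul_neg, hsqδ hδ₃, one_mul]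
  rw [q1, q2, q3] at hcp
  set K : ℂ := (Nat.card {y : G // IsConj F.z y} : ℂ)
  set Tsum : ℂ := 1 + (δ : ℂ) / x + (δ₂ : ℂ) / x2 + (δ₃ : ℂ) / x3
  have hcp' : (4 : ℂ) * Nat.card G = K * K * Tsum := by
    push_cast at hcp
    rw [hcp]
    field_simp
    ring
  rw [← hK] at hcp' hG0 ⊢
  have hK0 : K ≠ 0 := left_ne_zero_of_mul hG0
  have h9 : K * (256 * ((Nat.card F.A : ℂ) * Nat.card F.B) ^ 2) =
      K * (K * (8 * ((Nat.card F.A : ℂ) * Nat.card F.B)) * Tsum) := by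
    linear_combination (8 * ((Nat.card F.A : ℂ) * Nat.card F.B)) * hcp'
  exact mul_left_cancel₀ hK0 h9

end Frame

end CfsgLib.SmallCent
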