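import Cfsg.Agent.SmallCent.Basic
import Cfsg.Agent.Invol.Dihedral
import Cfsg.Agent.S0514

/-!
A Sylow 2-subgroup `⟨σ, τ⟩`, dihedral of order eight, with `σ` self-centralizing and a single
class of involutions: the centralizer of the central involution `z`.
-/

set_option autoImplicit false
set_option linter.style.haveILetI false

namespace CfsgLib.SmallCent

universe u

/-- The situation. -/
structure Frame (G : Type u) [Group G] [Finite G] where
  syl : Sylow 2 G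
  σ : G
  τ : G
  ord_σ : orderOf σ = 4
  τ_sq : τ * τ = 1
  inv_στ : τ * σ * τ⁻¹ = σ⁻¹
  τ_not : τ ∉ Subgroup.zpowers σ
  cent_σ : Subgroup.centralizer ({σ} : Set G) = Subgroup.zpowers σ
  gen : Subgroup.closure ({σ, τ} : Set G) = (syl : Subgroup G)
  fuse : ∀ v : G, orderOf v = 2 → IsConj (σ * σ) v

namespace Frame

variable {G : Type u} [Group G] [Finite G] (F : Frame G)

/-- The central involution. -/
def z : G := F.σ * F.σ

/-- The other reflection. -/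
def s : G := F.σ * F.τ

/-- The involution centralizer. -/
def C : Subgroup G := Subgroup.centralizer ({F.z} : Set G)

theorem σ_pow_four : F.σ * F.σ * (F.σ * F.σ) = 1 := by
  have h := pow_orderOf_eq_one F.σ
  rw [F.ord_σ, show 4 = 2 + 2 from rfl, pow_add, sq] at h
  exact h

theorem z_sq : F.z * F.z = 1 := F.σ_pow_four

theorem z_ne : F.z ≠ 1 := fun h => by
  have h' : F.σ ^ 2 = 1 := (sq F.σ).trans h
  have := orderOf_dvd_of_pow_eq_one h'
  rw [F.ord_σ] at this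
  norm_num at this

theorem z_inv : F.z⁻¹ = F.z := inv_eq_self_of_sq F.z_sq

theorem τ_inv : F.τ⁻¹ = F.τ := inv_eq_self_of_sq F.τ_sq

theorem τ_ne : F.τ ≠ 1 := fun h => F.τ_not (h ▸ one_mem _)

theorem σ_inv : F.σ⁻¹ = F.z * F.σ := by
  refine inv_eq_of_mul_eq_one_left ?_
  rw [mul_assoc]; exact F.z_sq

theorem τ_σ : F.τ * F.σ = F.σ⁻¹ * F.τ := mul_inv_eq_iff_eq_mul.1 F.inv_στ

theorem σ_z : F.σ * F.z = F.z * F.σ := (mul_assoc F.σ F.σ F.σ).symm

theorem τ_z : F.τ * F.z = F.z * F.τ := by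
  have h : F.τ * F.z * F.τ⁻¹ = F.z := by
    rw [z, ← conj_mul, F.inv_στ, ← mul_inv_rev]; exact F.z_inv
  exact mul_inv_eq_iff_eq_mul.1 h

theorem s_sq : F.s * F.s = 1 := by
  calc F.σ * F.τ * (F.σ * F.τ) = F.σ * (F.τ * F.σ) * F.τ := by group
    _ = F.σ * F.σ⁻¹ * (F.τ * F.τ) := by rw [F.τ_σ]; group
    _ = 1 := by rw [F.τ_sq, mul_inv_cancel, mul_one]

theorem s_inv : F.s⁻¹ = F.s := inv_eq_self_of_sq F.s_sq

theorem s_z : F.s * F.z = F.z * F.s := by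
  rw [s, mul_assoc, F.τ_z, ← mul_assoc, F.σ_z, mul_assoc]

theorem s_inv_σ : F.s * F.σ * F.s⁻¹ = F.σ⁻¹ := by
  calc F.σ * F.τ * F.σ * (F.σ * F.τ)⁻¹ = F.σ * (F.τ * F.σ * F.τ⁻¹) * F.σ⁻¹ := by group
    _ = F.σ⁻¹ := by rw [F.inv_στ]; group

theorem σ_τ_σ : F.σ * F.τ * F.σ⁻¹ = F.z * F.τ := by
  have h : F.τ * F.σ⁻¹ = F.σ * F.τ := by
    rw [← F.inv_στ]
    calc F.τ * (F.τ * F.σ * F.τ⁻¹) = F.τ * F.τ * F.σ * F.τ⁻¹ := by group
      _ = F.σ * F.τ := by rw [F.τ_sq, one_mul, F.τ_inv]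
  rw [mul_assoc, h, ← mul_assoc]; rfl

theorem σ_s_σ : F.σ * F.s * F.σ⁻¹ = F.z * F.s := by
  calc F.σ * (F.σ * F.τ) * F.σ⁻¹ = F.σ * (F.σ * F.τ * F.σ⁻¹) := by group
    _ = F.σ * F.z * F.τ := by rw [F.σ_τ_σ]; group
    _ = F.z * F.s := by rw [F.σ_z, s]; group

theorem τ_s_τ : F.τ * F.s * F.τ⁻¹ = F.z * F.s := by
  calc F.τ * (F.σ * F.τ) * F.τ⁻¹ = F.τ * F.σ := by group
    _ = F.z * F.s := by rw [F.τ_σ, F.σ_inv, s]; group

theorem τ_ne_z : F.τ ≠ F.z := fun h => F.τ_not (by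
  rw [h]; exact mul_mem (Subgroup.mem_zpowers _) (Subgroup.mem_zpowers _))

theorem s_not : F.s ∉ Subgroup.zpowers F.σ := fun h =>
  F.τ_not ((Subgroup.mul_mem_cancel_left _ (Subgroup.mem_zpowers _)).1 h)

theorem s_ne : F.s ≠ 1 := fun h => F.s_not (h ▸ one_mem _)

theorem s_ne_z : F.s ≠ F.z := fun h => F.s_not (by
  rw [h]; exact mul_mem (Subgroup.mem_zpowers _) (Subgroup.mem_zpowers _))

theorem order_z : orderOf F.z = 2 := orderOf_eq_prime (by rw [sq]; exact F.z_sq) F.z_ne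

theorem order_τ : orderOf F.τ = 2 := orderOf_eq_prime (by rw [sq]; exact F.τ_sq) F.τ_ne

theorem order_s : orderOf F.s = 2 := orderOf_eq_prime (by rw [sq]; exact F.s_sq) F.s_ne

theorem mem_C {g : G} : g ∈ F.C ↔ g * F.z = F.z * g := Subgroup.mem_centralizer_singleton_iff

theorem z_mem : F.z ∈ F.C := F.mem_C.2 rfl

theorem σ_mem : F.σ ∈ F.C := F.mem_C.2 F.σ_z

theorem τ_mem : F.τ ∈ F.C := F.mem_C.2 F.τ_z

theorem s_mem : F.s ∈ F.C := F.mem_C.2 F.s_z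

theorem syl_le : (F.syl : Subgroup G) ≤ F.C := by
  rw [← F.gen, Subgroup.closure_le]
  rintro x (rfl | rfl)
  · exact F.σ_mem
  · exact F.τ_mem

theorem σ_syl : F.σ ∈ (F.syl : Subgroup G) := F.gen ▸ Subgroup.subset_closure (Or.inl rfl)

theorem τ_syl : F.τ ∈ (F.syl : Subgroup G) := F.gen ▸ Subgroup.subset_closure (Or.inr rfl)

theorem closure_eq : Subgroup.closure ({F.s, F.τ} : Set G) = (F.syl : Subgroup G) := by
  refine le_antisymm ((Subgroup.closure_le _).2 ?_) ?_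
  · rintro x (rfl | rfl)
    · exact mul_mem F.σ_syl F.τ_syl
    · exact F.τ_syl
  · rw [← F.gen, Subgroup.closure_le]
    have hs : F.s ∈ Subgroup.closure ({F.s, F.τ} : Set G) := Subgroup.subset_closure (Or.inl rfl)
    have ht : F.τ ∈ Subgroup.closure ({F.s, F.τ} : Set G) := Subgroup.subset_closure (Or.inr rfl)
    rintro x (rfl | rfl)
    · have := mul_mem hs ht
      rwa [s, mul_assoc, F.τ_sq, mul_one] at this
    · exact ht

theorem nonempty_dihedral : Nonempty ((F.syl : Subgroup G) ≃* DihedralGroup 4) := by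
  have hne : F.s ≠ F.τ := fun h => by
    have h1 : F.σ = 1 := mul_right_cancel (h.trans (one_mul F.τ).symm)
    have := F.ord_σ
    rw [h1, orderOf_one] at this
    omega
  have e : F.s * F.τ = F.σ := by rw [s, mul_assoc, F.τ_sq, mul_one]
  obtain ⟨f⟩ := CfsgLib.Invol.nonempty_dihedral_equiv F.order_s F.order_τ hne
  rw [e, F.ord_σ] at f
  exact ⟨(MulEquiv.subgroupCongr F.closure_eq).symm.trans f⟩

theorem card_syl : Nat.card (F.syl : Subgroup G) = 8 := by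
  obtain ⟨e⟩ := F.nonempty_dihedral
  rw [Nat.card_congr e.toEquiv, DihedralGroup.nat_card]

theorem core : ∃ N : Subgroup F.C, N.Normal ∧ Odd (Nat.card N) ∧ ∃ k : ℕ, N.index = 2 ^ k :=
  Cfsg.Agent.S0514.result F.syl 4 (by norm_num) F.nonempty_dihedral F.z F.order_z

/-- The odd core, inside the centralizer. -/
noncomputable def coreN : Subgroup F.C := Classical.choose F.core

theorem coreN_spec : F.coreN.Normal ∧ Odd (Nat.card F.coreN) ∧ ∃ k : ℕ, F.coreN.index = 2 ^ k :=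
  Classical.choose_spec F.core

/-- The odd core of the involution centralizer. -/
noncomputable def O : Subgroup G := F.coreN.map F.C.subtype

theorem O_le : F.O ≤ F.C := Subgroup.map_subtype_le _

theorem O_odd : Odd (Nat.card F.O) := by
  rw [O, Subgroup.card_map_of_injective F.C.subtype_injective]
  exact (F.coreN_spec).2.1

theorem odd_of_mem {o : G} (ho : o ∈ F.O) : Odd (orderOf o) := odd_orderOf_of_mem F.O_odd ho

theorem O_conj {c o : G} (hc : c ∈ F.C) (ho : o ∈ F.O) : c * o * c⁻¹ ∈ F.O := by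
  obtain ⟨x, hx, rfl⟩ := ho
  exact ⟨⟨c, hc⟩ * x * ⟨c, hc⟩⁻¹, (F.coreN_spec).1.conj_mem x hx ⟨c, hc⟩, rfl⟩

theorem index_core : F.coreN.index = 8 := by
  haveI : Fact (Nat.Prime 2) := ⟨Nat.prime_two⟩
  obtain ⟨-, hodd, k, hk⟩ := F.coreN_spec
  have hcard := F.coreN.card_mul_index
  rw [hk] at hcard ⊢
  have h8 : 2 ^ 3 ∣ Nat.card F.C := by
    have := Subgroup.card_dvd_of_le F.syl_le
    rwa [F.card_syl] at this
  rw [← hcard] at h8
  have hcop : (2 ^ 3).Coprime (Nat.card F.coreN) :=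
    Nat.Coprime.pow_left 3 (Nat.coprime_two_left.2 hodd)
  have h1 : 3 ≤ k := (Nat.pow_dvd_pow_iff_le_right one_lt_two).1 (hcop.dvd_of_dvd_mul_left h8)
  have h2 : k ≤ 3 := by
    have hd : 2 ^ k ∣ Nat.card F.C := ⟨_, by rw [← hcard]; ring⟩
    obtain ⟨T, hT⟩ := Sylow.exists_subgroup_card_pow_prime (G := F.C) 2 hd
    have hTp : IsPGroup 2 (T.map F.C.subtype) := (IsPGroup.of_card hT).map _
    obtain ⟨P, hP⟩ := hTp.exists_le_sylow
    have h := Subgroup.card_dvd_of_le hP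
    rw [Subgroup.card_map_of_injective F.C.subtype_injective, hT,
      Nat.card_congr (P.equiv F.syl).toEquiv, F.card_syl, show 8 = 2 ^ 3 from rfl] at h
    exact (Nat.pow_dvd_pow_iff_le_right one_lt_two).1 h
  rw [show k = 3 by omega]
  norm_num

theorem card_C : Nat.card F.C = 8 * Nat.card F.O := by
  rw [← F.coreN.card_mul_index, F.index_core, O,
    Subgroup.card_map_of_injective F.C.subtype_injective, mul_comm]

theorem mem_O {c : G} (hc : c ∈ F.C) (ho : Odd (orderOf c)) : c ∈ F.O := by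
  haveI := (F.coreN_spec).1
  refine ⟨⟨c, hc⟩, ?_, rfl⟩
  show (⟨c, hc⟩ : F.C) ∈ F.coreN
  rw [← QuotientGroup.eq_one_iff, ← orderOf_eq_one_iff]
  refine Nat.eq_one_of_dvd_coprimes (Nat.coprime_two_left.2 ho |>.pow_left 3) ?_ ?_
  · refine (orderOf_dvd_natCard _).trans ?_
    rw [← Subgroup.index_eq_card, F.index_core]
  · have := orderOf_map_dvd (QuotientGroup.mk' F.coreN) (⟨c, hc⟩ : F.C)
    rwa [← Subgroup.orderOf_coe] at this

theorem eq_one_of_mem_both {x : G} (h1 : x ∈ F.O) (h2 : x ∈ (F.syl : Subgroup G)) : x = 1 := by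
  refine orderOf_eq_one_iff.1 (Nat.eq_one_of_dvd_coprimes
    (Nat.coprime_two_left.2 F.O_odd |>.pow_left 3) ?_ (F.O.orderOf_dvd_natCard h1))
  have := (F.syl : Subgroup G).orderOf_dvd_natCard h2
  rw [F.card_syl] at this
  exact this

theorem decomp_unique {o o' x x' : G} (ho : o ∈ F.O) (ho' : o' ∈ F.O)
    (hx : x ∈ (F.syl : Subgroup G)) (hx' : x' ∈ (F.syl : Subgroup G)) (h : o * x = o' * x') :
    o = o' ∧ x = x' := by
  have h1 : o'⁻¹ * o = x' * x⁻¹ := by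
    rw [eq_mul_inv_iff_mul_eq, mul_assoc, h, inv_mul_cancel_left]
  have h2 := F.eq_one_of_mem_both (mul_mem (inv_mem ho') ho) (h1 ▸ mul_mem hx' (inv_mem hx))
  have h3 : o = o' := (inv_mul_eq_one.1 h2).symm
  subst h3
  exact ⟨rfl, mul_left_cancel h⟩

theorem exists_decomp {c : G} (hc : c ∈ F.C) :
    ∃ o ∈ F.O, ∃ x ∈ (F.syl : Subgroup G), c = o * x := by
  classical
  let f : F.O × (F.syl : Subgroup G) → F.C := fun p =>
    ⟨(p.1 : G) * p.2, mul_mem (F.O_le p.1.2) (F.syl_le p.2.2)⟩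
  have hinj : Function.Injective f := fun p q h => by
    obtain ⟨h1, h2⟩ := F.decomp_unique p.1.2 q.1.2 p.2.2 q.2.2 (congrArg Subtype.val h)
    exact Prod.ext (Subtype.ext h1) (Subtype.ext h2)
  obtain ⟨p, hp⟩ := ((Nat.bijective_iff_injective_and_card f).2 ⟨hinj, by
    rw [Nat.card_prod, F.card_syl, F.card_C, mul_comm]⟩).2 ⟨c, hc⟩
  exact ⟨p.1, p.1.2, p.2, p.2.2, (congrArg Subtype.val hp).symm⟩

theorem zpowers_σ {x : G} (hx : x ∈ Subgroup.zpowers F.σ) :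
    x = 1 ∨ x = F.σ ∨ x = F.z ∨ x = F.z * F.σ := by
  classical
  rw [mem_zpowers_iff_mem_range_orderOf, F.ord_σ, Finset.mem_image] at hx
  obtain ⟨k, hk, rfl⟩ := hx
  rw [Finset.mem_range] at hk
  rcases (by omega : k = 0 ∨ k = 1 ∨ k = 2 ∨ k = 3) with rfl | rfl | rfl | rfl
  · exact Or.inl (pow_zero _)
  · exact Or.inr (Or.inl (pow_one _))
  · exact Or.inr (Or.inr (Or.inl (sq _)))
  · exact Or.inr (Or.inr (Or.inr (by rw [pow_succ, sq]; rfl)))

theorem syl_cases {x : G} (hx : x ∈ (F.syl : Subgroup G)) :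
    x = 1 ∨ x = F.σ ∨ x = F.z ∨ x = F.z * F.σ ∨ x = F.τ ∨ x = F.s ∨ x = F.z * F.τ ∨
      x = F.z * F.s := by
  have key : ∀ y ∈ Subgroup.zpowers F.σ, y * F.τ = F.τ ∨ y * F.τ = F.s ∨ y * F.τ = F.z * F.τ ∨
      y * F.τ = F.z * F.s := fun y hy => by
    rcases F.zpowers_σ hy with rfl | rfl | rfl | rfl
    · exact Or.inl (one_mul _)
    · exact Or.inr (Or.inl rfl)
    · exact Or.inr (Or.inr (Or.inl rfl))
    · exact Or.inr (Or.inr (Or.inr (mul_assoc _ _ _)))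
  have hidx : ((Subgroup.zpowers F.σ).subgroupOf (F.syl : Subgroup G)).index = 2 := by
    have h := ((Subgroup.zpowers F.σ).subgroupOf (F.syl : Subgroup G)).card_mul_index
    rw [Nat.card_congr (Subgroup.subgroupOfEquivOfLe (Subgroup.zpowers_le.2 F.σ_syl)).toEquiv,
      Nat.card_zpowers, F.ord_σ, F.card_syl] at h
    omega
  by_cases hz : x ∈ Subgroup.zpowers F.σ
  · rcases F.zpowers_σ hz with h | h | h | h
    · exact Or.inl h
    · exact Or.inr (Or.inl h)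
    · exact Or.inr (Or.inr (Or.inl h))
    · exact Or.inr (Or.inr (Or.inr (Or.inl h)))
  · have h := Subgroup.mul_mem_iff_of_index_two hidx (a := ⟨x, hx⟩) (b := ⟨F.τ, F.τ_syl⟩)
    simp only [Subgroup.mem_subgroupOf, Subgroup.coe_mul] at h
    have hy := h.2 (iff_of_false hz F.τ_not)
    have e : x = x * F.τ * F.τ := by rw [mul_assoc, F.τ_sq, mul_one]
    rw [e]
    exact Or.inr (Or.inr (Or.inr (Or.inr (key _ hy))))

theorem inverts_σ {o : G} (ho : o ∈ F.O) : F.σ * o * F.σ⁻¹ = o⁻¹ := by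
  have hz : ∀ y ∈ F.O, F.σ * (F.σ * y * F.σ⁻¹) * F.σ⁻¹ = y := fun y hy => by
    calc F.σ * (F.σ * y * F.σ⁻¹) * F.σ⁻¹ = (F.σ * F.σ) * y * (F.σ * F.σ)⁻¹ := by group
      _ = y := mul_inv_eq_of_eq_mul (F.mem_C.1 (F.O_le hy)).symm
  let f : F.O → F.O := fun x =>
    ⟨(x : G)⁻¹ * (F.σ * x * F.σ⁻¹), mul_mem (inv_mem x.2) (F.O_conj F.σ_mem x.2)⟩
  have hinj : Function.Injective f := by
    intro p q h
    have h1 : (p : G)⁻¹ * (F.σ * p * F.σ⁻¹) = (q : G)⁻¹ * (F.σ * q * F.σ⁻¹) := congrArg Subtype.val h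
    have h2 : F.σ * ((q : G) * (p : G)⁻¹) * F.σ⁻¹ = (q : G) * (p : G)⁻¹ := by
      calc F.σ * ((q : G) * (p : G)⁻¹) * F.σ⁻¹ =
          (q : G) * ((q : G)⁻¹ * (F.σ * q * F.σ⁻¹)) * (F.σ * (p : G)⁻¹ * F.σ⁻¹) := by group
        _ = (q : G) * ((p : G)⁻¹ * (F.σ * p * F.σ⁻¹)) * (F.σ * (p : G)⁻¹ * F.σ⁻¹) := by rw [h1]
        _ = _ := by group
    have h3 : (q : G) * (p : G)⁻¹ ∈ Subgroup.centralizer ({F.σ} : Set G) :=
      Subgroup.mem_centralizer_singleton_iff.2 (mul_inv_eq_iff_eq_mul.1 h2).symm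
    rw [F.cent_σ] at h3
    have h4 := F.eq_one_of_mem_both (mul_mem q.2 (inv_mem p.2))
      (Subgroup.zpowers_le.2 F.σ_syl h3)
    exact Subtype.ext (mul_inv_eq_one.1 h4).symm
  obtain ⟨x, hx⟩ := (Finite.injective_iff_surjective.1 hinj) ⟨o, ho⟩
  have hx' : (x : G)⁻¹ * (F.σ * x * F.σ⁻¹) = o := congrArg Subtype.val hx
  rw [← hx', ← conj_mul, ← conj_inv, hz x x.2]
  group

theorem O_comm {p q : G} (hp : p ∈ F.O) (hq : q ∈ F.O) : p * q = q * p := by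
  have h := F.inverts_σ (mul_mem hp hq)
  rw [← conj_mul, F.inverts_σ hp, F.inverts_σ hq, ← mul_inv_rev, inv_inj] at h
  exact h.symm

/-- The fixed points of `τ` on the core. -/
noncomputable def A : Subgroup G := F.O ⊓ Subgroup.centralizer ({F.τ} : Set G)

/-- The fixed points of `s` on the core. -/
noncomputable def B : Subgroup G := F.O ⊓ Subgroup.centralizer ({F.s} : Set G)

theorem mem_A {x : G} : x ∈ F.A ↔ x ∈ F.O ∧ x * F.τ = F.τ * x := by
  simp [A, Subgroup.mem_centralizer_singleton_iff]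

theorem mem_B {x : G} : x ∈ F.B ↔ x ∈ F.O ∧ x * F.s = F.s * x := by
  simp [B, Subgroup.mem_centralizer_singleton_iff]

theorem A_le : F.A ≤ F.O := inf_le_left

theorem B_le : F.B ≤ F.O := inf_le_left

theorem A_odd : Odd (Nat.card F.A) := Odd.of_dvd_nat F.O_odd (Subgroup.card_dvd_of_le F.A_le)

theorem B_odd : Odd (Nat.card F.B) := Odd.of_dvd_nat F.O_odd (Subgroup.card_dvd_of_le F.B_le)

theorem s_conj {o : G} (ho : o ∈ F.O) : F.s * o * F.s⁻¹ = (F.τ * o * F.τ⁻¹)⁻¹ := by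
  rw [← F.inverts_σ (F.O_conj F.τ_mem ho), s]
  group

theorem s_inverts_A {x : G} (hx : x ∈ F.A) : F.s * x * F.s⁻¹ = x⁻¹ := by
  rw [F.s_conj (F.A_le hx), mul_inv_eq_of_eq_mul (F.mem_A.1 hx).2.symm]

theorem τ_inverts_B {x : G} (hx : x ∈ F.B) : F.τ * x * F.τ⁻¹ = x⁻¹ := by
  have h := F.s_conj (F.B_le hx)
  rw [mul_inv_eq_of_eq_mul (F.mem_B.1 hx).2.symm] at h
  exact inv_eq_iff_eq_inv.1 h.symm

theorem z_comm {o : G} (ho : o ∈ F.O) : o * F.z = F.z * o := F.mem_C.1 (F.O_le ho)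

theorem A_inf_B {x : G} (h1 : x ∈ F.A) (h2 : x ∈ F.B) : x = 1 := by
  have h := F.s_inverts_A h1
  rw [mul_inv_eq_of_eq_mul (F.mem_B.1 h2).2.symm] at h
  exact eq_one_of_sq_of_odd (F.odd_of_mem (F.A_le h1)) (mul_eq_one_iff_eq_inv.2 h)

theorem exists_AB {o : G} (ho : o ∈ F.O) : ∃ x ∈ F.A, ∃ y ∈ F.B, o = x * y := by
  obtain ⟨k, hk⟩ := exists_sqrt (F.odd_of_mem ho)
  set r := o ^ k
  have hr : r ∈ F.O := pow_mem ho k
  have htr : F.τ * r * F.τ⁻¹ ∈ F.O := F.O_conj F.τ_mem hr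
  have htt : F.τ * (F.τ * r * F.τ⁻¹) * F.τ⁻¹ = r := by
    calc F.τ * (F.τ * r * F.τ⁻¹) * F.τ⁻¹ = (F.τ * F.τ) * r * (F.τ * F.τ)⁻¹ := by group
      _ = r := by rw [F.τ_sq]; group
  refine ⟨r * (F.τ * r * F.τ⁻¹), F.mem_A.2 ⟨mul_mem hr htr, ?_⟩,
    r * (F.τ * r * F.τ⁻¹)⁻¹, F.mem_B.2 ⟨mul_mem hr (inv_mem htr), ?_⟩, ?_⟩
  · refine (mul_inv_eq_iff_eq_mul.1 ?_).symm
    rw [← conj_mul, htt]
    exact F.O_comm htr hr
  · refine (mul_inv_eq_iff_eq_mul.1 ?_).symm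
    rw [F.s_conj (mul_mem hr (inv_mem htr)), ← conj_mul, ← conj_inv, htt, mul_inv_rev, inv_inv]
  · rw [F.O_comm hr htr, mul_assoc, ← mul_assoc r r, hk, F.O_comm ho (inv_mem htr),
      mul_inv_cancel_left]

theorem AB_unique {x x' y y' : G} (hx : x ∈ F.A) (hx' : x' ∈ F.A) (hy : y ∈ F.B) (hy' : y' ∈ F.B)
    (h : x * y = x' * y') : x = x' ∧ y = y' := by
  have h1 : x'⁻¹ * x = y' * y⁻¹ := by
    rw [eq_mul_inv_iff_mul_eq, mul_assoc, h, inv_mul_cancel_left]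
  have h2 := F.A_inf_B (mul_mem (inv_mem hx') hx) (h1 ▸ mul_mem hy' (inv_mem hy))
  have h3 : x = x' := (inv_mul_eq_one.1 h2).symm
  subst h3
  exact ⟨rfl, mul_left_cancel h⟩

theorem card_O : Nat.card F.O = Nat.card F.A * Nat.card F.B := by
  rw [← Nat.card_prod]
  refine (Nat.card_congr (Equiv.ofBijective
    (fun p : F.A × F.B => (⟨(p.1 : G) * p.2, mul_mem (F.A_le p.1.2) (F.B_le p.2.2)⟩ : F.O))
    ⟨?_, ?_⟩)).symm
  · intro p q h
    obtain ⟨h1, h2⟩ := F.AB_unique p.1.2 q.1.2 p.2.2 q.2.2 (congrArg Subtype.val h)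
    exact Prod.ext (Subtype.ext h1) (Subtype.ext h2)
  · rintro ⟨o, ho⟩
    obtain ⟨x, hx, y, hy, rfl⟩ := F.exists_AB ho
    exact ⟨(⟨x, hx⟩, ⟨y, hy⟩), rfl⟩

/-- Exchange of the two reflections. -/
def swap : Frame G where
  syl := F.syl
  σ := F.σ
  τ := F.s
  ord_σ := F.ord_σ
  τ_sq := F.s_sq
  inv_στ := F.s_inv_σ
  τ_not := F.s_not
  cent_σ := F.cent_σ
  gen := by
    refine le_antisymm ((Subgroup.closure_le _).2 ?_) ?_
    · rintro x (rfl | rfl)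
      · exact F.σ_syl
      · exact mul_mem F.σ_syl F.τ_syl
    · rw [← F.gen, Subgroup.closure_le]
      have hσ : F.σ ∈ Subgroup.closure ({F.σ, F.s} : Set G) := Subgroup.subset_closure (Or.inl rfl)
      have hs : F.s ∈ Subgroup.closure ({F.σ, F.s} : Set G) := Subgroup.subset_closure (Or.inr rfl)
      rintro x (rfl | rfl)
      · exact hσ
      · simpa [s] using mul_mem (inv_mem hσ) hs
  fuse := F.fuse

theorem swap_s : F.swap.s = F.z * F.τ := by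
  show F.σ * (F.σ * F.τ) = F.σ * F.σ * F.τ
  rw [mul_assoc]

theorem swap_z : F.swap.z = F.z := rfl

theorem swap_τ : F.swap.τ = F.s := rfl

theorem swap_O : F.swap.O = F.O := rfl

theorem swap_A : F.swap.A = F.B := rfl

theorem swap_B : F.swap.B = F.A := by
  ext x
  rw [mem_B, mem_A, swap_s, swap_O]
  refine and_congr_right fun hx => ?_
  rw [← mul_assoc, F.z_comm hx, mul_assoc, mul_assoc, mul_right_inj]

end Frame

end CfsgLib.SmallCent
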