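import Cfsg.Agent.SmallCent.Frame

/-!
The element of order three fusing the involutions of a four group, and the centralizers of its
involutions.
-/

set_option autoImplicit false
set_option linter.style.haveILetI false

namespace CfsgLib.SmallCent

universe u

namespace Frame

variable {G : Type u} [Group G] [Finite G] (F : Frame G)

theorem comm_τ {c : G} (hc : c ∈ F.C) (h : c * F.τ = F.τ * c) :
    ∃ x ∈ F.A, c = x ∨ c = x * F.z ∨ c = x * F.τ ∨ c = x * (F.z * F.τ) := by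
  obtain ⟨o, ho, x, hx, rfl⟩ := F.exists_decomp hc
  have h' : o * (x * F.τ) = (F.τ * o * F.τ⁻¹) * (F.τ * x) := by
    rw [← mul_assoc, h]; group
  obtain ⟨h1, h2⟩ := F.decomp_unique ho (F.O_conj F.τ_mem ho) (mul_mem hx F.τ_syl)
    (mul_mem F.τ_syl hx) h'
  refine ⟨o, F.mem_A.2 ⟨ho, mul_inv_eq_iff_eq_mul.1 h1.symm |>.symm⟩, ?_⟩
  have hinv : ∀ y : G, y * F.τ = F.τ * y → F.τ * y * F.τ⁻¹ = y := fun y hy => by
    rw [← hy]; group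
  have bad : ∀ y : G, y * F.τ = F.τ * y → y ≠ F.σ ∧ y ≠ F.z * F.σ := fun y hy => by
    constructor <;> rintro rfl
    · have := hinv _ hy
      rw [F.inv_στ, F.σ_inv] at this
      exact F.z_ne (mul_eq_right.1 this)
    · have := hinv _ hy
      rw [← conj_mul, mul_inv_eq_of_eq_mul F.τ_z, F.inv_στ, F.σ_inv] at this
      exact F.z_ne (mul_eq_right.1 (mul_left_cancel this))
  have bad' : ∀ y : G, y * F.τ = F.τ * y → y ≠ F.s ∧ y ≠ F.z * F.s := fun y hy => by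
    constructor <;> rintro rfl
    · have := hinv _ hy
      rw [F.τ_s_τ] at this
      exact F.z_ne (mul_eq_right.1 this)
    · have := hinv _ hy
      rw [← conj_mul, mul_inv_eq_of_eq_mul F.τ_z, F.τ_s_τ] at this
      exact F.z_ne (mul_eq_right.1 (mul_left_cancel this))
  rcases F.syl_cases hx with rfl | rfl | rfl | rfl | rfl | rfl | rfl | rfl
  · exact Or.inl (mul_one _)
  · exact absurd rfl (bad _ h2).1
  · exact Or.inr (Or.inl rfl)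
  · exact absurd rfl (bad _ h2).2
  · exact Or.inr (Or.inr (Or.inl rfl))
  · exact absurd rfl (bad' _ h2).1
  · exact Or.inr (Or.inr (Or.inr rfl))
  · exact absurd rfl (bad' _ h2).2

theorem invol_C {c : G} (hc : c ∈ F.C) (h : c * c = 1) :
    c = 1 ∨ c = F.z ∨ (∃ y ∈ F.B, c = y * F.τ ∨ c = y * (F.z * F.τ)) ∨
      ∃ x ∈ F.A, c = x * F.s ∨ c = x * (F.z * F.s) := by
  obtain ⟨o, ho, x, hx, rfl⟩ := F.exists_decomp hc
  have h' : o * (x * o * x⁻¹) * (x * x) = 1 * 1 := by rw [one_mul, ← h]; group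
  obtain ⟨h1, h2⟩ := F.decomp_unique (mul_mem ho (F.O_conj (F.syl_le hx) ho)) (one_mem _)
    (mul_mem hx hx) (one_mem _) h'
  have hxo : x * o * x⁻¹ = o⁻¹ := eq_inv_of_mul_eq_one_right h1
  have hzo : F.z * o * F.z⁻¹ = o := mul_inv_eq_of_eq_mul (F.z_comm ho).symm
  have hnz : F.z * o * F.z⁻¹ = o⁻¹ → o = 1 := fun e => by
    rw [hzo] at e
    exact eq_one_of_sq_of_odd (F.odd_of_mem ho) (mul_eq_one_iff_eq_inv.2 e)
  have hσσ : F.σ * F.σ ≠ 1 := F.z_ne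
  have hB : F.τ * o * F.τ⁻¹ = o⁻¹ → o ∈ F.B := fun e => F.mem_B.2 ⟨ho, by
    refine (mul_inv_eq_iff_eq_mul.1 ?_).symm
    rw [F.s_conj ho, e, inv_inv]⟩
  have hA : F.s * o * F.s⁻¹ = o⁻¹ → o ∈ F.A := fun e => F.mem_A.2 ⟨ho, by
    rw [F.s_conj ho, inv_inj] at e
    exact (mul_inv_eq_iff_eq_mul.1 e).symm⟩
  have hzc : ∀ y : G, (F.z * y) * o * (F.z * y)⁻¹ = o⁻¹ → y * o * y⁻¹ = o⁻¹ := fun y e => by
    calc y * o * y⁻¹ = F.z⁻¹ * ((F.z * y) * o * (F.z * y)⁻¹) * F.z := by group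
      _ = o⁻¹ := by rw [e, mul_assoc, F.z_comm (inv_mem ho), inv_mul_cancel_left]
  rcases F.syl_cases hx with rfl | rfl | rfl | rfl | rfl | rfl | rfl | rfl
  · left
    rw [mul_one, eq_one_of_sq_of_odd (F.odd_of_mem ho)]
    simpa [mul_eq_one_iff_eq_inv] using hxo
  · exact absurd h2 hσσ
  · rw [hnz hxo, one_mul]; exact Or.inr (Or.inl rfl)
  · exfalso
    apply hσσ
    calc F.σ * F.σ = (F.z * F.z) * (F.σ * F.σ) := by rw [F.z_sq, one_mul]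
      _ = F.z * (F.z * F.σ) * F.σ := by group
      _ = F.z * F.σ * (F.z * F.σ) := by rw [mul_assoc F.z F.σ, ← mul_assoc F.σ, F.σ_z]; group
      _ = 1 := h2
  · exact Or.inr (Or.inr (Or.inl ⟨o, hB hxo, Or.inl rfl⟩))
  · exact Or.inr (Or.inr (Or.inr ⟨o, hA hxo, Or.inl rfl⟩))
  · exact Or.inr (Or.inr (Or.inl ⟨o, hB (hzc _ hxo), Or.inr rfl⟩))
  · exact Or.inr (Or.inr (Or.inr ⟨o, hA (hzc _ hxo), Or.inr rfl⟩))

theorem z_τ_sq : F.z * F.τ * (F.z * F.τ) = 1 := by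
  calc F.z * F.τ * (F.z * F.τ) = F.z * (F.τ * F.z) * F.τ := by group
    _ = (F.z * F.z) * (F.τ * F.τ) := by rw [F.τ_z]; group
    _ = 1 := by rw [F.z_sq, F.τ_sq, one_mul]

/-- An involution of `C` other than `z` is conjugate in `C` to `τ` or to `s`. -/
theorem conj_invol {c : G} (hc : c ∈ F.C) (h : c * c = 1) (h1 : c ≠ 1) (hz : c ≠ F.z) :
    ∃ e ∈ F.C, e * F.τ * e⁻¹ = c ∨ e * F.s * e⁻¹ = c := by
  rcases F.invol_C hc h with rfl | rfl | ⟨y, hy, e⟩ | ⟨x, hx, e⟩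
  · exact absurd rfl h1
  · exact absurd rfl hz
  · obtain ⟨k, hk⟩ := exists_conj_translate F.τ_sq (F.odd_of_mem (F.B_le hy)) (F.τ_inverts_B hy)
    rcases e with rfl | rfl
    · exact ⟨y ^ k, F.O_le (pow_mem (F.B_le hy) k), Or.inl hk⟩
    · refine ⟨y ^ k * F.σ, mul_mem (F.O_le (pow_mem (F.B_le hy) k)) F.σ_mem, Or.inl ?_⟩
      have hz := F.z_comm (pow_mem (F.B_le hy) k)
      calc y ^ k * F.σ * F.τ * (y ^ k * F.σ)⁻¹ = y ^ k * (F.σ * F.τ * F.σ⁻¹) * (y ^ k)⁻¹ := by group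
        _ = (y ^ k * F.z) * F.τ * (y ^ k)⁻¹ := by rw [F.σ_τ_σ]; group
        _ = F.z * (y ^ k * F.τ * (y ^ k)⁻¹) := by rw [hz]; group
        _ = y * (F.z * F.τ) := by rw [hk, ← mul_assoc, ← mul_assoc, F.z_comm (F.B_le hy)]
  · obtain ⟨k, hk⟩ := exists_conj_translate F.s_sq (F.odd_of_mem (F.A_le hx)) (F.s_inverts_A hx)
    rcases e with rfl | rfl
    · exact ⟨x ^ k, F.O_le (pow_mem (F.A_le hx) k), Or.inr hk⟩
    · refine ⟨x ^ k * F.σ, mul_mem (F.O_le (pow_mem (F.A_le hx) k)) F.σ_mem, Or.inr ?_⟩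
      have hz := F.z_comm (pow_mem (F.A_le hx) k)
      calc x ^ k * F.σ * F.s * (x ^ k * F.σ)⁻¹ = x ^ k * (F.σ * F.s * F.σ⁻¹) * (x ^ k)⁻¹ := by group
        _ = (x ^ k * F.z) * F.s * (x ^ k)⁻¹ := by rw [F.σ_s_σ]; group
        _ = F.z * (x ^ k * F.s * (x ^ k)⁻¹) := by rw [hz]; group
        _ = x * (F.z * F.s) := by rw [hk, ← mul_assoc, ← mul_assoc, F.z_comm (F.A_le hx)]

/-- The centralizer of `A`. -/
noncomputable def CA : Subgroup G := Subgroup.centralizer (F.A : Set G)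

theorem mem_CA {g : G} : g ∈ F.CA ↔ ∀ x ∈ F.A, x * g = g * x := Subgroup.mem_centralizer_iff

theorem O_le_CA : F.O ≤ F.CA := fun _ ho => F.mem_CA.2 fun _ hx => F.O_comm (F.A_le hx) ho

theorem z_CA : F.z ∈ F.CA := F.mem_CA.2 fun _ hx => F.z_comm (F.A_le hx)

theorem τ_CA : F.τ ∈ F.CA := F.mem_CA.2 fun _ hx => (F.mem_A.1 hx).2

theorem zτ_CA : F.z * F.τ ∈ F.CA := mul_mem F.z_CA F.τ_CA

theorem mem_A_of_comm {x : G} (ho : Odd (orderOf x)) (hz : x * F.z = F.z * x)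
    (ht : x * F.τ = F.τ * x) : x ∈ F.A :=
  F.mem_A.2 ⟨F.mem_O (F.mem_C.2 hz) ho, ht⟩

theorem CA_conj {g y : G} (hg : ∀ x ∈ F.A, g⁻¹ * x * g ∈ F.A) (hy : y ∈ F.CA) :
    g * y * g⁻¹ ∈ F.CA := F.mem_CA.2 fun x hx => by
  have h := F.mem_CA.1 hy _ (hg x hx)
  calc x * (g * y * g⁻¹) = g * ((g⁻¹ * x * g) * y) * g⁻¹ := by group
    _ = g * y * g⁻¹ * x := by rw [h]; group

theorem s_normA {x : G} (hx : x ∈ F.A) : F.s⁻¹ * x * F.s ∈ F.A := by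
  have h := F.s_inverts_A hx
  rw [F.s_inv] at h ⊢
  exact h ▸ inv_mem hx

theorem σ_normA {x : G} (hx : x ∈ F.A) : F.σ⁻¹ * x * F.σ ∈ F.A := by
  have h : F.σ⁻¹ * x * F.σ = x⁻¹ := by
    have h1 := F.inverts_σ (inv_mem (F.A_le hx))
    rw [inv_inv] at h1
    calc F.σ⁻¹ * x * F.σ = F.σ⁻¹ * (F.σ * x⁻¹ * F.σ⁻¹) * F.σ := by rw [h1]
      _ = x⁻¹ := by group
  exact h ▸ inv_mem hx

theorem exists_swap : ∃ h : G, h * F.τ * h⁻¹ = F.τ ∧ h * F.z * h⁻¹ = F.z * F.τ ∧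
    h * (F.z * F.τ) * h⁻¹ = F.z := by
  obtain ⟨g, hg⟩ := isConj_iff.1 (F.fuse F.τ F.order_τ)
  change g * F.z * g⁻¹ = F.τ at hg
  set t := g⁻¹ * F.z * g with ht
  have ht2 : t * t = 1 := by
    calc t * t = g⁻¹ * (F.z * F.z) * g := by rw [ht]; group
      _ = 1 := by rw [F.z_sq]; group
  have ht1 : t ≠ 1 := fun e => F.z_ne (by
    have : F.z = g * t * g⁻¹ := by rw [ht]; group
    rw [this, e]; group)
  have hzt : g * t * g⁻¹ = F.z := by rw [ht]; group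
  have htC : t ∈ F.C := F.mem_C.2 (by
    have h := congrArg (fun y => g⁻¹ * y * g) F.τ_z.symm
    simp only [← hg] at h
    calc t * F.z = g⁻¹ * (F.z * (g * F.z * g⁻¹)) * g := by rw [ht]; group
      _ = g⁻¹ * (g * F.z * g⁻¹ * F.z) * g := h
      _ = F.z * t := by rw [ht]; group)
  have htz : t ≠ F.z := fun e => F.τ_ne_z ((hg.symm.trans (by rw [e])).trans hzt)
  obtain ⟨e, he, her⟩ := F.conj_invol htC ht2 ht1 htz
  obtain ⟨r, hr, hσr⟩ : ∃ r, e * r * e⁻¹ = t ∧ F.σ * r * F.σ⁻¹ = F.z * r := by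
    rcases her with h | h
    exacts [⟨_, h, F.σ_τ_σ⟩, ⟨_, h, F.σ_s_σ⟩]
  have hez : e * F.z * e⁻¹ = F.z := mul_inv_eq_of_eq_mul (F.mem_C.1 he)
  have hσz : F.σ * F.z * F.σ⁻¹ = F.z := mul_inv_eq_of_eq_mul F.σ_z
  set f := e * F.σ * e⁻¹ with hf
  have hfz : f * F.z * f⁻¹ = F.z := by
    calc f * F.z * f⁻¹ = e * (F.σ * (e⁻¹ * (e * F.z * e⁻¹) * e) * F.σ⁻¹) * e⁻¹ := by
          rw [hf, hez]; group
      _ = F.z := by
          rw [show e⁻¹ * (e * F.z * e⁻¹) * e = F.z by group, hσz, hez]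
  have hft : f * t * f⁻¹ = F.z * t := by
    calc f * t * f⁻¹ = e * (F.σ * r * F.σ⁻¹) * e⁻¹ := by rw [hf, ← hr]; group
      _ = (e * F.z * e⁻¹) * (e * r * e⁻¹) := by rw [hσr]; group
      _ = F.z * t := by rw [hez, hr]
  have h1 : g * f * g⁻¹ * F.τ * (g * f * g⁻¹)⁻¹ = F.τ := by
    rw [← hg]
    calc g * f * g⁻¹ * (g * F.z * g⁻¹) * (g * f * g⁻¹)⁻¹ = g * (f * F.z * f⁻¹) * g⁻¹ := by group
      _ = g * F.z * g⁻¹ := by rw [hfz]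
  have h2 : g * f * g⁻¹ * F.z * (g * f * g⁻¹)⁻¹ = F.z * F.τ := by
    calc g * f * g⁻¹ * F.z * (g * f * g⁻¹)⁻¹ = g * (f * t * f⁻¹) * g⁻¹ := by rw [← hzt]; group
      _ = (g * F.z * g⁻¹) * (g * t * g⁻¹) := by rw [hft]; group
      _ = F.z * F.τ := by rw [hg, hzt, F.τ_z]
  refine ⟨g * f * g⁻¹, h1, h2, ?_⟩
  rw [← conj_mul, h1, h2, mul_assoc, F.τ_sq, mul_one]

theorem exists_θ : ∃ θ ∈ F.CA, θ * F.z * θ⁻¹ = F.τ ∧ θ * F.τ * θ⁻¹ = F.z * F.τ ∧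
    θ * (F.z * F.τ) * θ⁻¹ = F.z := by
  obtain ⟨h, ht, hz, hzt⟩ := F.exists_swap
  have hit : h⁻¹ * F.τ * h = F.τ :=
    calc h⁻¹ * F.τ * h = h⁻¹ * (h * F.τ * h⁻¹) * h := by rw [ht]
      _ = F.τ := by group
  have hiz : h⁻¹ * F.z * h = F.z * F.τ :=
    calc h⁻¹ * F.z * h = h⁻¹ * (h * (F.z * F.τ) * h⁻¹) * h := by rw [hzt]
      _ = F.z * F.τ := by group
  have nA : ∀ x ∈ F.A, h⁻¹ * x * h ∈ F.A := by
    intro x hx
    have ho : Odd (orderOf (h⁻¹ * x * h)) := by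
      have := MulEquiv.orderOf_eq (MulAut.conj h⁻¹) x
      rw [MulAut.conj_apply, inv_inv] at this
      rw [this]
      exact F.odd_of_mem (F.A_le hx)
    have hcz : x * (F.z * F.τ) = F.z * F.τ * x := by
      rw [← mul_assoc, F.z_comm (F.A_le hx), mul_assoc, (F.mem_A.1 hx).2, mul_assoc]
    have a1 : h⁻¹ * x * h * F.z = F.z * (h⁻¹ * x * h) := by
      rw [← hzt]
      calc h⁻¹ * x * h * (h * (F.z * F.τ) * h⁻¹) = _ := by rw [hzt]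
        _ = h⁻¹ * (x * (h * F.z * h⁻¹)) * h := by group
        _ = h⁻¹ * ((h * F.z * h⁻¹) * x) * h := by rw [hz, hcz]
        _ = F.z * (h⁻¹ * x * h) := by group
        _ = _ := by rw [hzt]
    have a2 : h⁻¹ * x * h * F.τ = F.τ * (h⁻¹ * x * h) := by
      calc h⁻¹ * x * h * F.τ = h⁻¹ * (x * (h * F.τ * h⁻¹)) * h := by group
        _ = h⁻¹ * ((h * F.τ * h⁻¹) * x) * h := by rw [ht, (F.mem_A.1 hx).2]
        _ = F.τ * (h⁻¹ * x * h) := by group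
    exact F.mem_A_of_comm ho a1 a2
  have hσz : F.σ⁻¹ * F.z * F.σ = F.z := by rw [mul_assoc, ← F.σ_z, inv_mul_cancel_left]
  have hσt : F.σ⁻¹ * F.τ * F.σ = F.z * F.τ := by
    calc F.σ⁻¹ * F.τ * F.σ = F.σ⁻¹ * (F.τ * F.σ) := by group
      _ = F.σ⁻¹ * F.σ⁻¹ * F.τ := by rw [F.τ_σ]; group
      _ = F.z * F.τ := by rw [← mul_inv_rev, ← z, F.z_inv]
  refine ⟨h * F.σ * h⁻¹ * F.σ⁻¹, F.mem_CA.2 fun x hx => ?_, ?_, ?_, ?_⟩
  · have h1 : F.σ⁻¹ * x * F.σ = x⁻¹ := by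
      calc F.σ⁻¹ * x * F.σ = F.σ⁻¹ * (F.σ * x⁻¹ * F.σ⁻¹) * F.σ := by
            rw [F.inverts_σ (inv_mem (F.A_le hx)), inv_inv]
        _ = x⁻¹ := by group
    have h2 : F.σ * (h⁻¹ * x * h) * F.σ⁻¹ = (h⁻¹ * x * h)⁻¹ := F.inverts_σ (F.A_le (nA x hx))
    have h3 : (h * F.σ * h⁻¹ * F.σ⁻¹) * x * (h * F.σ * h⁻¹ * F.σ⁻¹)⁻¹ = x := by
      calc (h * F.σ * h⁻¹ * F.σ⁻¹) * x * (h * F.σ * h⁻¹ * F.σ⁻¹)⁻¹
          = h * (F.σ * (h⁻¹ * (F.σ⁻¹ * x * F.σ) * h) * F.σ⁻¹) * h⁻¹ := by group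
        _ = h * (F.σ * (h⁻¹ * x * h) * F.σ⁻¹)⁻¹ * h⁻¹ := by rw [h1]; group
        _ = x := by rw [h2, inv_inv]; group
    exact (mul_inv_eq_iff_eq_mul.1 h3).symm
  · calc h * F.σ * h⁻¹ * F.σ⁻¹ * F.z * (h * F.σ * h⁻¹ * F.σ⁻¹)⁻¹
        = h * (F.σ * (h⁻¹ * (F.σ⁻¹ * F.z * F.σ) * h) * F.σ⁻¹) * h⁻¹ := by group
      _ = h * ((F.σ * F.z * F.σ⁻¹) * (F.σ * F.τ * F.σ⁻¹)) * h⁻¹ := by rw [hσz, hiz]; group
      _ = F.τ := by
          rw [mul_inv_eq_of_eq_mul F.σ_z, F.σ_τ_σ, ← mul_assoc F.z F.z, F.z_sq, one_mul, ht]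
  · calc h * F.σ * h⁻¹ * F.σ⁻¹ * F.τ * (h * F.σ * h⁻¹ * F.σ⁻¹)⁻¹
        = h * (F.σ * (h⁻¹ * (F.σ⁻¹ * F.τ * F.σ) * h) * F.σ⁻¹) * h⁻¹ := by group
      _ = h * (F.σ * ((h⁻¹ * F.z * h) * (h⁻¹ * F.τ * h)) * F.σ⁻¹) * h⁻¹ := by rw [hσt]; group
      _ = F.z * F.τ := by
          rw [hiz, hit, mul_assoc F.z F.τ F.τ, F.τ_sq, mul_one, mul_inv_eq_of_eq_mul F.σ_z, hz]
  · calc h * F.σ * h⁻¹ * F.σ⁻¹ * (F.z * F.τ) * (h * F.σ * h⁻¹ * F.σ⁻¹)⁻¹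
        = h * (F.σ * (h⁻¹ * ((F.σ⁻¹ * F.z * F.σ) * (F.σ⁻¹ * F.τ * F.σ)) * h) * F.σ⁻¹) * h⁻¹ := by group
      _ = h * (F.σ * F.τ * F.σ⁻¹) * h⁻¹ := by
          rw [hσz, hσt, ← mul_assoc F.z F.z, F.z_sq, one_mul, hit]
      _ = F.z := by rw [F.σ_τ_σ, hzt]

/-- An element of `C(A)` cycling `z → τ → zτ`. -/
noncomputable def θ : G := Classical.choose F.exists_θ

theorem θ_CA : F.θ ∈ F.CA := (Classical.choose_spec F.exists_θ).1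

theorem θ_z : F.θ * F.z * F.θ⁻¹ = F.τ := (Classical.choose_spec F.exists_θ).2.1

theorem θ_τ : F.θ * F.τ * F.θ⁻¹ = F.z * F.τ := (Classical.choose_spec F.exists_θ).2.2.1

theorem θ_zτ : F.θ * (F.z * F.τ) * F.θ⁻¹ = F.z := (Classical.choose_spec F.exists_θ).2.2.2

theorem θ_A {x : G} (hx : x ∈ F.A) : F.θ * x * F.θ⁻¹ = x :=
  mul_inv_eq_of_eq_mul (F.mem_CA.1 F.θ_CA x hx).symm

theorem θ_inv_A {x : G} (hx : x ∈ F.A) : F.θ⁻¹ * x * F.θ = x := by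
  rw [mul_assoc, F.mem_CA.1 F.θ_CA x hx, inv_mul_cancel_left]

omit [Finite G] in
theorem odd_conj {g x : G} (h : Odd (orderOf x)) : Odd (orderOf (g * x * g⁻¹)) := by
  have := MulEquiv.orderOf_eq (MulAut.conj g) x
  rw [MulAut.conj_apply] at this
  rwa [this]

omit [Finite G] in
theorem odd_conj' {g x : G} (h : Odd (orderOf x)) : Odd (orderOf (g⁻¹ * x * g)) := by
  have := odd_conj (g := g⁻¹) h
  rwa [inv_inv] at this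

omit [Finite G] in
theorem comm_conj {g x y : G} (h : x * y = y * x) :
    g * x * g⁻¹ * (g * y * g⁻¹) = g * y * g⁻¹ * (g * x * g⁻¹) := by
  rw [conj_mul, conj_mul, h]

/-- An element of odd order centralizing `τ`. -/
theorem odd_comm_τ {x : G} (ho : Odd (orderOf x)) (h : x * F.τ = F.τ * x) :
    ∃ a ∈ F.A, ∃ b ∈ F.B, x = a * (F.θ * b * F.θ⁻¹) := by
  have h1 : F.θ⁻¹ * x * F.θ * F.z = F.z * (F.θ⁻¹ * x * F.θ) := by
    calc F.θ⁻¹ * x * F.θ * F.z = F.θ⁻¹ * (x * (F.θ * F.z * F.θ⁻¹)) * F.θ := by group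
      _ = F.θ⁻¹ * ((F.θ * F.z * F.θ⁻¹) * x) * F.θ := by rw [F.θ_z, h]
      _ = _ := by group
  obtain ⟨a, ha, b, hb, e⟩ := F.exists_AB (F.mem_O (F.mem_C.2 h1) (odd_conj' ho))
  refine ⟨a, ha, b, hb, ?_⟩
  calc x = F.θ * (F.θ⁻¹ * x * F.θ) * F.θ⁻¹ := by group
    _ = (F.θ * a * F.θ⁻¹) * (F.θ * b * F.θ⁻¹) := by rw [e, conj_mul]
    _ = _ := by rw [F.θ_A ha]

theorem θB_comm_τ {b : G} (hb : b ∈ F.B) :
    F.θ * b * F.θ⁻¹ * F.τ = F.τ * (F.θ * b * F.θ⁻¹) := by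
  rw [← F.θ_z]
  exact comm_conj (F.z_comm (F.B_le hb))

theorem z_inverts_θB {b : G} (hb : b ∈ F.B) :
    F.z * (F.θ * b * F.θ⁻¹) * F.z⁻¹ = (F.θ * b * F.θ⁻¹)⁻¹ := by
  have h : (F.z * F.τ) * b * (F.z * F.τ)⁻¹ = b⁻¹ := by
    calc (F.z * F.τ) * b * (F.z * F.τ)⁻¹ = F.z * (F.τ * b * F.τ⁻¹) * F.z⁻¹ := by group
      _ = b⁻¹ := by
          rw [F.τ_inverts_B hb]
          exact mul_inv_eq_of_eq_mul (F.z_comm (inv_mem (F.B_le hb))).symm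
  calc F.z * (F.θ * b * F.θ⁻¹) * F.z⁻¹
      = (F.θ * (F.z * F.τ) * F.θ⁻¹) * (F.θ * b * F.θ⁻¹) * (F.θ * (F.z * F.τ) * F.θ⁻¹)⁻¹ := by rw [F.θ_zτ]
    _ = F.θ * ((F.z * F.τ) * b * (F.z * F.τ)⁻¹) * F.θ⁻¹ := by group
    _ = (F.θ * b * F.θ⁻¹)⁻¹ := by rw [h]; group

theorem θB_CA {b : G} (hb : b ∈ F.B) : F.θ * b * F.θ⁻¹ ∈ F.CA :=
  mul_mem (mul_mem F.θ_CA (F.O_le_CA (F.B_le hb))) (inv_mem F.θ_CA)

theorem θB_odd {b : G} (hb : b ∈ F.B) : Odd (orderOf (F.θ * b * F.θ⁻¹)) :=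
  odd_conj (F.odd_of_mem (F.B_le hb))

/-- An element of `C(B)` cycling `z → s → zs`. -/
noncomputable def φ : G := F.swap.θ

theorem φ_CB {b : G} (hb : b ∈ F.B) : F.φ * b * F.φ⁻¹ = b := F.swap.θ_A hb

theorem φ_z : F.φ * F.z * F.φ⁻¹ = F.s := F.swap.θ_z

theorem φ_s : F.φ * F.s * F.φ⁻¹ = F.z * F.s := F.swap.θ_τ

theorem φ_zs : F.φ * (F.z * F.s) * F.φ⁻¹ = F.z := F.swap.θ_zτ

/-- An element of odd order centralizing `s`. -/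
theorem odd_comm_s {x : G} (ho : Odd (orderOf x)) (h : x * F.s = F.s * x) :
    ∃ b ∈ F.B, ∃ a ∈ F.A, x = b * (F.φ * a * F.φ⁻¹) := by
  obtain ⟨b, hb, a, ha, e⟩ := F.swap.odd_comm_τ ho h
  rw [F.swap_A] at hb
  rw [F.swap_B] at ha
  exact ⟨b, hb, a, ha, e⟩

theorem φA_comm_s {a : G} (ha : a ∈ F.A) :
    F.φ * a * F.φ⁻¹ * F.s = F.s * (F.φ * a * F.φ⁻¹) :=
  F.swap.θB_comm_τ (by rw [F.swap_B]; exact ha)

theorem z_inverts_φA {a : G} (ha : a ∈ F.A) :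
    F.z * (F.φ * a * F.φ⁻¹) * F.z⁻¹ = (F.φ * a * F.φ⁻¹)⁻¹ :=
  F.swap.z_inverts_θB (by rw [F.swap_B]; exact ha)

theorem φA_comm_B {a b : G} (ha : a ∈ F.A) (hb : b ∈ F.B) :
    F.φ * a * F.φ⁻¹ * b = b * (F.φ * a * F.φ⁻¹) := by
  conv_lhs => rw [← F.φ_CB hb]
  conv_rhs => rw [← F.φ_CB hb]
  exact comm_conj (F.O_comm (F.A_le ha) (F.B_le hb))

theorem mem_φA {x : G} (ho : Odd (orderOf x)) (h : x * F.s = F.s * x)
    (hz : F.z * x * F.z⁻¹ = x⁻¹) : ∃ a ∈ F.A, x = F.φ * a * F.φ⁻¹ := by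
  obtain ⟨b, hb, a, ha, rfl⟩ := F.odd_comm_s ho h
  refine ⟨a, ha, ?_⟩
  set X := F.φ * a * F.φ⁻¹ with hX
  have hbX : Commute X b := F.φA_comm_B ha hb
  have e : F.z * (b * X) * F.z⁻¹ = b * X⁻¹ := by
    rw [← conj_mul, mul_inv_eq_of_eq_mul (F.z_comm (F.B_le hb)).symm, F.z_inverts_φA ha]
  clear_value X
  rw [e, mul_inv_rev, ← hbX.inv_left.eq] at hz
  rw [eq_one_of_sq_of_odd (F.odd_of_mem (F.B_le hb))
    (mul_eq_one_iff_eq_inv.2 (mul_left_cancel hz)), one_mul]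

end Frame

end CfsgLib.SmallCent
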