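import Cfsg.Agent.SmallSimple.Basic

/-!
There is no simple group of order 29160.
-/

set_option autoImplicit false

namespace CfsgLib.SmallCent

open Subgroup MulAction
open scoped Pointwise

universe u

theorem normal_of_index_three {G : Type u} [Group G] [Finite G] {P : Subgroup G}
    (hP : Nat.card P = 3 ^ 6) {R : Subgroup G} (hR : (R.subgroupOf P).index = 3) :
    P ≤ normalizer ((R ⊓ P : Subgroup G) : Set G) := by
  haveI hn : (R.subgroupOf P).Normal :=
    normal_of_index_eq_minFac_card (by rw [hR, hP, Nat.pow_minFac (by norm_num)]; norm_num)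
  intro g hg
  rw [mem_normalizer_iff]
  intro x
  constructor
  · rintro ⟨hx1, hx2⟩
    exact ⟨hn.conj_mem ⟨x, hx2⟩ hx1 ⟨g, hg⟩, P.mul_mem (P.mul_mem hg hx2) (P.inv_mem hg)⟩
  · rintro ⟨hx1, hx2⟩
    have h := hn.conj_mem ⟨_, hx2⟩ hx1 ⟨g⁻¹, P.inv_mem hg⟩
    have e : g⁻¹ * (g * x * g⁻¹) * g⁻¹⁻¹ = x := by group
    refine ⟨?_, ?_⟩
    · have h' : g⁻¹ * (g * x * g⁻¹) * g⁻¹⁻¹ ∈ R := h
      rwa [e] at h'
    · rw [← e]; exact P.mul_mem (P.mul_mem (P.inv_mem hg) hx2) (P.inv_mem (P.inv_mem hg))

/-- No simple group has order 29160. -/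
theorem not_simple_29160 {G : Type u} [Group G] [Finite G] [IsSimpleGroup G]
    (h : Nat.card G = 29160) : False := by
  classical
  haveI : Fact (Nat.Prime 3) := ⟨Nat.prime_three⟩
  haveI := Fintype.ofFinite (Sylow 3 G)
  have key : ∀ H : Subgroup G, H ≠ ⊤ → 10 < H.index := by
    intro H hH
    by_contra hle
    have hd := (CfsgLib.SmallSimple.card_dvd_factorial H hH).trans
      (Nat.factorial_dvd_factorial (not_lt.1 hle))
    rw [h] at hd
    revert hd; decide
  have hcard : ∀ P : Sylow 3 G, Nat.card (P : Subgroup G) = 3 ^ 6 := by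
    intro P
    rw [P.card_eq_multiplicity, h, show (29160 : ℕ) = 3 ^ 6 * 40 by norm_num,
      Nat.factorization_mul (by norm_num) (by norm_num), Finsupp.add_apply,
      Nat.Prime.factorization_pow Nat.prime_three, Finsupp.single_eq_same,
      Nat.factorization_eq_zero_of_not_dvd (show ¬ 3 ∣ 40 by norm_num)]
  have P : Sylow 3 G := default
  have hidx : (P : Subgroup G).index = 40 := by
    have := (P : Subgroup G).card_mul_index
    rw [hcard, h] at this
    omega
  have hPne : (P : Subgroup G) ≠ ⊥ := fun e => by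
    have := hcard P
    rw [e, Subgroup.card_bot] at this; norm_num at this
  have hn : Nat.card (Sylow 3 G) = 40 := by
    have hdvd : Nat.card (Sylow 3 G) ∣ 40 := hidx ▸ P.card_dvd_index
    have hmod : Nat.card (Sylow 3 G) % 3 = 1 := card_sylow_modEq_one 3 G
    have hbig : 10 < Nat.card (Sylow 3 G) := by
      rw [P.card_eq_index_normalizer]
      refine key _ fun e => ?_
      have hnor : (P : Subgroup G).Normal := normalizer_eq_top_iff.1 e
      rcases IsSimpleGroup.eq_bot_or_eq_top_of_normal (P : Subgroup G) hnor with h' | h'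
      · exact hPne h'
      · rw [h', Subgroup.index_top] at hidx; omega
    have := Nat.le_of_dvd (by norm_num) hdvd
    interval_cases Nat.card (Sylow 3 G) <;> omega
  have hPp : IsPGroup 3 (P : Subgroup G) := P.isPGroup'
  have hstab : ∀ Q : Sylow 3 G, stabilizer (P : Subgroup G) Q = ((Q : Subgroup G) ⊓ P).subgroupOf P := by
    intro Q
    ext x
    have h1 : x ∈ stabilizer (P : Subgroup G) Q ↔ (x : G) ∈ normalizer (Q : Set G) :=
      (MulAction.mem_stabilizer_iff).trans Sylow.smul_eq_iff_mem_normalizer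
    have h2 : (x : G) ∈ normalizer (Q : Set G) ↔ (x : G) ∈ ((P : Subgroup G) ⊓ (Q : Subgroup G)) := by
      rw [← hPp.inf_normalizer_sylow]
      exact ⟨fun hx => ⟨x.2, hx⟩, fun hx => hx.2⟩
    rw [h1, h2, mem_subgroupOf, inf_comm]
  obtain ⟨Q, hQP, hQ3⟩ : ∃ Q : Sylow 3 G, Q ≠ P ∧ (stabilizer (P : Subgroup G) Q).index = 3 := by
    by_contra hno
    push Not at hno
    have hdiv : ∀ Q : Sylow 3 G, Q ≠ P → 9 ∣ Nat.card (orbit (P : Subgroup G) Q) := by
      intro Q hQ
      obtain ⟨n, hn⟩ := hPp.card_orbit Q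
      have he : (stabilizer (P : Subgroup G) Q).index = 3 ^ n := by
        rw [← hn, index_stabilizer, Nat.card_coe_set_eq]
      rcases n with _ | _ | n
      · exfalso
        rw [pow_zero, index_eq_one, hstab, subgroupOf_eq_top, le_inf_iff] at he
        exact hQ (Sylow.ext (eq_of_le_of_card_ge he.1 (by rw [hcard, hcard])).symm)
      · exact absurd he (hno Q hQ)
      · exact hn ▸ ⟨3 ^ n, by ring⟩
    have hsum := Nat.card_congr (selfEquivSigmaOrbits (P : Subgroup G) (Sylow 3 G))
    haveI := Fintype.ofFinite (orbitRel.Quotient (P : Subgroup G) (Sylow 3 G))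
    rw [hn, Nat.card_sigma, ← Finset.add_sum_erase Finset.univ _
      (Finset.mem_univ (Quotient.mk'' P : orbitRel.Quotient (P : Subgroup G) (Sylow 3 G)))] at hsum
    have h9 : 9 ∣ ∑ ω ∈ Finset.univ.erase (Quotient.mk'' P : orbitRel.Quotient (P : Subgroup G) (Sylow 3 G)),
        Nat.card (orbit (P : Subgroup G) ω.out) := by
      refine Finset.dvd_sum fun ω hω => hdiv _ fun e => ?_
      refine (Finset.mem_erase.1 hω).1 ?_
      exact ((Quotient.out_eq' ω).symm.trans (congrArg Quotient.mk'' e))
    have h1 : Nat.card (orbit (P : Subgroup G)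
        (Quotient.mk'' P : orbitRel.Quotient (P : Subgroup G) (Sylow 3 G)).out) = 1 := by
      have hmem : (Quotient.mk'' P : orbitRel.Quotient (P : Subgroup G) (Sylow 3 G)).out ∈
          orbit (P : Subgroup G) P :=
        orbitRel_apply.1 (Quotient.mk_out P)
      rw [orbit_eq_iff.2 hmem, Nat.card_coe_set_eq, ← index_stabilizer, index_eq_one, hstab,
        subgroupOf_eq_top]
      exact le_inf le_rfl le_rfl
    rw [h1] at hsum
    omega
  rw [hstab] at hQ3
  have hPR : (P : Subgroup G) ≤ normalizer (((Q : Subgroup G) ⊓ P : Subgroup G) : Set G) := by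
    have := normal_of_index_three (hcard P) (R := (Q : Subgroup G))
      (by rwa [inf_subgroupOf_right] at hQ3)
    simpa using this
  have hQR : (Q : Subgroup G) ≤ normalizer (((Q : Subgroup G) ⊓ P : Subgroup G) : Set G) := by
    have hc : ((P : Subgroup G).subgroupOf (Q : Subgroup G)).index = 3 := by
      have e1 := (((Q : Subgroup G) ⊓ P).subgroupOf P).card_mul_index
      have e2 := (((Q : Subgroup G) ⊓ P).subgroupOf (Q : Subgroup G)).card_mul_index
      rw [hQ3, Nat.card_congr (subgroupOfEquivOfLe inf_le_right).toEquiv, hcard] at e1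
      rw [Nat.card_congr (subgroupOfEquivOfLe inf_le_left).toEquiv, hcard, inf_subgroupOf_left] at e2
      have : Nat.card ↥((Q : Subgroup G) ⊓ (P : Subgroup G)) = 243 := by omega
      rw [this] at e2; omega
    have := normal_of_index_three (hcard Q) (R := (P : Subgroup G)) hc
    rw [inf_comm]
    simpa using this
  set N := normalizer (((Q : Subgroup G) ⊓ P : Subgroup G) : Set G)
  have hN : N ≠ ⊤ := fun e => by
    rcases IsSimpleGroup.eq_bot_or_eq_top_of_normal _ (normalizer_eq_top_iff.1 e) with h' | h'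
    · have e1 := (((Q : Subgroup G) ⊓ P).subgroupOf P).card_mul_index
      rw [hQ3, Nat.card_congr (subgroupOfEquivOfLe inf_le_right).toEquiv, hcard, h', card_bot] at e1
      norm_num at e1
    · have := (top_le_iff.1 (h' ▸ (inf_le_right : (Q : Subgroup G) ⊓ P ≤ P)))
      rw [this, Subgroup.index_top] at hidx; omega
  have h4 : 4 ≤ Nat.card (Sylow 3 N) := by
    have hm : Nat.card (Sylow 3 N) % 3 = 1 := card_sylow_modEq_one 3 N
    have h2 : 1 < Nat.card (Sylow 3 N) := by
      haveI : Nontrivial (Sylow 3 N) := ⟨P.subtype hPR, Q.subtype hQR, fun e => hQP (by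
        refine Sylow.ext (le_antisymm ?_ ?_) <;> intro x hx
        · have : (⟨x, hQR hx⟩ : N) ∈ (Q.subtype hQR : Subgroup N) := hx
          rw [← e] at this; exact this
        · have : (⟨x, hPR hx⟩ : N) ∈ (P.subtype hPR : Subgroup N) := hx
          rw [e] at this; exact this)⟩
      exact Finite.one_lt_card
    omega
  have hd := (P.subtype hPR).card_dvd_index
  have hmul : ((P.subtype hPR : Sylow 3 N) : Subgroup N).index * N.index = 40 := by
    rw [Sylow.coe_subtype, ← relIndex, relIndex_mul_index hPR, hidx]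
  have h5 := key N hN
  have h6 : 0 < ((P.subtype hPR : Sylow 3 N) : Subgroup N).index := by
    rcases Nat.eq_zero_or_pos ((P.subtype hPR : Sylow 3 N) : Subgroup N).index with e | e
    · rw [e, zero_mul] at hmul; omega
    · exact e
  have := Nat.le_of_dvd h6 hd
  nlinarith

end CfsgLib.SmallCent
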