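import Cfsg.Agent.SmallCent.Seven
import Cfsg.Agent.SmallCent.Chars
import Cfsg.Agent.SmallCent.Arith
import Cfsg.Agent.SmallCent.Sylow729
import Cfsg.Agent.InvChar.ThreeSixty
import Cfsg.Agent.InvChar.OneSixtyEight
import Cfsg.Agent.SmallSimple.Basic

/-!
Simple groups with a self-centralizing cyclic subgroup of order four in a dihedral Sylow
2-subgroup of order eight.
-/

set_option autoImplicit false
set_option linter.style.haveILetI false

namespace CfsgLib.SmallCent

universe u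

theorem fifteen : ∀ a < 256, a % 2 = 1 → (Nat.factorial 15) % (360 * a ^ 4) = 0 →
    a = 1 ∨ a = 3 := by decide +kernel

namespace Frame

variable {G : Type u} [Group G] [Finite G] (F : Frame G)

/-- The group `C(A)⟨s⟩`. -/
def H : Subgroup G where
  carrier := {g | g ∈ F.CA ∨ g * F.s ∈ F.CA}
  one_mem' := Or.inl (one_mem _)
  mul_mem' := by
    intro x y hx hy
    have hs : ∀ w : G, w ∈ F.CA → F.s * w * F.s⁻¹ ∈ F.CA := fun w hw =>
      F.CA_conj (g := F.s) (fun a ha => F.s_normA ha) hw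
    rcases hx with hx | hx <;> rcases hy with hy | hy
    · exact Or.inl (mul_mem hx hy)
    · exact Or.inr (by rw [mul_assoc]; exact mul_mem hx hy)
    · refine Or.inr ?_
      have e : x * y * F.s = x * F.s * (F.s⁻¹ * y * F.s⁻¹⁻¹) := by group
      rw [e, F.s_inv, inv_eq_self_of_sq F.s_sq]
      exact mul_mem hx (by simpa [F.s_inv] using hs y hy)
    · refine Or.inl ?_
      have e : x * y = x * F.s * (F.s⁻¹ * (y * F.s) * F.s⁻¹) := by group
      rw [e]
      exact mul_mem hx (by simpa [F.s_inv] using hs _ hy)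
  inv_mem' := by
    intro x hx
    rcases hx with hx | hx
    · exact Or.inl (inv_mem hx)
    · refine Or.inr ?_
      have e : x⁻¹ * F.s = F.s * (x * F.s)⁻¹ * F.s⁻¹⁻¹⁻¹ * (F.s * F.s) := by group
      rw [e, inv_inv, F.s_sq, mul_one]
      exact F.CA_conj (g := F.s) (fun a ha => F.s_normA ha) (inv_mem hx)

theorem card_H (hA : F.A ≠ ⊥) : Nat.card F.H = 2 * Nat.card F.CA := by
  have hle : F.CA ≤ F.H := fun g hg => Or.inl hg
  have hidx : (F.CA.subgroupOf F.H).index = 2 := by
    refine Subgroup.index_eq_two_iff.2 ⟨⟨F.s, Or.inr (by rw [F.s_sq]; exact one_mem _)⟩, fun c => ?_⟩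
    simp only [Subgroup.mem_subgroupOf, Subgroup.coe_mul]
    rcases c.2 with h | h
    · exact Or.inr ⟨h, fun h' => F.s_not_CA hA ((F.CA.mul_mem_cancel_left h).1 h')⟩
    · exact Or.inl ⟨h, fun h' => F.s_not_CA hA ((F.CA.mul_mem_cancel_left h').1 h)⟩
  have h := (F.CA.subgroupOf F.H).card_mul_index
  rw [hidx, Nat.card_congr (Subgroup.subgroupOfEquivOfLe hle).toEquiv] at h
  omega

theorem ne_bot_of_card {K : Subgroup G} {n : ℕ} (h : Nat.card K = n) (hn : 1 < n) : K ≠ ⊥ := fun e => by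
  rw [e, Subgroup.card_bot] at h; omega

theorem B_eq_bot (hA : F.A ≠ ⊥) (hα : Nat.card F.Astar = 1) : F.B = ⊥ := by
  classical
  have hcard := F.card_CA hA
  rw [hα, mul_one, ← F.card_Zc_mul hA] at hcard
  have hZ : Nat.card F.Zc = 2 * Nat.card F.B + 1 := by
    have ha : 0 < Nat.card F.A * Nat.card F.B := Nat.mul_pos Nat.card_pos Nat.card_pos
    refine Nat.eq_of_mul_eq_mul_right (show 0 < 4 * (Nat.card F.A * Nat.card F.B) by omega) ?_
    rw [hcard]; ring
  have hne : ∀ y ∈ F.B, ∀ u : G, u ∈ (F.syl : Subgroup G) → u ≠ 1 → y * u ≠ 1 := fun y hy u hu hu1 h => by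
    refine hu1 (F.eq_one_of_mem_both ?_ hu)
    rw [eq_inv_of_mul_eq_one_right h]
    exact inv_mem (F.B_le hy)
  have hτm := F.τ_syl
  have hzm : F.z ∈ (F.syl : Subgroup G) := mul_mem F.σ_syl F.σ_syl
  have hzτm : F.z * F.τ ∈ (F.syl : Subgroup G) := mul_mem hzm hτm
  have hzτ1 : F.z * F.τ ≠ 1 := fun e => F.τ_ne_z ((eq_inv_of_mul_eq_one_right e).trans F.z_inv)
  have hsq : ∀ y ∈ F.B, y * F.τ * (y * F.τ) = 1 ∧ y * (F.z * F.τ) * (y * (F.z * F.τ)) = 1 := by
    intro y hy
    have h1 : y * F.τ * (y * F.τ) = 1 := by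
      calc y * F.τ * (y * F.τ) = y * (F.τ * y * F.τ⁻¹) * (F.τ * F.τ) := by group
        _ = 1 := by rw [F.τ_inverts_B hy, F.τ_sq, mul_one, mul_inv_cancel]
    refine ⟨h1, ?_⟩
    have hc : Commute F.z (y * F.τ) :=
      Commute.mul_right (F.z_comm (F.B_le hy)).symm (F.τ_z.symm : F.z * F.τ = F.τ * F.z)
    have e : y * (F.z * F.τ) = F.z * (y * F.τ) := by
      rw [← mul_assoc, F.z_comm (F.B_le hy), mul_assoc]
    rw [e]
    calc F.z * (y * F.τ) * (F.z * (y * F.τ)) = F.z * ((y * F.τ) * F.z) * (y * F.τ) := by group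
      _ = F.z * (F.z * (y * F.τ)) * (y * F.τ) := by rw [hc.eq]
      _ = (F.z * F.z) * (y * F.τ * (y * F.τ)) := by group
      _ = 1 := by rw [F.z_sq, one_mul, h1]
  let f : Option (F.B × Bool) → F.Zc := fun o =>
    match o with
    | none => ⟨F.z, F.z_CA, F.z_sq, F.z_ne⟩
    | some (y, false) => ⟨(y : G) * F.τ, mul_mem (F.O_le_CA (F.B_le y.2)) F.τ_CA, (hsq y y.2).1,
        hne y y.2 _ hτm F.τ_ne⟩
    | some (y, true) => ⟨(y : G) * (F.z * F.τ), mul_mem (F.O_le_CA (F.B_le y.2)) F.zτ_CA,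
        (hsq y y.2).2, hne y y.2 _ hzτm hzτ1⟩
  have hfinj : Function.Injective f := by
    intro p q hpq
    have hv : (f p : G) = f q := congrArg Subtype.val hpq
    have hz1 : F.z = 1 * F.z := (one_mul _).symm
    have n2 : F.z ≠ F.z * F.τ := fun e => F.τ_ne (mul_eq_left.1 e.symm)
    have n3 : F.τ ≠ F.z * F.τ := fun e => F.z_ne (mul_eq_right.1 e.symm)
    rcases p with _ | ⟨y, _ | _⟩ <;> rcases q with _ | ⟨y', _ | _⟩
    · rfl
    · exact absurd (F.decomp_unique (one_mem _) (F.B_le y'.2) hzm hτm (hz1.symm.trans hv)).2 F.τ_ne_z.symm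
    · exact absurd (F.decomp_unique (one_mem _) (F.B_le y'.2) hzm hzτm (hz1.symm.trans hv)).2 n2
    · exact absurd (F.decomp_unique (F.B_le y.2) (one_mem _) hτm hzm (hv.trans hz1)).2 F.τ_ne_z
    · rw [Subtype.ext (F.decomp_unique (F.B_le y.2) (F.B_le y'.2) hτm hτm hv).1]
    · exact absurd (F.decomp_unique (F.B_le y.2) (F.B_le y'.2) hτm hzτm hv).2 n3
    · exact absurd (F.decomp_unique (F.B_le y.2) (one_mem _) hzτm hzm (hv.trans hz1)).2 n2.symm
    · exact absurd (F.decomp_unique (F.B_le y.2) (F.B_le y'.2) hzτm hτm hv).2 n3.symm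
    · rw [Subtype.ext (F.decomp_unique (F.B_le y.2) (F.B_le y'.2) hzτm hzτm hv).1]
  have hsurj := ((Nat.bijective_iff_injective_and_card f).2 ⟨hfinj, by
    rw [hZ, Finite.card_option, Nat.card_prod, Nat.card_eq_fintype_card (α := Bool), Fintype.card_bool]
    omega⟩).2
  have hall : ∀ u ∈ F.Zc, u * F.z = F.z * u := by
    intro u hu
    obtain ⟨o, ho⟩ := hsurj ⟨u, hu⟩
    have hv : (f o : G) = u := congrArg Subtype.val ho
    rw [← hv]
    rcases o with _ | ⟨y, _ | _⟩
    · rfl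
    · exact Commute.mul_left (F.z_comm (F.B_le y.2)) F.τ_z
    · exact Commute.mul_left (F.z_comm (F.B_le y.2)) (Commute.mul_left (Commute.refl _) F.τ_z)
  rw [Subgroup.eq_bot_iff_forall]
  intro y hy
  have hmem : F.θ⁻¹ * (y * F.τ) * F.θ ∈ F.Zc := by
    refine ⟨mul_mem (mul_mem (inv_mem F.θ_CA) (mul_mem (F.O_le_CA (F.B_le hy)) F.τ_CA)) F.θ_CA, ?_, ?_⟩
    · rw [show F.θ⁻¹ * (y * F.τ) * F.θ * (F.θ⁻¹ * (y * F.τ) * F.θ) =
        F.θ⁻¹ * (y * F.τ * (y * F.τ)) * F.θ by group, (hsq y hy).1]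
      group
    · intro h
      refine hne y hy _ hτm F.τ_ne ?_
      rw [show y * F.τ = F.θ * (F.θ⁻¹ * (y * F.τ) * F.θ) * F.θ⁻¹ by group, h]
      group
  have h1 := comm_conj (g := F.θ) (hall _ hmem)
  rw [F.θ_z, show F.θ * (F.θ⁻¹ * (y * F.τ) * F.θ) * F.θ⁻¹ = y * F.τ by group, ← mul_assoc F.τ y] at h1
  have h3 : F.τ * y = y * F.τ := mul_right_cancel h1.symm
  have h2 := F.τ_inverts_B hy
  rw [mul_inv_eq_of_eq_mul h3] at h2
  exact eq_one_of_sq_of_odd (F.odd_of_mem (F.B_le hy)) (mul_eq_one_iff_eq_inv.2 h2)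

include F in
theorem not_comm : ¬ IsMulCommutative G := fun h => by
  have h1 := F.inv_στ
  rw [h.is_comm.comm F.τ F.σ, mul_inv_cancel_right] at h1
  have h2 : orderOf F.σ ∣ 2 := orderOf_dvd_of_pow_eq_one (by rw [sq]; exact mul_eq_one_iff_eq_inv.2 h1)
  rw [F.ord_σ] at h2; norm_num at h2

include F in
theorem no_index_two [IsSimpleGroup G] (K : Subgroup G) : K.index ≠ 2 := fun h => by
  rcases IsSimpleGroup.eq_bot_or_eq_top_of_normal K (Subgroup.normal_of_index_eq_two h) with e | e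
  · rw [e, Subgroup.index_bot] at h
    have := F.card_eq_eight_mul
    omega
  · rw [e, Subgroup.index_top] at h; omega

include F in
/-- Order 168 or 360 when the core is trivial. -/
theorem trivial_core [IsSimpleGroup G] (hA : Nat.card F.A = 1) (hB : Nat.card F.B = 1) :
    Nat.card G = 168 ∨ Nat.card G = 360 := by
  have h8 : Nat.card F.C = 8 := by rw [F.card_C, F.card_O, hA, hB]
  obtain ⟨a, b, E⟩ := CfsgLib.InvChar.exists_eightData F.order_z h8
    ⟨F.σ, F.σ_mem, F.τ, F.τ_mem, fun h => by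
      have h1 := F.inv_στ
      rw [← h, mul_inv_cancel_right] at h1
      have h2 : orderOf F.σ ∣ 2 := orderOf_dvd_of_pow_eq_one (by rw [sq]; exact mul_eq_one_iff_eq_inv.2 h1)
      rw [F.ord_σ] at h2; norm_num at h2⟩
    F.τ_mem F.τ_sq F.τ_ne F.τ_ne_z
  exact E.card_eq F.no_index_two

/-- The arithmetic data. -/
theorem data : ∃ k, Odd k ∧ Nat.card G = 8 * k ∧ Odd (Nat.card F.A) ∧ Odd (Nat.card F.B) :=
  ⟨_, F.odd_index, F.card_eq_eight_mul, F.A_odd, F.B_odd⟩

theorem equal_sizes {m : ℕ} (hm : 1 < m) (hA : Nat.card F.A = m) (hB : Nat.card F.B = m)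
    [IsSimpleGroup G] : False := by
  have hAne := ne_bot_of_card hA hm
  have hBne := ne_bot_of_card hB hm
  have hαne : F.Astar ≠ ⊥ := fun e => hBne (F.B_eq_bot hAne (by rw [e, Subgroup.card_bot]))
  have hCA := F.card_CA hAne
  rw [F.card_Astar_eq hαne hBne, hA, hB] at hCA
  have hH : Nat.card F.H = 24 * m ^ 4 := by rw [F.card_H hAne, hCA]; ring
  have hdvd : 24 * m ^ 4 ∣ Nat.card G := hH ▸ F.H.card_subgroup_dvd_card
  obtain ⟨k, hk⟩ := hdvd
  obtain ⟨k', hk'odd, hk', hmodd, -⟩ := F.data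
  rw [hA] at hmodd
  have hkodd : Odd k := by
    have e : 3 * m ^ 4 * k = k' := by
      have : 8 * (3 * m ^ 4 * k) = 8 * k' := by rw [← hk', hk]; ring
      omega
    exact (Nat.odd_mul.1 (e ▸ hk'odd)).2
  obtain ⟨δ, x, P, Q, hδ, hx, hP, hQ, hS, h1, h2⟩ := F.char_data
  rw [hA, hB] at h1 h2
  have hg : 0 < Nat.card G := Nat.card_pos
  obtain ⟨e1, -, -⟩ := clear_equations (by omega) (by omega) hg hδ hx hP hQ hS h1 h2
  have hmne : F.H ≠ ⊤ := fun e => by
    have hA' : F.A ≠ ⊤ := fun eA => F.τ_ne (F.eq_one_of_mem_both (F.A_le (eA ▸ Subgroup.mem_top _)) F.τ_syl)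
    have hnorm : F.A.Normal := by
      rw [← Subgroup.normalizer_eq_top_iff, eq_top_iff, ← e]
      have hCAn : ∀ g ∈ F.CA, g ∈ Subgroup.normalizer (F.A : Set G) := fun g hg =>
        Subgroup.centralizer_le_normalizer _ hg
      intro g hg
      rcases hg with hg | hg
      · exact hCAn g hg
      · have e2 : g = g * F.s * F.s := by rw [mul_assoc, F.s_sq, mul_one]
        rw [e2]
        refine mul_mem (hCAn _ hg) (Subgroup.mem_normalizer_iff.2 fun a => ⟨fun ha => ?_, fun ha => ?_⟩)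
        · have := F.s_normA ha; rwa [F.s_inv] at this ⊢
        · have h' := F.s_normA ha
          rwa [show F.s⁻¹ * (F.s * a * F.s⁻¹) * F.s = a by group] at h'
    rcases IsSimpleGroup.eq_bot_or_eq_top_of_normal _ hnorm with h | h
    · exact hAne h
    · exact hA' h
  have hd := CfsgLib.SmallSimple.card_dvd_factorial F.H hmne
  have hmul := F.H.card_mul_index
  rw [hH] at hmul
  have hm4 : 0 < m ^ 4 := by positivity
  rcases equal_case hmodd hδ hx hk hkodd e1 with h | h
  · rw [show F.H.index = 15 by nlinarith, h] at hd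
    have hlt : m < 256 := by
      by_contra hge
      have h256 : 256 ^ 4 ≤ m ^ 4 := Nat.pow_le_pow_left (not_lt.1 hge) 4
      have := Nat.le_of_dvd (Nat.factorial_pos 15) hd
      have : Nat.factorial 15 < 360 * 256 ^ 4 := by decide +kernel
      omega
    rcases fifteen m hlt (Nat.odd_iff.1 hmodd) (Nat.mod_eq_zero_of_dvd hd) with rfl | rfl
    · omega
    · exact not_simple_29160 (G := G) (by rw [h]; norm_num)
  · rw [show F.H.index = 7 by nlinarith, h] at hd
    have := Nat.le_of_dvd (Nat.factorial_pos 7) hd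
    have h81 : 81 ≤ m ^ 4 := by
      have : 3 ≤ m := by have := Nat.odd_iff.1 hmodd; omega
      calc 81 = 3 ^ 4 := by norm_num
        _ ≤ m ^ 4 := Nat.pow_le_pow_left this 4
    rw [show Nat.factorial 7 = 5040 by decide] at this
    omega

theorem one_side {m : ℕ} (hm : 1 < m) (hA : Nat.card F.A = m) (hB : Nat.card F.B = 1)
    [IsSimpleGroup G] : Nonempty (G ≃* ↥(alternatingGroup (Fin 7))) := by
  classical
  obtain ⟨k', hk'odd, hk', hmodd, -⟩ := F.data
  rw [hA] at hmodd
  obtain ⟨δ, x, P, Q, hδ, hx, hP, hQ, hS, h1, h2⟩ := F.char_data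
  rw [hA, hB] at h1 h2
  have hg : 0 < Nat.card G := Nat.card_pos
  obtain ⟨e1, -, e3⟩ := clear_equations (by omega) one_pos hg hδ hx hP hQ hS h1 h2
  have hBbot : F.B = ⊥ := Subgroup.card_eq_one.1 hB
  have hAne := ne_bot_of_card hA hm
  have hCA := F.card_CA hAne
  rw [hA, hB] at hCA
  have hα : Nat.card F.Astar ∣ m := hA ▸ F.card_Astar_dvd
  have hH := F.card_H hAne
  have hHd := F.H.card_subgroup_dvd_card
  have hm3 : 3 ≤ m := by have := Nat.odd_iff.1 hmodd; omega
  rcases one_case hmodd hm3 hδ hx k' hk' hk'odd e1 e3 with ⟨rfl, hG⟩ | ⟨rfl, hG⟩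
  · rcases (Nat.dvd_prime Nat.prime_three).1 hα with e | e
    · rw [e] at hCA
      exact F.iso_alternatingSeven hA hBbot hCA hG
    · rw [e] at hCA
      have hidx : F.H.index = 7 := by
        have := F.H.card_mul_index
        rw [hH, hCA, hG] at this
        omega
      have hne : F.H ≠ ⊤ := fun e' => by rw [e', Subgroup.index_top] at hidx; omega
      obtain ⟨f, hf⟩ := CfsgLib.SmallSimple.exists_hom_alternating F.not_comm F.H hne
      rw [hidx] at f
      have hex : ∃ f : G →* ↥(alternatingGroup (Fin 7)), Function.Injective f := by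
        rw [← hidx]
        exact CfsgLib.SmallSimple.exists_hom_alternating F.not_comm F.H hne
      obtain ⟨f', hf'⟩ := hex
      exact ⟨MulEquiv.ofBijective f' ((Nat.bijective_iff_injective_and_card _).2 ⟨hf', by
        rw [hG, nat_card_alternatingGroup, Nat.card_fin]; decide⟩)⟩
  · rcases (Nat.dvd_prime Nat.prime_five).1 hα with e | e
    · rw [e] at hCA
      exact (F.false_of_five hA hCA hG).elim
    · rw [e] at hCA
      rw [hH, hCA, hG] at hHd
      norm_num at hHd

include F in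
/-- Simple groups in this configuration. -/
theorem classify [IsSimpleGroup G] :
    Nonempty (G ≃* ↥(alternatingGroup (Fin 6))) ∨ Nonempty (G ≃* ↥(alternatingGroup (Fin 7))) ∨
      Nonempty (G ≃* Matrix.ProjectiveSpecialLinearGroup (Fin 2) (ZMod 7)) := by
  have hpa : 0 < Nat.card F.A := Nat.card_pos
  have hpb : 0 < Nat.card F.B := Nat.card_pos
  by_cases ha : Nat.card F.A = 1
  · by_cases hb : Nat.card F.B = 1
    · rcases F.trivial_core ha hb with h | h
      · exact Or.inr (Or.inr (CfsgLib.InvChar.iso_psl_two_seven h (ZMod.card 7)))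
      · exact Or.inl (CfsgLib.InvChar.iso_alternatingSix h)
    · refine Or.inr (Or.inl (F.swap.one_side (m := Nat.card F.B) (by omega) ?_ ?_))
      · rw [F.swap_A]
      · rw [F.swap_B, ha]
  · by_cases hb : Nat.card F.B = 1
    · exact Or.inr (Or.inl (F.one_side (by omega) rfl hb))
    · exfalso
      have hAne := ne_bot_of_card rfl (show 1 < Nat.card F.A by omega)
      have hBne := ne_bot_of_card rfl (show 1 < Nat.card F.B by omega)
      have h1 : F.Astar ≠ ⊥ := fun e => hBne (F.B_eq_bot hAne (by rw [e, Subgroup.card_bot]))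
      have h2 : F.swap.Astar ≠ ⊥ := fun e => hAne (by
        have := F.swap.B_eq_bot (by rw [F.swap_A]; exact hBne) (by rw [e, Subgroup.card_bot])
        rwa [F.swap_B] at this)
      have d1 := F.card_Astar_dvd
      rw [F.card_Astar_eq h1 hBne] at d1
      have d2 := F.swap.card_Astar_dvd
      rw [F.swap.card_Astar_eq h2 (by rw [F.swap_B]; exact hAne), F.swap_A, F.swap_B] at d2
      have heq := Nat.dvd_antisymm d2 d1
      exact F.equal_sizes (m := Nat.card F.B) (by omega) heq rfl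

end Frame

end CfsgLib.SmallCent
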