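import Cfsg.Agent.SmallCent.Dichotomy

/-!
The order of the centralizer of `A`, by Thompson's order formula in `C(A)⟨s⟩`.
-/

set_option autoImplicit false
set_option linter.style.haveILetI false

namespace CfsgLib.SmallCent

universe u

variable {G : Type u} [Group G]

/-- The central involution of `⟨u, v⟩`. -/
noncomputable def half (u v : G) : G := (u * v) ^ (orderOf (u * v) / 2)

theorem half_conj (g u v : G) : half (g * u * g⁻¹) (g * v * g⁻¹) = g * half u v * g⁻¹ := by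
  have h : orderOf (g * (u * v) * g⁻¹) = orderOf (u * v) := by
    rw [← MulAut.conj_apply, MulEquiv.orderOf_eq]
  rw [half, half, conj_mul, h, conj_pow]

theorem half_of_sq {u v z : G} (hz : orderOf z = 2) (h : u * v * (u * v) = z) : half u v = z := by
  haveI : Fact (Nat.Prime 2) := ⟨Nat.prime_two⟩
  have h2 : (u * v) ^ 2 = z := (sq _).trans h
  have h4 : orderOf (u * v) = 2 ^ 2 := orderOf_eq_prime_pow (n := 1)
    (by rw [pow_one, h2]; intro e; rw [e, orderOf_one] at hz; omega)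
    (by rw [show 2 ^ (1 + 1) = 2 * 2 from rfl, pow_mul, h2, ← hz, pow_orderOf_eq_one])
  rw [half, h4, ← h2]
  norm_num

theorem half_of_odd_mul {u v e w : G} (he : Odd (orderOf e)) (hw : orderOf w = 2)
    (hc : Commute e w) (h : u * v = e * w) : half u v = w := by
  have ho : orderOf (e * w) = orderOf e * 2 := by
    rw [hc.orderOf_mul_eq_mul_orderOf_of_coprime (by rw [hw]; exact Nat.coprime_two_right.2 he), hw]
  rw [half, h, ho, Nat.mul_div_cancel _ two_pos, hc.mul_pow, pow_orderOf_eq_one, one_mul]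
  obtain ⟨k, hk⟩ := he
  rw [hk, pow_succ, pow_mul, ← hw, pow_orderOf_eq_one, one_pow, one_mul]

variable [Finite G]

/-- The orbit of `x` under conjugation by `K`. -/
theorem card_orbit_mul (K : Subgroup G) (x : G) (T : Set G)
    (h : ∀ u, u ∈ T ↔ ∃ g ∈ K, g * x * g⁻¹ = u) :
    Nat.card T * Nat.card ↥(K ⊓ Subgroup.centralizer ({x} : Set G)) = Nat.card K := by
  classical
  choose r hr hrx using fun u : T => (h u).1 u.2
  rw [← Nat.card_prod]
  refine Nat.card_congr (Equiv.ofBijective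
    (fun p : T × ↥(K ⊓ Subgroup.centralizer ({x} : Set G)) =>
      (⟨r p.1 * p.2, mul_mem (hr p.1) p.2.2.1⟩ : K)) ⟨?_, ?_⟩)
  · rintro ⟨u, k⟩ ⟨u', k'⟩ hkk
    have he : r u * (k : G) = r u' * (k' : G) := congrArg Subtype.val hkk
    have hfix : ∀ (v : T) (l : ↥(K ⊓ Subgroup.centralizer ({x} : Set G))),
        (r v * (l : G)) * x * (r v * (l : G))⁻¹ = v := fun v l => by
      calc (r v * (l : G)) * x * (r v * (l : G))⁻¹ = r v * ((l : G) * x * (l : G)⁻¹) * (r v)⁻¹ := by group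
        _ = v := by
            rw [mul_inv_eq_of_eq_mul (Subgroup.mem_centralizer_singleton_iff.1 l.2.2), hrx v]
    have hu : u = u' := Subtype.ext (by rw [← hfix u k, he, hfix u' k'])
    subst hu
    exact Prod.ext rfl (Subtype.ext (mul_left_cancel he))
  · rintro ⟨g, hg⟩
    have hu : g * x * g⁻¹ ∈ T := (h _).2 ⟨g, hg, rfl⟩
    set u : T := ⟨g * x * g⁻¹, hu⟩
    refine ⟨(u, ⟨(r u)⁻¹ * g, K.mul_mem (K.inv_mem (hr u)) hg, ?_⟩), Subtype.ext (mul_inv_cancel_left _ _)⟩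
    refine Subgroup.mem_centralizer_singleton_iff.2 (mul_inv_eq_iff_eq_mul.1 ?_)
    calc (r u)⁻¹ * g * x * ((r u)⁻¹ * g)⁻¹ = (r u)⁻¹ * (g * x * g⁻¹) * r u := by group
      _ = (r u)⁻¹ * (r u * x * (r u)⁻¹) * r u := by rw [hrx u]
      _ = x := by group

namespace Frame

variable (F : Frame G)

theorem C_cases {c : G} (hc : c ∈ F.C) : c ∈ F.CA ∨ c * F.s ∈ F.CA := by
  obtain ⟨o, ho, x, hx, rfl⟩ := F.exists_decomp hc
  have hτ : ∀ i : G, i ∈ F.CA → o * i ∈ F.CA := fun i hi => mul_mem (F.O_le_CA ho) hi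
  rcases F.syl_cases hx with rfl | rfl | rfl | rfl | rfl | rfl | rfl | rfl
  · exact Or.inl (hτ _ (one_mem _))
  · refine Or.inr ?_
    rw [mul_assoc, s, ← mul_assoc F.σ]
    exact hτ _ F.zτ_CA
  · exact Or.inl (hτ _ F.z_CA)
  · refine Or.inr ?_
    rw [mul_assoc, s, mul_assoc F.z, ← mul_assoc F.σ, ← z, ← mul_assoc F.z, F.z_sq, one_mul]
    exact hτ _ F.τ_CA
  · exact Or.inl (hτ _ F.τ_CA)
  · exact Or.inr (by rw [mul_assoc, F.s_sq]; exact hτ _ (one_mem _))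
  · exact Or.inl (hτ _ F.zτ_CA)
  · exact Or.inr (by rw [mul_assoc, mul_assoc, F.s_sq, mul_one]; exact hτ _ F.z_CA)

theorem card_CA_C (hA : F.A ≠ ⊥) :
    Nat.card ↥(F.CA ⊓ Subgroup.centralizer ({F.z} : Set G)) = 4 * (Nat.card F.A * Nat.card F.B) := by
  have hidx : (F.CA.subgroupOf F.C).index = 2 := by
    refine Subgroup.index_eq_two_iff.2 ⟨⟨F.s, F.s_mem⟩, fun c => ?_⟩
    simp only [Subgroup.mem_subgroupOf, Subgroup.coe_mul]
    rcases F.C_cases c.2 with h | h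
    · exact Or.inr ⟨h, fun h' => F.s_not_CA hA ((F.CA.mul_mem_cancel_left h).1 h')⟩
    · exact Or.inl ⟨h, fun h' => F.s_not_CA hA ((F.CA.mul_mem_cancel_left h').1 h)⟩
  have h := (F.CA.subgroupOf F.C).card_mul_index
  rw [hidx, F.card_C, F.card_O, ← Subgroup.inf_subgroupOf_right,
    Nat.card_congr (Subgroup.subgroupOfEquivOfLe inf_le_right).toEquiv] at h
  show Nat.card ↥(F.CA ⊓ F.C) = _
  omega

/-- The involutions of `C(A)`. -/
def Zc : Set G := {u | u ∈ F.CA ∧ u * u = 1 ∧ u ≠ 1}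

/-- The involutions of the coset `C(A)s`. -/
def Sc : Set G := {u | u * F.s ∈ F.CA ∧ u * u = 1}

theorem conj_CA_mem {g u : G} (hg : g ∈ F.CA) (hu : u * F.s ∈ F.CA) :
    g * u * g⁻¹ * F.s ∈ F.CA := by
  have h1 : F.s * g⁻¹ * F.s⁻¹ ∈ F.CA := F.CA_conj (fun a ha => F.s_normA ha) (inv_mem hg)
  have h : g * u * g⁻¹ * F.s = g * (u * F.s) * (F.s * g⁻¹ * F.s⁻¹) := by
    rw [F.s_inv]
    calc g * u * g⁻¹ * F.s = g * u * (F.s * F.s) * g⁻¹ * F.s := by rw [F.s_sq, mul_one]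
      _ = _ := by group
  rw [h]
  exact mul_mem (mul_mem hg hu) h1

theorem Zc_C {u : G} (hu : u ∈ F.Zc) (hc : u ∈ F.C) (hA : F.A ≠ ⊥) :
    u = F.z ∨ ∃ y ∈ F.B, u = y * F.τ ∨ u = y * (F.z * F.τ) := by
  obtain ⟨huA, hu2, hu1⟩ := hu
  rcases F.invol_C hc hu2 with h | h | h | ⟨x, hx, h | h⟩
  · exact absurd h hu1
  · exact Or.inl h
  · exact Or.inr h
  · subst u; exact absurd ((F.CA.mul_mem_cancel_left (F.O_le_CA (F.A_le hx))).1 huA) (F.s_not_CA hA)
  · subst u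
    exact absurd ((F.CA.mul_mem_cancel_left F.z_CA).1
      ((F.CA.mul_mem_cancel_left (F.O_le_CA (F.A_le hx))).1 huA)) (F.s_not_CA hA)

theorem mem_Zc (hA : F.A ≠ ⊥) (u : G) : u ∈ F.Zc ↔ ∃ g ∈ F.CA, g * F.z * g⁻¹ = u := by
  constructor
  · intro hu
    have inC : ∀ v ∈ F.Zc, v ∈ F.C → ∃ g ∈ F.CA, g * F.z * g⁻¹ = v := by
      intro v hv hvC
      rcases F.Zc_C hv hvC hA with rfl | ⟨y, hy, h⟩
      · exact ⟨1, one_mem _, by simp⟩
      obtain ⟨k, hk⟩ := exists_conj_translate F.τ_sq (F.odd_of_mem (F.B_le hy)) (F.τ_inverts_B hy)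
      have hyk : y ^ k ∈ F.CA := F.O_le_CA (pow_mem (F.B_le hy) k)
      rcases h with rfl | rfl
      · refine ⟨y ^ k * F.θ, mul_mem hyk F.θ_CA, ?_⟩
        rw [← hk, ← F.θ_z]; group
      · refine ⟨y ^ k * (F.θ * F.θ), mul_mem hyk (mul_mem F.θ_CA F.θ_CA), ?_⟩
        have hzk := F.z_comm (pow_mem (F.B_le hy) k)
        calc y ^ k * (F.θ * F.θ) * F.z * (y ^ k * (F.θ * F.θ))⁻¹
            = y ^ k * (F.θ * (F.θ * F.z * F.θ⁻¹) * F.θ⁻¹) * (y ^ k)⁻¹ := by group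
          _ = (y ^ k * F.z) * F.τ * (y ^ k)⁻¹ := by rw [F.θ_z, F.θ_τ]; group
          _ = F.z * (y ^ k * F.τ * (y ^ k)⁻¹) := by rw [hzk]; group
          _ = y * (F.z * F.τ) := by rw [hk, ← mul_assoc, ← mul_assoc, F.z_comm (F.B_le hy)]
    obtain ⟨huA, hu2, hu1⟩ := hu
    rcases Nat.even_or_odd (orderOf (u * F.z)) with he | ho
    · obtain ⟨hw, huw, hzw⟩ := exists_half hu2 F.z_sq he
      set w := (u * F.z) ^ (orderOf (u * F.z) / 2)
      have hwA : w ∈ F.CA := pow_mem (mul_mem huA F.z_CA) _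
      obtain ⟨g, hg, hgw⟩ := inC w ⟨hwA, by rw [← sq, ← hw, pow_orderOf_eq_one], fun h => by
        rw [h, orderOf_one] at hw; omega⟩ (F.mem_C.2 hzw.eq.symm)
      have hv : g⁻¹ * u * g ∈ F.Zc := ⟨mul_mem (mul_mem (inv_mem hg) huA) hg, by
        rw [show g⁻¹ * u * g * (g⁻¹ * u * g) = g⁻¹ * (u * u) * g by group, hu2]; group,
        fun h => hu1 (by
          rw [show u = g * (g⁻¹ * u * g) * g⁻¹ by group, h]; group)⟩
      obtain ⟨g', hg', hgv⟩ := inC _ hv (F.mem_C.2 (by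
        calc g⁻¹ * u * g * F.z = g⁻¹ * (u * (g * F.z * g⁻¹)) * g := by group
          _ = g⁻¹ * ((g * F.z * g⁻¹) * u) * g := by rw [hgw, huw.eq]
          _ = F.z * (g⁻¹ * u * g) := by group))
      refine ⟨g * g', mul_mem hg hg', ?_⟩
      rw [show g * g' * F.z * (g * g')⁻¹ = g * (g' * F.z * g'⁻¹) * g⁻¹ by group, hgv]; group
    · obtain ⟨k, hk⟩ := exists_conj_of_odd hu2 F.z_sq ho
      exact ⟨_, pow_mem (mul_mem huA F.z_CA) k, hk⟩
  · rintro ⟨g, hg, rfl⟩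
    exact ⟨mul_mem (mul_mem hg F.z_CA) (inv_mem hg), mul_self_of_conj F.z_sq,
      fun h => F.z_ne (conj_eq_one_iff.1 h)⟩

theorem Sc_C {u : G} (hu : u ∈ F.Sc) (hc : u ∈ F.C) (hA : F.A ≠ ⊥) :
    ∃ x ∈ F.A, u = x * F.s ∨ u = x * (F.z * F.s) := by
  obtain ⟨huA, hu2⟩ := hu
  have hn : ∀ v ∈ F.CA, v * F.s ∉ F.CA := fun v hv h =>
    F.s_not_CA hA ((F.CA.mul_mem_cancel_left hv).1 h)
  rcases F.invol_C hc hu2 with h | h | ⟨y, hy, h | h⟩ | h
  · exact absurd huA (hn _ (h ▸ one_mem _))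
  · exact absurd huA (hn _ (h ▸ F.z_CA))
  · exact absurd huA (hn _ (h ▸ mul_mem (F.O_le_CA (F.B_le hy)) F.τ_CA))
  · exact absurd huA (hn _ (h ▸ mul_mem (F.O_le_CA (F.B_le hy)) F.zτ_CA))
  · exact h

theorem mem_Sc (hA : F.A ≠ ⊥) (u : G) : u ∈ F.Sc ↔ ∃ g ∈ F.CA, g * F.s * g⁻¹ = u := by
  constructor
  · rintro ⟨huA, hu2⟩
    rcases Nat.even_or_odd (orderOf (u * F.s)) with he | ho
    · obtain ⟨hw, huw, hsw⟩ := exists_half hu2 F.s_sq he
      set w := (u * F.s) ^ (orderOf (u * F.s) / 2)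
      have hwA : w ∈ F.CA := pow_mem huA _
      obtain ⟨g, hg, hgw⟩ := (F.mem_Zc hA w).1 ⟨hwA, by rw [← sq, ← hw, pow_orderOf_eq_one],
        fun h => by rw [h, orderOf_one] at hw; omega⟩
      have hv : g⁻¹ * u * g ∈ F.Sc := ⟨by
        have := F.conj_CA_mem (inv_mem hg) huA
        rwa [inv_inv] at this, by
        rw [show g⁻¹ * u * g * (g⁻¹ * u * g) = g⁻¹ * (u * u) * g by group, hu2]; group⟩
      obtain ⟨x, hx, h⟩ := F.Sc_C hv (F.mem_C.2 (by
        calc g⁻¹ * u * g * F.z = g⁻¹ * (u * (g * F.z * g⁻¹)) * g := by group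
          _ = g⁻¹ * ((g * F.z * g⁻¹) * u) * g := by rw [hgw, huw.eq]
          _ = F.z * (g⁻¹ * u * g) := by group)) hA
      obtain ⟨k, hk⟩ := exists_conj_translate F.s_sq (F.odd_of_mem (F.A_le hx)) (F.s_inverts_A hx)
      have hxk : x ^ k ∈ F.CA := F.O_le_CA (pow_mem (F.A_le hx) k)
      have hux : u = g * (g⁻¹ * u * g) * g⁻¹ := by group
      rcases h with h | h
      · refine ⟨g * x ^ k, mul_mem hg hxk, ?_⟩
        rw [hux, h, ← hk]; group
      · refine ⟨g * (x ^ k * F.τ), mul_mem hg (mul_mem hxk F.τ_CA), ?_⟩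
        rw [hux, h]
        have hzk := F.z_comm (pow_mem (F.A_le hx) k)
        calc g * (x ^ k * F.τ) * F.s * (g * (x ^ k * F.τ))⁻¹
            = g * (x ^ k * (F.τ * F.s * F.τ⁻¹) * (x ^ k)⁻¹) * g⁻¹ := by group
          _ = g * ((x ^ k * F.z) * F.s * (x ^ k)⁻¹) * g⁻¹ := by rw [F.τ_s_τ]; group
          _ = g * (F.z * (x ^ k * F.s * (x ^ k)⁻¹)) * g⁻¹ := by rw [hzk]; group
          _ = g * (x * (F.z * F.s)) * g⁻¹ := by
              rw [hk, ← mul_assoc F.z x, ← mul_assoc x F.z, F.z_comm (F.A_le hx)]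
    · obtain ⟨k, hk⟩ := exists_conj_of_odd hu2 F.s_sq ho
      exact ⟨_, pow_mem huA k, hk⟩
  · rintro ⟨g, hg, rfl⟩
    exact ⟨F.conj_CA_mem hg (by rw [F.s_sq]; exact one_mem _), mul_self_of_conj F.s_sq⟩

theorem exists_Ks (hA : F.A ≠ ⊥) :
    ∃ D : Subgroup G, (∀ g ∈ F.CA ⊓ Subgroup.centralizer ({F.s} : Set G), g ∈ D ∨ g * F.z ∈ D) ∧
      Nat.card ↥(F.CA ⊓ Subgroup.centralizer ({F.s} : Set G)) = 2 * Nat.card D ∧
      ∀ d, d ∈ D ↔ ∃ b ∈ F.B, ∃ x ∈ F.Astar, d = b * x := by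
  set K := F.CA ⊓ Subgroup.centralizer ({F.s} : Set G) with hK
  have hmemK : ∀ {g : G}, g ∈ K ↔ g ∈ F.CA ∧ g * F.s = F.s * g := by
    intro g; simp [hK, Subgroup.mem_centralizer_singleton_iff]
  have hzK : F.z ∈ K := hmemK.2 ⟨F.z_CA, F.s_z.symm⟩
  obtain ⟨D, hDK, hD, -, hDsplit, -, hDcard, hDodd⟩ := exists_complement K F.z_sq F.z_ne hzK
    (fun x hxK hxz T hT hxT hzT hTp => by
      obtain ⟨hxA, hxs⟩ := hmemK.1 hxK
      obtain ⟨y, hy, h⟩ := F.swap.comm_τ (F.mem_C.2 hxz) hxs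
      rw [F.swap_A] at hy
      simp only [F.swap_z, F.swap_τ] at h
      obtain ⟨k, hk⟩ := IsPGroup.iff_orderOf.1 hTp ⟨x, hxT⟩
      rw [← Subgroup.orderOf_coe] at hk
      change orderOf x = 2 ^ k at hk
      have hyo := F.odd_of_mem (F.B_le hy)
      have hsn := F.s_not_CA hA
      rcases h with h | h | h | h <;> subst x
      · left
        exact orderOf_eq_one_iff.1 (Nat.eq_one_of_dvd_coprimes
          ((Nat.coprime_two_left.2 hyo).pow_left k) hk.dvd dvd_rfl)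
      · right
        have hc : Commute y F.z := F.z_comm (F.B_le hy)
        rw [hc.orderOf_mul_eq_mul_orderOf_of_coprime (by
          rw [F.order_z]; exact Nat.coprime_two_right.2 hyo)] at hk
        rw [orderOf_eq_one_iff.1 (Nat.eq_one_of_dvd_coprimes
          ((Nat.coprime_two_left.2 hyo).pow_left k) (Dvd.intro _ hk) dvd_rfl), one_mul]
      · exact absurd ((F.CA.mul_mem_cancel_left (F.O_le_CA (F.B_le hy))).1 hxA) hsn
      · exact absurd ((F.CA.mul_mem_cancel_left F.z_CA).1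
          ((F.CA.mul_mem_cancel_left (F.O_le_CA (F.B_le hy))).1 hxA)) hsn)
  refine ⟨D, hDsplit, hDcard, fun d => ⟨fun hd => ?_, ?_⟩⟩
  · obtain ⟨hdA, hds⟩ := hmemK.1 (hDK hd)
    obtain ⟨b, hb, a, ha, rfl⟩ := F.odd_comm_s (odd_orderOf_of_mem hD hd) hds
    exact ⟨b, hb, _, F.mem_Astar.2 ⟨(F.CA.mul_mem_cancel_left (F.O_le_CA (F.B_le hb))).1 hdA,
      a, ha, rfl⟩, rfl⟩
  · rintro ⟨b, hb, x, hx, rfl⟩
    obtain ⟨hxA, hxo, hxs, -, hxB⟩ := F.Astar_props hx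
    have hbo := F.odd_of_mem (F.B_le hb)
    refine hDodd _ (hmemK.2 ⟨mul_mem (F.O_le_CA (F.B_le hb)) hxA, ?_⟩)
      (Odd.of_dvd_nat (hbo.mul hxo) (show Commute b x from (hxB b hb).symm).orderOf_mul_dvd_mul_orderOf)
    rw [mul_assoc, hxs, ← mul_assoc, (F.mem_B.1 hb).2, mul_assoc]

theorem card_CA_s (hA : F.A ≠ ⊥) :
    Nat.card ↥(F.CA ⊓ Subgroup.centralizer ({F.s} : Set G)) =
      2 * (Nat.card F.B * Nat.card F.Astar) := by
  obtain ⟨D, -, hcard, hmem⟩ := F.exists_Ks hA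
  rw [hcard, ← Nat.card_prod]
  congr 1
  refine (Nat.card_congr (Equiv.ofBijective
    (fun p : F.B × F.Astar => (⟨(p.1 : G) * p.2, (hmem _).2 ⟨_, p.1.2, _, p.2.2, rfl⟩⟩ : D))
    ⟨?_, ?_⟩)).symm
  · intro p q h
    have h' : (p.1 : G) * p.2 = q.1 * q.2 := congrArg Subtype.val h
    have hz : ∀ r : F.B × F.Astar, F.z * ((r.1 : G) * r.2) * F.z⁻¹ = r.1 * (r.2 : G)⁻¹ := fun r => by
      rw [← conj_mul, mul_inv_eq_of_eq_mul (F.z_comm (F.B_le r.1.2)).symm, (F.Astar_props r.2.2).2.2.2.1]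
    have h'' : (p.1 : G) * (p.2 : G)⁻¹ = q.1 * (q.2 : G)⁻¹ := by rw [← hz, h', hz]
    have key : ∀ x y : G, Commute x y → x * y * (x * y⁻¹) = x * x := fun x y hxy => by
      rw [mul_assoc x y, ← mul_assoc y x, ← hxy.eq]; group
    have hp : Commute (p.1 : G) p.2 := ((F.Astar_props p.2.2).2.2.2.2 _ p.1.2).symm
    have hq : Commute (q.1 : G) q.2 := ((F.Astar_props q.2.2).2.2.2.2 _ q.1.2).symm
    have hsq := (key _ _ hp).symm.trans ((congrArg₂ (· * ·) h' h'').trans (key _ _ hq))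
    have he := eq_of_sq (F.O_comm (F.B_le p.1.2) (F.B_le q.1.2)) (F.odd_of_mem (F.B_le p.1.2))
      (F.odd_of_mem (F.B_le q.1.2)) hsq
    refine Prod.ext (Subtype.ext he) (Subtype.ext ?_)
    rw [he] at h'
    exact mul_left_cancel h'
  · rintro ⟨d, hd⟩
    obtain ⟨b, hb, x, hx, rfl⟩ := (hmem d).1 hd
    exact ⟨(⟨b, hb⟩, ⟨x, hx⟩), rfl⟩

theorem card_Zc_mul (hA : F.A ≠ ⊥) :
    Nat.card F.Zc * (4 * (Nat.card F.A * Nat.card F.B)) = Nat.card F.CA := by
  rw [← F.card_CA_C hA]; exact card_orbit_mul _ _ _ (F.mem_Zc hA)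

theorem card_Sc_mul (hA : F.A ≠ ⊥) :
    Nat.card F.Sc * (2 * (Nat.card F.B * Nat.card F.Astar)) = Nat.card F.CA := by
  rw [← F.card_CA_s hA]; exact card_orbit_mul _ _ _ (F.mem_Sc hA)

/-- The pairs with given central involution. -/
def fiber (w : G) : Set (G × G) := {p | p.1 ∈ F.Zc ∧ p.2 ∈ F.Sc ∧ half p.1 p.2 = w}

theorem even_product (hA : F.A ≠ ⊥) {u v : G} (hu : u ∈ F.Zc) (hv : v ∈ F.Sc) :
    Even (orderOf (u * v)) := by
  by_contra ho
  obtain ⟨k, hk⟩ := exists_sqrt (Nat.not_even_iff_odd.1 ho)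
  have h1 : u * v * F.s ∈ F.CA := by rw [mul_assoc]; exact mul_mem hu.1 hv.1
  have hsq : u * v * (u * v) ∈ F.CA := by
    have h2 : u * v * (u * v) = (u * v * F.s) * (F.s * (u * v)) := by
      calc u * v * (u * v) = u * v * (F.s * F.s) * (u * v) := by rw [F.s_sq, mul_one]
        _ = _ := by group
    rw [h2]
    refine mul_mem h1 ?_
    have h3 := F.CA_conj (g := F.s) (fun a ha => F.s_normA ha) h1
    have h4 : F.s * (u * v * F.s) * F.s⁻¹ = F.s * (u * v) := by group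
    rwa [h4] at h3
  have huv : u * v ∈ F.CA := by
    rw [← hk, ← (Commute.refl (u * v)).mul_pow]
    exact pow_mem hsq k
  exact F.s_not_CA hA ((F.CA.mul_mem_cancel_left huv).1 h1)

theorem card_fiber_z (hA : F.A ≠ ⊥) :
    Nat.card (F.fiber F.z) = 2 * Nat.card F.B * (2 * Nat.card F.A) := by
  have hb : Nat.card (Bool × F.B) = 2 * Nat.card F.B := by simp [Nat.card_prod]
  have ha : Nat.card (Bool × F.A) = 2 * Nat.card F.A := by simp [Nat.card_prod]
  rw [← hb, ← ha, ← Nat.card_prod]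
  let t : Bool → G := fun i => cond i (F.z * F.τ) F.τ
  let r : Bool → G := fun i => cond i (F.z * F.s) F.s
  have ht : ∀ i, t i ∈ F.CA ∧ t i ∈ (F.syl : Subgroup G) ∧ t i ∈ F.C ∧
      t i * t i = 1 ∧ t i ≠ 1 ∧ ∀ y ∈ F.B, t i * y * (t i)⁻¹ = y⁻¹ := by
    have hzy : ∀ y ∈ F.B, F.z * y⁻¹ * F.z⁻¹ = y⁻¹ := fun y hy =>
      mul_inv_eq_of_eq_mul (F.z_comm (inv_mem (F.B_le hy))).symm
    rintro (_ | _)
    · exact ⟨F.τ_CA, F.τ_syl, F.τ_mem, F.τ_sq, F.τ_ne, fun y hy => F.τ_inverts_B hy⟩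
    · refine ⟨F.zτ_CA, mul_mem (mul_mem F.σ_syl F.σ_syl) F.τ_syl, mul_mem F.z_mem F.τ_mem,
        F.z_τ_sq, fun h => F.τ_ne_z ((eq_inv_of_mul_eq_one_right h).trans F.z_inv), fun y hy => ?_⟩
      calc F.z * F.τ * y * (F.z * F.τ)⁻¹ = F.z * (F.τ * y * F.τ⁻¹) * F.z⁻¹ := by group
        _ = y⁻¹ := by rw [F.τ_inverts_B hy, hzy y hy]
  have hr : ∀ i, r i * F.s ∈ F.CA ∧ r i ∈ (F.syl : Subgroup G) ∧ r i ∈ F.C ∧ r i * r i = 1 ∧
      ∀ x ∈ F.A, r i * x * (r i)⁻¹ = x⁻¹ := by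
    have hzx : ∀ x ∈ F.A, F.z * x⁻¹ * F.z⁻¹ = x⁻¹ := fun x hx =>
      mul_inv_eq_of_eq_mul (F.z_comm (inv_mem (F.A_le hx))).symm
    rintro (_ | _)
    · exact ⟨by show F.s * F.s ∈ F.CA; rw [F.s_sq]; exact one_mem _, mul_mem F.σ_syl F.τ_syl,
        F.s_mem, F.s_sq, fun x hx => F.s_inverts_A hx⟩
    · refine ⟨by show F.z * F.s * F.s ∈ F.CA; rw [mul_assoc, F.s_sq, mul_one]; exact F.z_CA,
        mul_mem (mul_mem F.σ_syl F.σ_syl) (mul_mem F.σ_syl F.τ_syl), mul_mem F.z_mem F.s_mem, ?_,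
        fun x hx => ?_⟩
      · show F.z * F.s * (F.z * F.s) = 1
        rw [mul_assoc, ← mul_assoc F.s, F.s_z, mul_assoc, F.s_sq, mul_one, F.z_sq]
      · calc F.z * F.s * x * (F.z * F.s)⁻¹ = F.z * (F.s * x * F.s⁻¹) * F.z⁻¹ := by group
          _ = x⁻¹ := by rw [F.s_inverts_A hx, hzx x hx]
  have hσinv : ∀ o ∈ F.O, ∀ i j, t i * r j * o * (t i * r j)⁻¹ = o⁻¹ ∧
      t i * r j * (t i * r j) = F.z := by
    intro o ho i j
    have hts : F.τ * F.s = F.σ⁻¹ := by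
      rw [s, ← mul_assoc, F.τ_σ, mul_assoc, F.τ_sq, mul_one]
    have hcases : t i * r j = F.σ⁻¹ ∨ t i * r j = F.z * F.σ⁻¹ := by
      cases i <;> cases j
      · exact Or.inl hts
      · right; show F.τ * (F.z * F.s) = _
        rw [← mul_assoc, F.τ_z, mul_assoc, hts]
      · right; show F.z * F.τ * F.s = _
        rw [mul_assoc, hts]
      · left; show F.z * F.τ * (F.z * F.s) = _
        rw [mul_assoc, ← mul_assoc F.τ, F.τ_z, mul_assoc, hts, ← mul_assoc, F.z_sq, one_mul]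
    have h1 : F.σ⁻¹ * o * F.σ⁻¹⁻¹ = o⁻¹ := by
      calc F.σ⁻¹ * o * F.σ⁻¹⁻¹ = F.σ⁻¹ * (F.σ * o⁻¹ * F.σ⁻¹) * F.σ := by
            rw [F.inverts_σ (inv_mem ho), inv_inv, inv_inv]
        _ = o⁻¹ := by group
    have h2 : F.σ⁻¹ * F.σ⁻¹ = F.z := by rw [← mul_inv_rev]; exact F.z_inv
    have hzσ : F.σ⁻¹ * F.z = F.z * F.σ⁻¹ :=
      ((show Commute F.σ F.z from F.σ_z).inv_left).eq
    rcases hcases with e | e <;> rw [e]
    · exact ⟨h1, h2⟩
    · refine ⟨?_, ?_⟩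
      · calc F.z * F.σ⁻¹ * o * (F.z * F.σ⁻¹)⁻¹ = F.z * (F.σ⁻¹ * o * F.σ⁻¹⁻¹) * F.z⁻¹ := by group
          _ = o⁻¹ := by rw [h1]; exact mul_inv_eq_of_eq_mul (F.z_comm (inv_mem ho)).symm
      · rw [mul_assoc, ← mul_assoc F.σ⁻¹, hzσ, mul_assoc, h2, F.z_sq, mul_one]
  have hmk : ∀ (i : Bool) (y : F.B) (j : Bool) (x : F.A),
      ((y : G) * t i, (x : G) * r j) ∈ F.fiber F.z := by
    intro i y j x
    obtain ⟨t1, -, t3, t4, t5, t6⟩ := ht i
    obtain ⟨r1, -, r3, r4, r5⟩ := hr j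
    have hu2 : (y : G) * t i * ((y : G) * t i) = 1 := by
      calc (y : G) * t i * ((y : G) * t i) = y * (t i * y * (t i)⁻¹) * (t i * t i) := by group
        _ = 1 := by rw [t6 y y.2, t4, mul_one, mul_inv_cancel]
    have hu1 : (y : G) * t i ≠ 1 := fun h => t5 (by
      have e := inv_eq_of_mul_eq_one_right h
      have h3 : Odd (orderOf (t i)) := by
        rw [← e, orderOf_inv]; exact F.odd_of_mem (F.B_le y.2)
      exact eq_one_of_sq_of_odd h3 t4)
    refine ⟨⟨mul_mem (F.O_le_CA (F.B_le y.2)) t1, hu2, hu1⟩, ⟨?_, ?_⟩, ?_⟩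
    · show (x : G) * r j * F.s ∈ F.CA
      rw [mul_assoc]; exact mul_mem (F.O_le_CA (F.A_le x.2)) r1
    · calc (x : G) * r j * ((x : G) * r j) = x * (r j * x * (r j)⁻¹) * (r j * r j) := by group
        _ = 1 := by rw [r5 x x.2, r4, mul_one, mul_inv_cancel]
    · have ho : (y : G) * (t i * x * (t i)⁻¹) ∈ F.O := mul_mem (F.B_le y.2) (F.O_conj t3 (F.A_le x.2))
      obtain ⟨g1, g2⟩ := hσinv _ ho i j
      refine half_of_sq F.order_z ?_
      show (y : G) * t i * ((x : G) * r j) * ((y : G) * t i * ((x : G) * r j)) = F.z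
      calc (y : G) * t i * ((x : G) * r j) * ((y : G) * t i * ((x : G) * r j))
          = (y * (t i * x * (t i)⁻¹)) * (t i * r j * (y * (t i * x * (t i)⁻¹)) * (t i * r j)⁻¹) *
              (t i * r j * (t i * r j)) := by group
        _ = F.z := by rw [g1, g2, mul_inv_cancel, one_mul]
  refine (Nat.card_congr (Equiv.ofBijective
    (fun q : (Bool × F.B) × (Bool × F.A) =>
      (⟨_, hmk q.1.1 q.1.2 q.2.1 q.2.2⟩ : F.fiber F.z)) ⟨?_, ?_⟩)).symm
  · rintro ⟨⟨i, y⟩, ⟨j, x⟩⟩ ⟨⟨i', y'⟩, ⟨j', x'⟩⟩ h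
    simp only [Subtype.mk.injEq, Prod.mk.injEq] at h
    obtain ⟨e1, e2⟩ := F.decomp_unique (F.B_le y.2) (F.B_le y'.2) (ht i).2.1 (ht i').2.1 h.1
    obtain ⟨e3, e4⟩ := F.decomp_unique (F.A_le x.2) (F.A_le x'.2) (hr j).2.1 (hr j').2.1 h.2
    have hii : i = i' := by
      cases i <;> cases i' <;> first | rfl | skip
      · exact absurd (show F.τ = F.z * F.τ from e2) fun h => F.z_ne (mul_eq_right.1 h.symm)
      · exact absurd (show F.z * F.τ = F.τ from e2) fun h => F.z_ne (mul_eq_right.1 h)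
    have hjj : j = j' := by
      cases j <;> cases j' <;> first | rfl | skip
      · exact absurd (show F.s = F.z * F.s from e4) fun h => F.z_ne (mul_eq_right.1 h.symm)
      · exact absurd (show F.z * F.s = F.s from e4) fun h => F.z_ne (mul_eq_right.1 h)
    simp [hii, hjj, Subtype.ext e1, Subtype.ext e3]
  · rintro ⟨⟨u, v⟩, hu, hv, hw⟩
    simp only at hu hv hw
    have he := F.even_product hA hu hv
    obtain ⟨hw2, huw, hvw⟩ := exists_half hu.2.1 hv.2 he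
    change Commute u (half u v) at huw
    change Commute v (half u v) at hvw
    rw [hw] at huw hvw
    have huz : u ≠ F.z := fun e => by
      subst e
      have hvi : v ≠ 1 := fun h => F.s_not_CA hA (by simpa [h] using hv.1)
      have h2 : F.z * v * (F.z * v) = 1 := by
        rw [mul_assoc, ← mul_assoc v, hvw.eq, mul_assoc, hv.2, mul_one, F.z_sq]
      have h3 : orderOf (F.z * v) ∣ 2 := orderOf_dvd_of_pow_eq_one (by rw [sq]; exact h2)
      rcases (Nat.dvd_prime Nat.prime_two).1 h3 with h4 | h4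
      · rw [h4] at he; exact absurd he (by decide)
      · rw [half, h4, Nat.div_self two_pos, pow_one] at hw
        exact hvi (mul_eq_left.1 hw)
    obtain ⟨x, hx, hvx⟩ := F.Sc_C hv (F.mem_C.2 hvw.eq) hA
    obtain ⟨y, hy, huy⟩ := (F.Zc_C hu (F.mem_C.2 huw.eq) hA).resolve_left huz
    obtain ⟨i, hi⟩ : ∃ i, u = y * t i := huy.elim (fun h => ⟨false, h⟩) fun h => ⟨true, h⟩
    obtain ⟨j, hj⟩ : ∃ j, v = x * r j := hvx.elim (fun h => ⟨false, h⟩) fun h => ⟨true, h⟩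
    exact ⟨((i, ⟨y, hy⟩), (j, ⟨x, hx⟩)), Subtype.ext (Prod.ext hi.symm hj.symm)⟩

theorem card_fiber_s (hA : F.A ≠ ⊥) :
    Nat.card (F.fiber F.s) = Nat.card F.Astar * Nat.card F.Astar := by
  rw [← Nat.card_prod]
  obtain ⟨D, hsplit, -, hmem⟩ := F.exists_Ks hA
  have hprop : ∀ x : F.Astar, (x : G) * F.z ∈ F.CA ∧ (x : G) * F.z * ((x : G) * F.z) = 1 ∧
      (x : G) * F.z * F.s = F.s * ((x : G) * F.z) ∧ (x : G) * F.z ≠ 1 := fun x => by
    obtain ⟨h1, h2, h3, h4, -⟩ := F.Astar_props x.2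
    refine ⟨mul_mem h1 F.z_CA, ?_, ?_, fun h => ?_⟩
    · calc (x : G) * F.z * ((x : G) * F.z) = x * (F.z * x * F.z⁻¹) * (F.z * F.z) := by group
        _ = 1 := by rw [h4, F.z_sq, mul_one, mul_inv_cancel]
    · rw [mul_assoc, ← F.s_z, ← mul_assoc, h3, mul_assoc]
    · have hx : (x : G) = F.z := (eq_inv_of_mul_eq_one_left h).trans F.z_inv
      rw [hx, F.order_z] at h2
      exact absurd h2 (by decide)
  have hmk : ∀ p q : F.Astar, ((p : G) * F.z, (q : G) * F.z * F.s) ∈ F.fiber F.s := by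
    intro p q
    obtain ⟨p1, p2, p3, p4⟩ := hprop p
    obtain ⟨q1, q2, q3, q4⟩ := hprop q
    refine ⟨⟨p1, p2, p4⟩, ⟨?_, ?_⟩, ?_⟩
    · show (q : G) * F.z * F.s * F.s ∈ F.CA
      rw [mul_assoc ((q : G) * F.z), F.s_sq, mul_one]; exact q1
    · calc (q : G) * F.z * F.s * ((q : G) * F.z * F.s)
          = (q : G) * F.z * (F.s * ((q : G) * F.z)) * F.s := by group
        _ = ((q : G) * F.z * ((q : G) * F.z)) * (F.s * F.s) := by rw [← q3]; group
        _ = 1 := by rw [q2, F.s_sq, mul_one]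
    · obtain ⟨-, hpo, hps, -, -⟩ := F.Astar_props p.2
      obtain ⟨-, hqo, hqs, hqz, -⟩ := F.Astar_props q.2
      have hpq : Commute (p : G) q := by
        obtain ⟨a, ha, e⟩ := (F.mem_Astar.1 p.2).2
        obtain ⟨a', ha', e'⟩ := (F.mem_Astar.1 q.2).2
        rw [← e, ← e']
        exact comm_conj (F.O_comm (F.A_le ha) (F.A_le ha'))
      refine half_of_odd_mul (e := (p : G) * (q : G)⁻¹)
        (Odd.of_dvd_nat (hpo.mul ((orderOf_inv (q : G)).symm ▸ hqo))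
          hpq.inv_right.orderOf_mul_dvd_mul_orderOf) F.order_s
        ((show Commute (p : G) F.s from hps).mul_left (show Commute (q : G) F.s from hqs).inv_left) ?_
      calc (p : G) * F.z * ((q : G) * F.z * F.s) = p * (F.z * q * F.z⁻¹) * (F.z * F.z) * F.s := by group
        _ = p * (q : G)⁻¹ * F.s := by rw [hqz, F.z_sq, mul_one]
  refine (Nat.card_congr (Equiv.ofBijective
    (fun q : F.Astar × F.Astar => (⟨_, hmk q.1 q.2⟩ : F.fiber F.s)) ⟨?_, ?_⟩)).symm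
  · rintro ⟨p, q⟩ ⟨p', q'⟩ h
    simp only [Subtype.mk.injEq, Prod.mk.injEq] at h
    simp [Subtype.ext (mul_right_cancel h.1), Subtype.ext (mul_right_cancel (mul_right_cancel h.2))]
  · rintro ⟨⟨u, v⟩, hu, hv, hw⟩
    simp only at hu hv hw
    obtain ⟨-, huw, hvw⟩ := exists_half hu.2.1 hv.2 (F.even_product hA hu hv)
    change Commute u (half u v) at huw
    change Commute v (half u v) at hvw
    rw [hw] at huw hvw
    have inK : ∀ g : G, g ∈ F.CA → g * g = 1 → g * F.s = F.s * g →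
        g = 1 ∨ ∃ x ∈ F.Astar, g = x * F.z := by
      intro g hg hg2 hgs
      rcases hsplit g ⟨hg, Subgroup.mem_centralizer_singleton_iff.2 hgs⟩ with h | h
      · obtain ⟨b, hb, x, hx, rfl⟩ := (hmem g).1 h
        left
        obtain ⟨-, hxo, -, -, hxB⟩ := F.Astar_props hx
        exact eq_one_of_sq_of_odd (Odd.of_dvd_nat ((F.odd_of_mem (F.B_le hb)).mul hxo)
          (show Commute b x from (hxB b hb).symm).orderOf_mul_dvd_mul_orderOf) hg2
      · obtain ⟨b, hb, x, hx, e⟩ := (hmem _).1 h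
        right
        have hg' : g = b * x * F.z := by rw [← e, mul_assoc, F.z_sq, mul_one]
        obtain ⟨-, -, -, hxz, hxB⟩ := F.Astar_props hx
        have hb1 : b * b = 1 := by
          have h5 : b * x * (b * x⁻¹) = b * b := by
            rw [mul_assoc b x, ← mul_assoc x b, hxB b hb]; group
          rw [← h5, ← hg2, hg']
          calc b * x * (b * x⁻¹) = b * x * (b * (F.z * x * F.z⁻¹)) := by rw [hxz]
            _ = b * x * ((b * F.z) * x * F.z⁻¹) := by group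
            _ = b * x * F.z * (b * x * F.z) := by rw [F.z_comm (F.B_le hb), F.z_inv]; group
        refine ⟨x, hx, ?_⟩
        rw [hg', eq_one_of_sq_of_odd (F.odd_of_mem (F.B_le hb)) hb1, one_mul]
    obtain ⟨p, hp, rfl⟩ := (inK u hu.1 hu.2.1 huw.eq).resolve_left hu.2.2
    have hvs : v * F.s * (v * F.s) = 1 := by
      rw [mul_assoc, ← mul_assoc F.s, ← hvw.eq, mul_assoc, F.s_sq, mul_one, hv.2]
    rcases inK (v * F.s) hv.1 hvs (by
      rw [mul_assoc, ← mul_assoc F.s, ← hvw.eq, mul_assoc]) with h | ⟨q, hq, h⟩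
    · exfalso
      have hv' : v = F.s := (eq_inv_of_mul_eq_one_left h).trans F.s_inv
      subst hv'
      have h2 : p * F.z * F.s * (p * F.z * F.s) = 1 := by
        calc p * F.z * F.s * (p * F.z * F.s) = p * F.z * (F.s * (p * F.z)) * F.s := by group
          _ = (p * F.z * (p * F.z)) * (F.s * F.s) := by rw [← huw.eq]; group
          _ = 1 := by rw [hu.2.1, F.s_sq, mul_one]
      have h3 : orderOf (p * F.z * F.s) ∣ 2 := orderOf_dvd_of_pow_eq_one (by rw [sq]; exact h2)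
      rcases (Nat.dvd_prime Nat.prime_two).1 h3 with h4 | h4
      · rw [half, h4, Nat.div_eq_of_lt one_lt_two, pow_zero] at hw
        exact F.s_ne hw.symm
      · rw [half, h4, Nat.div_self two_pos, pow_one, mul_eq_right] at hw
        exact hu.2.2 hw
    · refine ⟨(⟨p, hp⟩, ⟨q, hq⟩), Subtype.ext (Prod.ext rfl ?_)⟩
      show q * F.z * F.s = v
      rw [← h, mul_assoc, F.s_sq, mul_one]

/-- Thompson's count. -/
theorem card_pairs (hA : F.A ≠ ⊥) :
    Nat.card F.Zc * Nat.card F.Sc =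
      Nat.card F.Zc * Nat.card (F.fiber F.z) + Nat.card F.Sc * Nat.card (F.fiber F.s) := by
  rw [← Nat.card_prod, ← Nat.card_prod, ← Nat.card_prod, ← Nat.card_sum]
  choose r hr hrx using fun u : F.Zc => (F.mem_Zc hA u).1 u.2
  choose r' hr' hrx' using fun u : F.Sc => (F.mem_Sc hA u).1 u.2
  have hconjZ : ∀ {g u : G}, g ∈ F.CA → u ∈ F.Zc → g * u * g⁻¹ ∈ F.Zc := fun {g u} hg hu =>
    ⟨mul_mem (mul_mem hg hu.1) (inv_mem hg), mul_self_of_conj hu.2.1,
      fun h => hu.2.2 (conj_eq_one_iff.1 h)⟩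
  have hconjS : ∀ {g u : G}, g ∈ F.CA → u ∈ F.Sc → g * u * g⁻¹ ∈ F.Sc := fun {g u} hg hu =>
    ⟨F.conj_CA_mem hg hu.1, mul_self_of_conj hu.2⟩
  let Φ : F.Zc × F.fiber F.z ⊕ F.Sc × F.fiber F.s → F.Zc × F.Sc := Sum.elim
    (fun p => (⟨r p.1 * p.2.1.1 * (r p.1)⁻¹, hconjZ (hr p.1) p.2.2.1⟩,
      ⟨r p.1 * p.2.1.2 * (r p.1)⁻¹, hconjS (hr p.1) p.2.2.2.1⟩))
    (fun p => (⟨r' p.1 * p.2.1.1 * (r' p.1)⁻¹, hconjZ (hr' p.1) p.2.2.1⟩,
      ⟨r' p.1 * p.2.1.2 * (r' p.1)⁻¹, hconjS (hr' p.1) p.2.2.2.1⟩))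
  have hval : ∀ q, half ((Φ q).1 : G) ((Φ q).2 : G) =
      Sum.elim (fun p : F.Zc × F.fiber F.z => (p.1 : G)) (fun p => (p.1 : G)) q := by
    rintro (⟨w, ⟨⟨u, v⟩, hu, hv, hp⟩⟩ | ⟨w, ⟨⟨u, v⟩, hu, hv, hp⟩⟩)
    · show half (r w * u * (r w)⁻¹) (r w * v * (r w)⁻¹) = w
      rw [half_conj]; exact (show half u v = F.z from hp) ▸ hrx w
    · show half (r' w * u * (r' w)⁻¹) (r' w * v * (r' w)⁻¹) = w
      rw [half_conj]; exact (show half u v = F.s from hp) ▸ hrx' w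
  have hdisj : ∀ w : G, w ∈ F.Zc → w ∉ F.Sc := fun w h h' =>
    F.s_not_CA hA ((F.CA.mul_mem_cancel_left h.1).1 h'.1)
  refine (Nat.card_congr (Equiv.ofBijective Φ ⟨?_, ?_⟩)).symm
  · intro q q' h
    have hh := (hval q).symm.trans ((by rw [h] : half ((Φ q).1 : G) ((Φ q).2 : G) = _).trans (hval q'))
    rcases q with ⟨w, p⟩ | ⟨w, p⟩ <;> rcases q' with ⟨w', p'⟩ | ⟨w', p'⟩ <;>
      simp only [Sum.elim_inl, Sum.elim_inr] at hh
    · obtain rfl : w = w' := Subtype.ext hh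
      simp only [Φ, Sum.elim_inl, Prod.mk.injEq, Subtype.mk.injEq, mul_left_inj, mul_right_inj] at h
      rw [Subtype.ext (Prod.ext h.1 h.2)]
    · exact absurd (hh ▸ w'.2) (hdisj _ w.2)
    · exact absurd (hh ▸ w.2) (hdisj _ w'.2)
    · obtain rfl : w = w' := Subtype.ext hh
      simp only [Φ, Sum.elim_inr, Prod.mk.injEq, Subtype.mk.injEq, mul_left_inj, mul_right_inj] at h
      rw [Subtype.ext (Prod.ext h.1 h.2)]
  · rintro ⟨⟨u, hu⟩, ⟨v, hv⟩⟩
    have he := F.even_product hA hu hv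
    obtain ⟨hw2, -, -⟩ := exists_half hu.2.1 hv.2 he
    have hww : half u v * half u v = 1 := by
      have h := pow_orderOf_eq_one ((u * v) ^ (orderOf (u * v) / 2))
      rw [hw2, sq] at h
      exact h
    have hback : ∀ g : G, g ∈ F.CA → ∀ c : G, g * c * g⁻¹ = half u v →
        (g⁻¹ * u * g, g⁻¹ * v * g) ∈ F.fiber c := fun g hg c hc => by
      refine ⟨?_, ?_, ?_⟩
      · have := hconjZ (inv_mem hg) hu; rwa [inv_inv] at this
      · have := hconjS (inv_mem hg) hv; rwa [inv_inv] at this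
      · show half (g⁻¹ * u * g) (g⁻¹ * v * g) = c
        have := half_conj g⁻¹ u v
        rw [inv_inv] at this
        rw [this, ← hc]; group
    by_cases hwA : half u v ∈ F.CA
    · have hwZ : half u v ∈ F.Zc := ⟨hwA, hww, fun h => by
        rw [show (u * v) ^ (orderOf (u * v) / 2) = half u v from rfl, h, orderOf_one] at hw2; omega⟩
      refine ⟨Sum.inl (⟨_, hwZ⟩, ⟨_, hback _ (hr ⟨_, hwZ⟩) _ (hrx ⟨_, hwZ⟩)⟩), Prod.ext ?_ ?_⟩ <;>
        refine Subtype.ext ?_ <;> simp only [Φ, Sum.elim_inl] <;> group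
    · have h1 : u * v * F.s ∈ F.CA := by rw [mul_assoc]; exact mul_mem hu.1 hv.1
      have hall : ∀ n : ℕ, (u * v) ^ n ∈ F.CA ∨ (u * v) ^ n * F.s ∈ F.CA := by
        intro n
        induction n with
        | zero => exact Or.inl (by rw [pow_zero]; exact one_mem _)
        | succ n ih =>
          rcases ih with h | h
          · exact Or.inr (by rw [pow_succ, mul_assoc]; exact mul_mem h h1)
          · refine Or.inl ?_
            have h3 := F.CA_conj (g := F.s) (fun a ha => F.s_normA ha) h1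
            have h4 : (u * v) ^ (n + 1) = (u * v) ^ n * F.s * (F.s * (u * v * F.s) * F.s⁻¹) := by
              rw [F.s_inv, pow_succ]
              calc (u * v) ^ n * (u * v) = (u * v) ^ n * (F.s * F.s) * (u * v) * (F.s * F.s) := by
                    rw [F.s_sq, mul_one, mul_one]
                _ = _ := by group
            rw [h4]; exact mul_mem h h3
      have hwS : half u v ∈ F.Sc := ⟨(hall _).resolve_left hwA, hww⟩
      refine ⟨Sum.inr (⟨_, hwS⟩, ⟨_, hback _ (hr' ⟨_, hwS⟩) _ (hrx' ⟨_, hwS⟩)⟩), Prod.ext ?_ ?_⟩ <;>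
        refine Subtype.ext ?_ <;> simp only [Φ, Sum.elim_inr] <;> group

/-- The order of `C(A)`. -/
theorem card_CA (hA : F.A ≠ ⊥) :
    Nat.card F.CA = 4 * Nat.card F.A * Nat.card F.B * Nat.card F.Astar *
      (2 * Nat.card F.B + Nat.card F.Astar) := by
  have h := F.card_pairs hA
  rw [F.card_fiber_z hA, F.card_fiber_s hA] at h
  have h1 := F.card_Zc_mul hA
  have h2 := F.card_Sc_mul hA
  set a := Nat.card F.A
  set b := Nat.card F.B
  set α := Nat.card F.Astar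
  set N := Nat.card F.CA
  have hN : 0 < N := Nat.card_pos
  have h3 : N * N = N * (4 * a * b * α * (2 * b + α)) :=
    calc N * N = (Nat.card F.Zc * (4 * (a * b))) * (Nat.card F.Sc * (2 * (b * α))) := by rw [h1, h2]
      _ = Nat.card F.Zc * Nat.card F.Sc * (4 * (a * b) * (2 * (b * α))) := by ring
      _ = (Nat.card F.Zc * (2 * b * (2 * a)) + Nat.card F.Sc * (α * α)) *
            (4 * (a * b) * (2 * (b * α))) := by rw [h]
      _ = (Nat.card F.Zc * (4 * (a * b))) * (4 * (a * b) * (2 * (b * α))) +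
            (Nat.card F.Sc * (2 * (b * α))) * (α * α * (4 * (a * b))) := by ring
      _ = N * (4 * a * b * α * (2 * b + α)) := by rw [h1, h2]; ring
  exact Nat.eq_of_mul_eq_mul_left hN h3

end Frame

end CfsgLib.SmallCent
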