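import Cfsg.Agent.SmallCent.Order
import Cfsg.Agent.BPres.Carmichael
import Mathlib.GroupTheory.GroupAction.ConjAct

/-!
The groups with `|A| = 3`, `B = 1` and order 2520, and the impossible case `|A| = 5`.
-/

set_option autoImplicit false
set_option linter.style.haveILetI false

namespace CfsgLib.SmallCent

universe u

variable {G : Type u} [Group G]

theorem sq_mul_comm {x y : G} (h : (x * y) ^ 2 = 1) : (y * x) ^ 2 = 1 := by
  rw [sq] at h ⊢
  calc y * x * (y * x) = y * (x * y * (x * y)) * y⁻¹ := by group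
    _ = 1 := by rw [h, mul_one, mul_inv_cancel]

variable [Finite G]

/-- Fixed points of a conjugation action of an element of prime order on a class. -/
theorem card_class_modEq {p : ℕ} [Fact p.Prime] (a : G) (ha : orderOf a = p) :
    Nat.card {x : G // IsConj a x} ≡ Nat.card {x : G // IsConj a x ∧ x * a = a * x} [MOD p] := by
  classical
  let act : MulAction (Subgroup.zpowers a) {x : G // IsConj a x} :=
    { smul := fun g x => ⟨(g : G) * x.1 * (g : G)⁻¹, x.2.trans (isConj_iff.2 ⟨g, rfl⟩)⟩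
      one_smul := fun x => Subtype.ext (by show (1 : G) * x.1 * (1 : G)⁻¹ = x.1; group)
      mul_smul := fun g h x => Subtype.ext (by
        show (g : G) * (h : G) * x.1 * ((g : G) * (h : G))⁻¹ =
          (g : G) * ((h : G) * x.1 * (h : G)⁻¹) * (g : G)⁻¹
        group) }
  letI := act
  have hp : IsPGroup p (Subgroup.zpowers a) :=
    IsPGroup.of_card (n := 1) (by rw [Nat.card_zpowers, ha, pow_one])
  refine (hp.card_modEq_card_fixedPoints _).trans (Eq.subst ?_ (Nat.ModEq.refl _))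
  refine Nat.card_congr ((Equiv.subtypeSubtypeEquivSubtypeInter _ (fun x => x * a = a * x)).symm.trans
    (Equiv.subtypeEquivRight fun x => ?_)).symm
  constructor
  · intro h g
    obtain ⟨i, hi⟩ := Subgroup.mem_zpowers_iff.1 g.2
    refine Subtype.ext ?_
    show (g : G) * x.1 * (g : G)⁻¹ = x.1
    rw [← hi]
    exact mul_inv_eq_of_eq_mul ((show Commute x.1 a from h).zpow_right i).eq.symm
  · intro h
    exact (mul_inv_eq_iff_eq_mul.1 (congrArg Subtype.val (h ⟨a, Subgroup.mem_zpowers a⟩))).symm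

namespace Frame

variable (F : Frame G)

theorem exists_gen {p : ℕ} [Fact p.Prime] (hA : Nat.card F.A = p) :
    ∃ a ∈ F.A, orderOf a = p ∧ F.A = Subgroup.zpowers a ∧
      Subgroup.centralizer ({a} : Set G) = F.CA := by
  have hne : F.A ≠ ⊥ := fun h => by
    rw [h, Subgroup.card_bot] at hA
    exact (Fact.out : p.Prime).ne_one hA.symm
  obtain ⟨a, ha, ha1⟩ := (Subgroup.bot_or_exists_ne_one F.A).resolve_left hne
  have hord : orderOf a = p := by
    have hd : orderOf a ∣ p := hA ▸ F.A.orderOf_dvd_natCard ha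
    exact ((Nat.dvd_prime Fact.out).1 hd).resolve_left (fun h => ha1 (orderOf_eq_one_iff.1 h))
  have heq : Subgroup.zpowers a = F.A := Subgroup.eq_of_le_of_card_ge (Subgroup.zpowers_le.2 ha)
    (by rw [Nat.card_zpowers, hord, hA])
  refine ⟨a, ha, hord, heq.symm, le_antisymm (fun g hg => F.mem_CA.2 fun x hx => ?_) fun g hg =>
    Subgroup.mem_centralizer_singleton_iff.2 (F.mem_CA.1 hg a ha).symm⟩
  rw [← heq] at hx
  obtain ⟨i, rfl⟩ := Subgroup.mem_zpowers_iff.1 hx
  exact ((show Commute a g from (Subgroup.mem_centralizer_singleton_iff.1 hg).symm).zpow_left i).eq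

theorem card_class {p : ℕ} [Fact p.Prime] (hA : Nat.card F.A = p) {a : G}
    (hC : Subgroup.centralizer ({a} : Set G) = F.CA) :
    Nat.card {x : G // IsConj a x} * Nat.card F.CA = Nat.card G := by
  have h := card_orbit_mul (⊤ : Subgroup G) a {x | IsConj a x} (fun u => by
    simp [Set.mem_setOf_eq, isConj_iff])
  rw [top_inf_eq, hC, Subgroup.card_top] at h
  exact h

/-- The case `|A| = 5` does not occur. -/
theorem false_of_five (hA : Nat.card F.A = 5) (hCA : Nat.card F.CA = 60)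
    (hG : Nat.card G = 7560) : False := by
  haveI : Fact (Nat.Prime 5) := ⟨by norm_num⟩
  classical
  obtain ⟨a, ha, hord, hAeq, hC⟩ := F.exists_gen hA
  have hm := card_class_modEq (p := 5) a hord
  have hcl := F.card_class hA hC
  rw [hCA, hG] at hcl
  rw [show Nat.card {x : G // IsConj a x} = 126 by omega] at hm
  have hsub : ∀ x : G, IsConj a x → x * a = a * x → x ∈ F.A ∧ x ≠ 1 := by
    intro x hx hc
    obtain ⟨g, rfl⟩ := isConj_iff.1 hx
    have ho : orderOf (g * a * g⁻¹) = 5 := by rw [← MulAut.conj_apply, MulEquiv.orderOf_eq, hord]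
    set x := g * a * g⁻¹
    refine ⟨?_, fun h => by rw [h, orderOf_one] at ho; omega⟩
    by_contra hxA
    have hxCA : x ∈ F.CA := hC ▸ Subgroup.mem_centralizer_singleton_iff.2 hc
    let f : Fin 5 × Fin 5 → F.CA := fun q => ⟨a ^ (q.1 : ℕ) * x ^ (q.2 : ℕ),
      mul_mem (pow_mem (F.O_le_CA (F.A_le ha)) _) (pow_mem hxCA _)⟩
    have hint : Subgroup.zpowers a ⊓ Subgroup.zpowers x = ⊥ := by
      by_contra hne
      obtain ⟨y, ⟨hy1, hy2⟩, hy⟩ := (Subgroup.bot_or_exists_ne_one _).resolve_left hne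
      have h5 : Nat.card (Subgroup.zpowers y) = 5 := by
        rw [Nat.card_zpowers]
        have hd := (Subgroup.zpowers x).orderOf_dvd_natCard hy2
        rw [Nat.card_zpowers, ho] at hd
        exact ((Nat.dvd_prime Fact.out).1 hd).resolve_left (fun h => hy (orderOf_eq_one_iff.1 h))
      have e1 : Subgroup.zpowers y = Subgroup.zpowers x := Subgroup.eq_of_le_of_card_ge
        (Subgroup.zpowers_le.2 hy2) (by rw [h5, Nat.card_zpowers, ho])
      apply hxA
      rw [hAeq]
      exact Subgroup.zpowers_le.2 hy1 (e1.symm ▸ Subgroup.mem_zpowers x)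
    have hinj : Function.Injective f := by
      rintro ⟨i, j⟩ ⟨i', j'⟩ h
      have h' : a ^ (i : ℕ) * x ^ (j : ℕ) = a ^ (i' : ℕ) * x ^ (j' : ℕ) := congrArg Subtype.val h
      have h2 : (a ^ (i' : ℕ))⁻¹ * a ^ (i : ℕ) = x ^ (j' : ℕ) * (x ^ (j : ℕ))⁻¹ := by
        rw [eq_mul_inv_iff_mul_eq, mul_assoc, h', inv_mul_cancel_left]
      have h3 : (a ^ (i' : ℕ))⁻¹ * a ^ (i : ℕ) ∈ Subgroup.zpowers a ⊓ Subgroup.zpowers x :=
        Subgroup.mem_inf.2 ⟨mul_mem (inv_mem (pow_mem (Subgroup.mem_zpowers a) _)) (pow_mem (Subgroup.mem_zpowers a) _),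
          h2 ▸ mul_mem (pow_mem (Subgroup.mem_zpowers x) _) (inv_mem (pow_mem (Subgroup.mem_zpowers x) _))⟩
      rw [hint, Subgroup.mem_bot] at h3
      have h4 := h2.symm.trans h3
      rw [inv_mul_eq_one] at h3
      rw [mul_inv_eq_one] at h4
      exact Prod.ext (Fin.ext (pow_injOn_Iio_orderOf (by simp [hord]) (by simp [hord]) h3.symm))
        (Fin.ext (pow_injOn_Iio_orderOf (by simp [ho]) (by simp [ho]) h4.symm))
    -- twenty-five elements forming a subgroup
    have hc' : Commute a x := hc.symm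
    let Q : Subgroup G := Subgroup.zpowers a ⊔ Subgroup.zpowers x
    have hQ : Q ≤ F.CA := sup_le (Subgroup.zpowers_le.2 (F.O_le_CA (F.A_le ha))) (Subgroup.zpowers_le.2 hxCA)
    have hnorm : Subgroup.zpowers x ≤ Subgroup.normalizer (Subgroup.zpowers a : Set G) := by
      rw [Subgroup.zpowers_le]
      refine Subgroup.centralizer_le_normalizer _ (Subgroup.mem_centralizer_iff.2 fun y hy => ?_)
      obtain ⟨i, rfl⟩ := Subgroup.mem_zpowers_iff.1 hy
      exact (hc'.zpow_left i).eq
    have hQc : Nat.card Q = 25 := by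
      have e : (Q : Set G) = Set.range fun q => ((f q : F.CA) : G) := by
        ext y
        constructor
        · intro hy
          have hy' : y ∈ ((Subgroup.zpowers a ⊔ Subgroup.zpowers x : Subgroup G) : Set G) := hy
          rw [Subgroup.coe_mul_of_right_le_normalizer_left _ _ hnorm] at hy'
          obtain ⟨u, hu, v, hv, rfl⟩ := hy'
          rw [SetLike.mem_coe, mem_zpowers_iff_mem_range_orderOf, Finset.mem_image] at hu hv
          obtain ⟨i, hi, rfl⟩ := hu
          obtain ⟨j, hj, rfl⟩ := hv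
          rw [Finset.mem_range, hord] at hi
          rw [Finset.mem_range, ho] at hj
          exact ⟨(⟨i, hi⟩, ⟨j, hj⟩), rfl⟩
        · rintro ⟨q, rfl⟩
          exact mul_mem (pow_mem (Subgroup.mem_sup_left (Subgroup.mem_zpowers a)) _)
            (pow_mem (Subgroup.mem_sup_right (Subgroup.mem_zpowers x)) _)
      rw [← SetLike.coe_sort_coe, e, Nat.card_range_of_injective (f := fun q => ((f q : F.CA) : G)) fun p q h => hinj (Subtype.ext h)]
      simp
    have := Subgroup.card_dvd_of_le hQ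
    rw [hQc, hCA] at this
    norm_num at this
  have hinv : IsConj a a⁻¹ ∧ a⁻¹ * a = a * a⁻¹ :=
    ⟨isConj_iff.2 ⟨F.s, F.s_inverts_A ha⟩, by group⟩
  have hle : Nat.card {x : G // IsConj a x ∧ x * a = a * x} ≤ 4 := by
    let f : {x : G // IsConj a x ∧ x * a = a * x} → {y : F.A // y ≠ 1} := fun x =>
      ⟨⟨x.1, (hsub x.1 x.2.1 x.2.2).1⟩, fun h => (hsub x.1 x.2.1 x.2.2).2 (congrArg Subtype.val h)⟩
    refine (Nat.card_le_card_of_injective f fun x y h =>
      Subtype.ext (congrArg (fun v => ((v.1 : F.A) : G)) h)).trans ?_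
    haveI := Fintype.ofFinite F.A
    rw [Nat.card_eq_fintype_card, Fintype.card_subtype_compl, Fintype.card_subtype_eq,
      ← Nat.card_eq_fintype_card, hA]
  have htwo : 2 ≤ Nat.card {x : G // IsConj a x ∧ x * a = a * x} := by
    haveI : Nontrivial {x : G // IsConj a x ∧ x * a = a * x} :=
      ⟨⟨a, IsConj.refl a, rfl⟩, ⟨a⁻¹, hinv⟩, fun h => by
        have h1 : a = a⁻¹ := congrArg Subtype.val h
        have h2 : orderOf a ∣ 2 := orderOf_dvd_of_pow_eq_one (by rw [sq]; exact mul_eq_one_iff_eq_inv.2 h1)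
        rw [hord] at h2; norm_num at h2⟩
    exact Finite.one_lt_card
  rw [Nat.ModEq] at hm
  omega

section Seven

variable (hA : Nat.card F.A = 3) (hB : F.B = ⊥) (hCA : Nat.card F.CA = 36)
include hA hB hCA

theorem A_ne : F.A ≠ ⊥ := fun h => by rw [h, Subgroup.card_bot] at hA; omega

theorem O_eq : F.O = F.A := by
  refine (Subgroup.eq_of_le_of_card_ge F.A_le ?_).symm
  rw [F.card_O, hB, Subgroup.card_bot, mul_one]

theorem invol_CA {u : G} (hu : u ∈ F.CA) (h2 : u * u = 1) (h1 : u ≠ 1) :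
    u = F.z ∨ u = F.τ ∨ u = F.z * F.τ := by
  classical
  have hne := F.A_ne hA hB hCA
  have h := F.card_Zc_mul hne
  rw [hA, hB, Subgroup.card_bot, hCA] at h
  have h3 : Nat.card F.Zc = 3 := by omega
  by_contra hno
  push Not at hno
  have hzτ1 : F.z * F.τ ≠ 1 := fun e => F.τ_ne_z ((eq_inv_of_mul_eq_one_right e).trans F.z_inv)
  have hsub : (({F.z, F.τ, F.z * F.τ, u} : Finset G) : Set G) ⊆ F.Zc := by
    intro x hx
    simp only [Finset.coe_insert, Finset.coe_singleton, Set.mem_insert_iff, Set.mem_singleton_iff] at hx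
    rcases hx with rfl | rfl | rfl | rfl
    exacts [⟨F.z_CA, F.z_sq, F.z_ne⟩, ⟨F.τ_CA, F.τ_sq, F.τ_ne⟩, ⟨F.zτ_CA, F.z_τ_sq, hzτ1⟩, ⟨hu, h2, h1⟩]
  have hle := Set.ncard_le_ncard hsub (Set.toFinite _)
  rw [Set.ncard_coe_finset, ← Nat.card_coe_set_eq, h3] at hle
  have n2 : F.z ≠ F.z * F.τ := fun e => F.τ_ne (mul_eq_left.1 e.symm)
  have n3 : F.τ ≠ F.z * F.τ := fun e => F.z_ne (mul_eq_right.1 e.symm)
  rw [Finset.card_insert_of_notMem (by simp [F.τ_ne_z.symm, n2, hno.1.symm]),
    Finset.card_insert_of_notMem (by simp [n3, hno.2.1.symm]),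
    Finset.card_insert_of_notMem (by simp [hno.2.2.symm]), Finset.card_singleton] at hle
  omega

/-- An element of odd order of `C(A)` commuting with an involution of `C(A)` lies in `A`. -/
theorem mem_A_of_comm_invol {x u : G} (hx : x ∈ F.CA) (ho : Odd (orderOf x))
    (hu : u = F.z ∨ u = F.τ ∨ u = F.z * F.τ) (h : x * u = u * x) : x ∈ F.A := by
  rcases hu with rfl | rfl | rfl
  · rw [← F.O_eq hA hB hCA]; exact F.mem_O (F.mem_C.2 h) ho
  · obtain ⟨a, ha, b, hb, rfl⟩ := F.odd_comm_τ ho h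
    rw [hB, Subgroup.mem_bot] at hb
    simpa [hb] using ha
  · have h1 := comm_conj (g := F.θ) h
    rw [F.θ_zτ] at h1
    have h2 := F.mem_O (F.mem_C.2 h1) (odd_conj ho)
    rw [F.O_eq hA hB hCA] at h2
    have h3 := F.θ_inv_A h2
    rw [show F.θ⁻¹ * (F.θ * x * F.θ⁻¹) * F.θ = x by group] at h3
    rwa [← h3] at h2

/-- A group of order 2520 with this configuration is the alternating group of degree seven. -/
theorem iso_alternatingSeven (hG : Nat.card G = 2520) [IsSimpleGroup G] :
    Nonempty (G ≃* ↥(alternatingGroup (Fin 7))) := by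
  haveI : Fact (Nat.Prime 3) := ⟨Nat.prime_three⟩
  classical
  have hne := F.A_ne hA hB hCA
  obtain ⟨a, ha, hord, hAeq, hC⟩ := F.exists_gen hA
  have ha1 : a ≠ 1 := fun h => by rw [h, orderOf_one] at hord; omega
  have ha3 : a ^ 3 = 1 := by rw [← hord, pow_orderOf_eq_one]
  have haCA : a ∈ F.CA := F.O_le_CA (F.A_le ha)
  have hAcases : ∀ x ∈ F.A, x = 1 ∨ x = a ∨ x = a⁻¹ := by
    intro x hx
    rw [hAeq, mem_zpowers_iff_mem_range_orderOf, Finset.mem_image] at hx
    obtain ⟨i, hi, rfl⟩ := hx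
    rw [Finset.mem_range, hord] at hi
    rcases (by omega : i = 0 ∨ i = 1 ∨ i = 2) with rfl | rfl | rfl
    · exact Or.inl (pow_zero a)
    · exact Or.inr (Or.inl (pow_one a))
    · exact Or.inr (Or.inr (eq_inv_of_mul_eq_one_left (by rw [← pow_succ]; exact ha3)))
  have hzτ : F.z * F.τ = F.τ * F.z := F.τ_z.symm
  have hUmem : ∀ u : G, (u = 1 ∨ u = F.z ∨ u = F.τ ∨ u = F.z * F.τ) → u ∈ F.CA ∧ u * u = 1 := by
    rintro u (rfl | rfl | rfl | rfl)
    exacts [⟨one_mem _, one_mul _⟩, ⟨F.z_CA, F.z_sq⟩, ⟨F.τ_CA, F.τ_sq⟩, ⟨F.zτ_CA, F.z_τ_sq⟩]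
  have hUset : ∀ u ∈ F.CA, u * u = 1 → (u = 1 ∨ u = F.z ∨ u = F.τ ∨ u = F.z * F.τ) := fun u hu h2 => by
    by_cases h1 : u = 1
    · exact Or.inl h1
    · exact Or.inr (F.invol_CA hA hB hCA hu h2 h1)
  have hUcomm : ∀ u ∈ F.CA, u * u = 1 → ∀ v ∈ F.CA, v * v = 1 → Commute u v := by
    intro u hu hu2 v hv hv2
    have c : ∀ x, (x = 1 ∨ x = F.z ∨ x = F.τ ∨ x = F.z * F.τ) → Commute x F.z ∧ Commute x F.τ := by
      rintro x (rfl | rfl | rfl | rfl)
      exacts [⟨Commute.one_left _, Commute.one_left _⟩, ⟨Commute.refl _, hzτ⟩,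
        ⟨hzτ.symm, Commute.refl _⟩, ⟨(Commute.refl _).mul_left hzτ.symm, (show Commute F.z F.τ from hzτ).mul_left (Commute.refl _)⟩]
    obtain ⟨c1, c2⟩ := c u (hUset u hu hu2)
    rcases hUset v hv hv2 with rfl | rfl | rfl | rfl
    exacts [Commute.one_right _, c1, c2, c1.mul_right c2]
  have hUnorm : ∀ g ∈ F.CA, ∀ u ∈ F.CA, u * u = 1 → g * u * g⁻¹ ∈ F.CA ∧ g * u * g⁻¹ * (g * u * g⁻¹) = 1 :=
    fun g hg u hu h2 => ⟨mul_mem (mul_mem hg hu) (inv_mem hg), mul_self_of_conj h2⟩
  -- the set of conjugates of `a` in `C(A)` outside `A`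
  let P : G → Prop := fun x => IsConj a x ∧ x * a = a * x ∧ x ∉ F.A
  let S : Finset G := (Set.toFinite {x : G | P x}).toFinset
  have hS : ∀ x, x ∈ S ↔ P x := fun x => by simp [S]
  have Pord : ∀ x, P x → orderOf x = 3 ∧ x ∈ F.CA := by
    rintro x ⟨hx, hc, -⟩
    obtain ⟨g, rfl⟩ := isConj_iff.1 hx
    exact ⟨by rw [← MulAut.conj_apply, MulEquiv.orderOf_eq, hord],
      hC ▸ Subgroup.mem_centralizer_singleton_iff.2 hc⟩
  have Podd : ∀ x, P x → Odd (orderOf x) := fun x hx => by rw [(Pord x hx).1]; decide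
  have hPfree : ∀ x, P x → ∀ u ∈ F.CA, u * u = 1 → x * u = u * x → u = 1 := by
    intro x hx u hu h2 hc
    by_contra h1
    exact hx.2.2 (F.mem_A_of_comm_invol hA hB hCA (Pord x hx).2 (Podd x hx) (F.invol_CA hA hB hCA hu h2 h1) hc)
  have hPinv : ∀ x, P x → P x⁻¹ := by
    rintro x ⟨hx, hc, hn⟩
    refine ⟨?_, (show Commute x a from hc).inv_left.eq, fun h => hn (by simpa using inv_mem h)⟩
    obtain ⟨g, rfl⟩ := isConj_iff.1 hx
    exact isConj_iff.2 ⟨g * F.s, by
      rw [show g * F.s * a * (g * F.s)⁻¹ = g * (F.s * a * F.s⁻¹) * g⁻¹ by group, F.s_inverts_A ha]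
      group⟩
  have hPconj : ∀ x, P x → ∀ g ∈ F.CA, P (g * x * g⁻¹) := by
    rintro x ⟨hx, hc, hn⟩ g hg
    have hga : g * a * g⁻¹ = a := mul_inv_eq_of_eq_mul (F.mem_CA.1 hg a ha).symm
    refine ⟨hx.trans (isConj_iff.2 ⟨g, rfl⟩), ?_, fun h => hn ?_⟩
    · have := comm_conj (g := g) hc; rwa [hga] at this
    · have e : g * x * g⁻¹ = x → x ∈ F.A := fun e => e ▸ h
      have h3 : g⁻¹ * (g * x * g⁻¹) * g = g * x * g⁻¹ := by
        rw [mul_assoc g⁻¹, F.mem_CA.1 hg _ h, inv_mul_cancel_left]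
      exact e (by rw [← h3]; group)
  -- orbits
  let U : Finset G := {1, F.z, F.τ, F.z * F.τ}
  have hUin : ∀ u, u ∈ U ↔ (u ∈ F.CA ∧ u * u = 1) := fun u => by
    constructor
    · intro h; exact hUmem u (by simpa [U] using h)
    · intro h; simpa [U] using hUset u h.1 h.2
  have hUcard : U.card = 4 := by
    have hzτ1 : F.z * F.τ ≠ 1 := fun e => F.τ_ne_z ((eq_inv_of_mul_eq_one_right e).trans F.z_inv)
    have n2 : F.z ≠ F.z * F.τ := fun e => F.τ_ne (mul_eq_left.1 e.symm)
    have n3 : F.τ ≠ F.z * F.τ := fun e => F.z_ne (mul_eq_right.1 e.symm)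
    simp [U, F.z_ne.symm, F.τ_ne.symm, F.τ_ne_z.symm, hzτ1.symm, n2, n3]
  let pw : Bool → G → G := fun i x => cond i x⁻¹ x
  let orb : G → Finset G := fun x => (U ×ˢ (Finset.univ : Finset Bool)).image fun p => p.1 * pw p.2 x * p.1
  have horb : ∀ x, P x → (orb x).card = 8 ∧ orb x ⊆ S := by
    intro x hx
    constructor
    · rw [Finset.card_image_of_injOn, Finset.card_product, hUcard, Finset.card_univ, Fintype.card_bool]
      rintro ⟨u, i⟩ hu ⟨v, j⟩ hv he
      rw [Finset.mem_coe, Finset.mem_product] at hu hv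
      obtain ⟨huC, hu2⟩ := (hUin u).1 hu.1
      obtain ⟨hvC, hv2⟩ := (hUin v).1 hv.1
      simp only at he
      have huv : Commute u v := hUcomm u huC hu2 v hvC hv2
      have hw2 : v * u * (v * u) = 1 := by
        rw [mul_assoc, ← mul_assoc u v, huv.eq, mul_assoc, hu2, mul_one, hv2]
      have hwC : v * u ∈ F.CA := mul_mem hvC huC
      have e : v * u * pw i x * (v * u) = pw j x := by
        calc v * u * pw i x * (v * u) = v * (u * pw i x * (v * u)) := by group
          _ = v * (u * pw i x * u) * v := by rw [← huv.eq]; group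
          _ = (v * v) * pw j x * (v * v) := by rw [he]; group
          _ = pw j x := by rw [hv2]; group
      have hij : i = j ∧ v * u = 1 := by
        have same : v * u * x * (v * u) = x → v * u = 1 := fun h => hPfree x hx _ hwC hw2 (by
          calc x * (v * u) = v * u * x * (v * u) * (v * u) := by rw [h]
            _ = v * u * x := by rw [mul_assoc (v * u * x), hw2, mul_one])
        have diff : v * u * x * (v * u) ≠ x⁻¹ := fun h => by
          have hinvol : v * u * x * (v * u * x) = 1 := by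
            rw [← mul_assoc, h, inv_mul_cancel]
          rcases hUset _ (mul_mem hwC (Pord x hx).2) hinvol with h' | h' | h' | h'
          all_goals
            have hxu : x ∈ U := (hUin x).2 (by
              have e2 : x = v * u * (v * u * x) := by rw [← mul_assoc, hw2, one_mul]
              have hc2 := hUcomm _ hwC hw2 _ (mul_mem hwC (Pord x hx).2) hinvol
              refine ⟨(Pord x hx).2, ?_⟩
              calc x * x = v * u * (v * u * x) * (v * u * (v * u * x)) := by rw [← e2]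
                _ = v * u * ((v * u * x) * (v * u)) * (v * u * x) := by group
                _ = (v * u * (v * u)) * (v * u * x * (v * u * x)) := by rw [← hc2.eq]; group
                _ = 1 := by rw [hw2, hinvol, mul_one])
            have h5 := eq_one_of_sq_of_odd (Podd x hx) ((hUin x).1 hxu).2
            exact hx.2.2 (h5 ▸ one_mem _)
        cases i <;> cases j
        · exact ⟨rfl, same e⟩
        · exact absurd e diff
        · refine absurd ?_ diff
          have e' := congrArg (·⁻¹) e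
          simp only [pw, cond_true, cond_false, mul_inv_rev, inv_inv, inv_eq_self_of_sq hu2,
            inv_eq_self_of_sq hv2] at e'
          calc v * u * x * (v * u) = u * v * x * (u * v) := by rw [huv.eq]
            _ = x⁻¹ := by rw [← e']; group
        · refine ⟨rfl, same ?_⟩
          have e' := congrArg (·⁻¹) e
          simp only [pw, cond_true, mul_inv_rev, inv_inv, inv_eq_self_of_sq hu2,
            inv_eq_self_of_sq hv2] at e'
          calc v * u * x * (v * u) = u * v * x * (u * v) := by rw [huv.eq]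
            _ = x := by conv_rhs => rw [← e']
                        group
      obtain ⟨rfl, hvu⟩ := hij
      rw [show u = v from ((eq_inv_of_mul_eq_one_right hvu).trans (inv_eq_self_of_sq hv2))]
    · intro y hy
      simp only [orb, Finset.mem_image, Finset.mem_product] at hy
      obtain ⟨⟨u, i⟩, ⟨hu, -⟩, rfl⟩ := hy
      obtain ⟨huC, hu2⟩ := (hUin u).1 hu
      rw [hS]
      have hp : P (pw i x) := by
        cases i
        exacts [hx, hPinv x hx]
      have := hPconj _ hp u huC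
      rwa [inv_eq_self_of_sq hu2] at this
  have horb_closed : ∀ x y, y ∈ orb x → orb y ⊆ orb x := by
    intro x y hy
    simp only [orb, Finset.mem_image, Finset.mem_product] at hy
    obtain ⟨⟨v, j⟩, ⟨hv, -⟩, rfl⟩ := hy
    obtain ⟨hvC, hv2⟩ := (hUin v).1 hv
    intro w hw
    simp only [orb, Finset.mem_image, Finset.mem_product] at hw
    obtain ⟨⟨u, i⟩, ⟨hu, -⟩, rfl⟩ := hw
    obtain ⟨huC, hu2⟩ := (hUin u).1 hu
    have huv := hUcomm u huC hu2 v hvC hv2
    simp only [orb, Finset.mem_image, Finset.mem_product]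
    refine ⟨(u * v, xor i j), ⟨(hUin _).2 ⟨mul_mem huC hvC, ?_⟩, Finset.mem_univ _⟩, ?_⟩
    · rw [mul_assoc, ← mul_assoc v, ← huv.eq, mul_assoc, hv2, mul_one, hu2]
    · have hvi := inv_eq_self_of_sq hv2
      cases i <;> cases j <;>
        simp [pw, mul_inv_rev, hvi, mul_assoc] <;> rw [huv.eq]
  have hcard : Nat.card {x : G // IsConj a x ∧ x * a = a * x} = S.card + 2 := by
    have hAdisj : Disjoint S {a, a⁻¹} := by
      rw [Finset.disjoint_left]
      intro x hx hx'
      rw [hS] at hx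
      simp only [Finset.mem_insert, Finset.mem_singleton] at hx'
      rcases hx' with rfl | rfl
      exacts [hx.2.2 ha, hx.2.2 (inv_mem ha)]
    have hpair : ({a, a⁻¹} : Finset G).card = 2 := Finset.card_pair fun h => by
      have h2 : orderOf a ∣ 2 := orderOf_dvd_of_pow_eq_one (by rw [sq]; exact mul_eq_one_iff_eq_inv.2 h)
      rw [hord] at h2; norm_num at h2
    rw [← hpair, ← Finset.card_union_of_disjoint hAdisj]
    refine (Nat.card_congr (Equiv.subtypeEquivRight fun x => ?_)).trans (Nat.card_eq_finsetCard _)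
    simp only [Finset.mem_union, hS, Finset.mem_insert, Finset.mem_singleton]
    constructor
    · rintro ⟨h1, h2⟩
      by_cases hx : x ∈ F.A
      · refine Or.inr ((hAcases x hx).resolve_left ?_)
        rintro rfl
        obtain ⟨g, hg⟩ := isConj_iff.1 h1
        exact ha1 (conj_eq_one_iff.1 hg)
      · exact Or.inl ⟨h1, h2, hx⟩
    · rintro (⟨h1, h2, -⟩ | rfl | rfl)
      exacts [⟨h1, h2⟩, ⟨IsConj.refl x, rfl⟩,
        ⟨isConj_iff.2 ⟨F.s, F.s_inverts_A ha⟩, by group⟩]
  have hmod : S.card % 3 = 2 := by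
    have hm := card_class_modEq (p := 3) a hord
    have hcl := F.card_class hA hC
    rw [hCA, hG] at hcl
    rw [show Nat.card {x : G // IsConj a x} = 70 by omega, hcard, Nat.ModEq] at hm
    omega
  have hle : S.card ≤ 24 := by
    let T : Finset G := (U ×ˢ ({1, a, a⁻¹} : Finset G)).image fun p => p.1 * p.2
    have hT : T.card = 12 := by
      have h3 : ({1, a, a⁻¹} : Finset G).card = 3 := by
        have h1 : a ≠ a⁻¹ := fun h => by
          have h2 : orderOf a ∣ 2 := orderOf_dvd_of_pow_eq_one (by rw [sq]; exact mul_eq_one_iff_eq_inv.2 h)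
          rw [hord] at h2; norm_num at h2
        simp [ha1.symm, h1, (inv_ne_one.2 ha1).symm]
      rw [Finset.card_image_of_injOn, Finset.card_product, hUcard, h3]
      rintro ⟨u, p⟩ hu ⟨v, q⟩ hv he
      rw [Finset.mem_coe, Finset.mem_product] at hu hv
      simp only at he
      obtain ⟨huC, hu2⟩ := (hUin u).1 hu.1
      obtain ⟨hvC, hv2⟩ := (hUin v).1 hv.1
      have memA : ∀ r ∈ ({1, a, a⁻¹} : Finset G), r ∈ F.A := fun r hr => by
        simp only [Finset.mem_insert, Finset.mem_singleton] at hr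
        rcases hr with rfl | rfl | rfl
        exacts [one_mem _, ha, inv_mem ha]
      have hvu : v * u = q * p⁻¹ := by
        calc v * u = v * (u * p) * p⁻¹ := by group
          _ = (v * v) * q * p⁻¹ := by rw [he]; group
          _ = q * p⁻¹ := by rw [hv2, one_mul]
      have hw2 : v * u * (v * u) = 1 := by
        rw [mul_assoc, ← mul_assoc u v, (hUcomm u huC hu2 v hvC hv2).eq, mul_assoc, hu2, mul_one, hv2]
      have h1 : v * u = 1 := eq_one_of_sq_of_odd
        (odd_orderOf_of_mem F.A_odd (hvu ▸ mul_mem (memA q hv.2) (inv_mem (memA p hu.2)))) hw2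
      have huv : u = v := (eq_inv_of_mul_eq_one_right h1).trans (inv_eq_self_of_sq hv2)
      subst huv
      rw [mul_left_cancel he]
    let CAf : Finset G := (Set.toFinite (F.CA : Set G)).toFinset
    have hCAf : CAf.card = 36 := by
      rw [← hCA, ← SetLike.coe_sort_coe, Nat.card_coe_set_eq, Set.ncard_eq_toFinset_card]
    have hd : Disjoint S T := by
      rw [Finset.disjoint_left]
      intro x hx hx'
      rw [hS] at hx
      simp only [T, Finset.mem_image, Finset.mem_product] at hx'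
      obtain ⟨⟨u, p⟩, ⟨hu, hp⟩, rfl⟩ := hx'
      obtain ⟨huC, hu2⟩ := (hUin u).1 hu
      have hpA : p ∈ F.A := by
        simp only [Finset.mem_insert, Finset.mem_singleton] at hp
        rcases hp with rfl | rfl | rfl
        exacts [one_mem _, ha, inv_mem ha]
      have hc : Commute (u * p) u := (Commute.refl u).mul_left (F.mem_CA.1 huC p hpA)
      rw [hPfree _ hx u huC hu2 hc.eq, one_mul] at hx
      exact hx.2.2 hpA
    have hsub : S ∪ T ⊆ CAf := by
      intro x hx
      simp only [CAf, Set.Finite.mem_toFinset, SetLike.mem_coe]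
      rcases Finset.mem_union.1 hx with h | h
      · exact (Pord x ((hS x).1 h)).2
      · simp only [T, Finset.mem_image, Finset.mem_product] at h
        obtain ⟨⟨u, p⟩, ⟨hu, hp⟩, rfl⟩ := h
        refine mul_mem ((hUin u).1 hu).1 ?_
        simp only [Finset.mem_insert, Finset.mem_singleton] at hp
        rcases hp with rfl | rfl | rfl
        exacts [one_mem _, haCA, inv_mem haCA]
    have := Finset.card_le_card hsub
    rw [Finset.card_union_of_disjoint hd, hT, hCAf] at this
    omega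
  have hone : ∀ x, P x → S = orb x := by
    intro x hx
    obtain ⟨h8, hsub⟩ := horb x hx
    by_contra hne'
    have hdis : ∀ y, P y → y ∉ orb x → Disjoint (orb x) (orb y) := by
      intro y hy hyx
      rw [Finset.disjoint_left]
      intro w hw hw'
      have hwP : P w := (hS w).1 (hsub hw)
      have e : orb w = orb y := Finset.eq_of_subset_of_card_le (horb_closed y w hw')
        (by rw [(horb w hwP).1, (horb y hy).1])
      refine hyx (horb_closed x w hw (e ▸ ?_))
      simp only [orb, Finset.mem_image, Finset.mem_product]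
      exact ⟨(1, false), ⟨(hUin 1).2 ⟨one_mem _, one_mul _⟩, Finset.mem_univ _⟩, by simp [pw]⟩
    obtain ⟨y, hy, hyn⟩ : ∃ y ∈ S, y ∉ orb x := by
      by_contra h
      push Not at h
      exact hne' (Finset.Subset.antisymm h hsub)
    have hyP := (hS y).1 hy
    have h16 : (orb x ∪ orb y).card = 16 := by
      rw [Finset.card_union_of_disjoint (hdis y hyP hyn), h8, (horb y hyP).1]
    have hsub2 : orb x ∪ orb y ⊆ S := Finset.union_subset hsub (horb y hyP).2
    obtain ⟨w, hw, hwn⟩ : ∃ w ∈ S, w ∉ orb x ∪ orb y := by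
      by_contra h
      push Not at h
      have := (Finset.card_le_card (show S ⊆ orb x ∪ orb y from h)).antisymm (Finset.card_le_card hsub2)
      omega
    rw [Finset.mem_union, not_or] at hwn
    have hwP := (hS w).1 hw
    have hdyw : Disjoint (orb y) (orb w) := by
      rw [Finset.disjoint_left]
      intro v hv hv'
      have hvP : P v := (hS v).1 ((horb y hyP).2 hv)
      have e : orb v = orb w := Finset.eq_of_subset_of_card_le (horb_closed w v hv')
        (by rw [(horb v hvP).1, (horb w hwP).1])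
      refine hwn.2 (horb_closed y v hv (e ▸ ?_))
      simp only [orb, Finset.mem_image, Finset.mem_product]
      exact ⟨(1, false), ⟨(hUin 1).2 ⟨one_mem _, one_mul _⟩, Finset.mem_univ _⟩, by simp [pw]⟩
    have h24 : ((orb x ∪ orb y) ∪ orb w).card = 24 := by
      rw [Finset.card_union_of_disjoint (Finset.disjoint_union_left.2 ⟨hdis w hwP hwn.1, hdyw⟩), h16,
        (horb w hwP).1]
    have := Finset.card_le_card (Finset.union_subset hsub2 (horb w hwP).2)
    omega
  obtain ⟨x, hx⟩ : ∃ x, P x := by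
    obtain ⟨x, hx⟩ := Finset.card_pos.1 (show 0 < S.card by omega)
    exact ⟨x, (hS x).1 hx⟩
  -- an element of `S` inverted by `s`
  have hsP : ∀ x, P x → P (F.s * x * F.s⁻¹) := by
    rintro x ⟨h1, h2, h3⟩
    refine ⟨h1.trans (isConj_iff.2 ⟨F.s, rfl⟩), ?_, fun h => h3 ?_⟩
    · have := comm_conj (g := F.s) h2
      rw [F.s_inverts_A ha] at this
      simpa using (Commute.inv_right (show Commute _ a⁻¹ from this)).eq
    · have h4 := F.s_normA h
      rwa [show F.s⁻¹ * (F.s * x * F.s⁻¹) * F.s = x by group] at h4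
  have hss : ∀ y : G, F.s * (F.s * y * F.s⁻¹) * F.s⁻¹ = y := fun y => by
    calc F.s * (F.s * y * F.s⁻¹) * F.s⁻¹ = (F.s * F.s) * y * (F.s * F.s)⁻¹ := by group
      _ = y := by rw [F.s_sq]; group
  have hsτ : F.s * F.τ * F.s⁻¹ = F.z * F.τ := by
    calc F.s * F.τ * F.s⁻¹ = F.σ * (F.τ * F.τ) * F.τ⁻¹ * F.σ⁻¹ := by rw [s]; group
      _ = F.z * F.τ := by rw [F.τ_sq, mul_one, F.τ_inv, F.σ_τ_σ]
  have hsz : F.s * F.z * F.s⁻¹ = F.z := mul_inv_eq_of_eq_mul F.s_z
  obtain ⟨q, hq, hsq0⟩ : ∃ q, P q ∧ (F.s * q * F.s⁻¹ = q ∨ F.s * q * F.s⁻¹ = q⁻¹) := by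
    have hmem : F.s * x * F.s⁻¹ ∈ orb x := hone x hx ▸ (hS _).2 (hsP x hx)
    simp only [orb, Finset.mem_image, Finset.mem_product] at hmem
    obtain ⟨⟨v, j⟩, ⟨hv, -⟩, e⟩ := hmem
    obtain ⟨hvC, hv2⟩ := (hUin v).1 hv
    have hpw : ∀ (g y : G), g * pw j y * g⁻¹ = pw j (g * y * g⁻¹) := fun g y => by
      cases j <;> simp [pw, mul_assoc]
    have fin : ∀ u y : G, u ∈ F.CA → u * u = 1 → P y → F.s * y * F.s⁻¹ = pw j y →
        ∃ q, P q ∧ (F.s * q * F.s⁻¹ = q ∨ F.s * q * F.s⁻¹ = q⁻¹) := fun u y _ _ hy h => ⟨y, hy, by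
      cases j
      exacts [Or.inl h, Or.inr h]⟩
    rcases hUset v hvC hv2 with rfl | rfl | hv' | hv'
    · exact fin 1 x (one_mem _) (one_mul _) hx (by rw [← e]; simp)
    · refine fin F.τ (F.τ * x * F.τ⁻¹) F.τ_CA F.τ_sq (hPconj x hx F.τ F.τ_CA) ?_
      rw [← hpw]
      calc F.s * (F.τ * x * F.τ⁻¹) * F.s⁻¹
          = (F.s * F.τ * F.s⁻¹) * (F.s * x * F.s⁻¹) * (F.s * F.τ * F.s⁻¹)⁻¹ := by group
        _ = (F.z * F.τ) * (F.z * pw j x * F.z⁻¹) * (F.z * F.τ)⁻¹ := by rw [hsτ, ← e, F.z_inv]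
        _ = (F.z * F.τ * F.z) * pw j x * (F.z * F.τ * F.z)⁻¹ := by group
        _ = F.τ * pw j x * F.τ⁻¹ := by rw [mul_assoc F.z, F.τ_z, ← mul_assoc, F.z_sq, one_mul]
    all_goals
      exfalso
      have hvs : v * (F.s * v * F.s⁻¹) = F.z ∧ (F.s * v * F.s⁻¹) * v = F.z := by
        subst hv'
        first
        | (rw [hsτ]; constructor
           · rw [← mul_assoc, F.τ_z, mul_assoc, F.τ_sq, mul_one]
           · rw [mul_assoc, F.τ_sq, mul_one])
        | (rw [← conj_mul, hsz, hsτ, ← mul_assoc F.z F.z, F.z_sq, one_mul]; constructor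
           · rw [mul_assoc, F.τ_sq, mul_one]
           · rw [← mul_assoc, F.τ_z, mul_assoc, F.τ_sq, mul_one])
      have h1 : x = F.z * x * F.z := by
        have e1 : F.s * (v * pw j x * v) * F.s⁻¹ = x := by rw [e, hss]
        have e2 : F.s * (v * pw j x * v) * F.s⁻¹ =
            (F.s * v * F.s⁻¹) * pw j (F.s * x * F.s⁻¹) * (F.s * v * F.s⁻¹) := by rw [← hpw]; group
        have e3 : pw j (F.s * x * F.s⁻¹) = v * x * v := by
          rw [← e]; cases j <;> simp [pw, mul_inv_rev, inv_eq_self_of_sq hv2, mul_assoc]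
        rw [e2, e3] at e1
        calc x = (F.s * v * F.s⁻¹) * (v * x * v) * (F.s * v * F.s⁻¹) := e1.symm
          _ = ((F.s * v * F.s⁻¹) * v) * x * (v * (F.s * v * F.s⁻¹)) := by group
          _ = F.z * x * F.z := by rw [hvs.1, hvs.2]
      refine F.z_ne (hPfree x hx F.z F.z_CA F.z_sq ?_)
      calc x * F.z = F.z * x * F.z * F.z := by rw [← h1]
        _ = F.z * x := by rw [mul_assoc (F.z * x), F.z_sq, mul_one]
  obtain ⟨g, hg⟩ := isConj_iff.1 hq.1
  -- the involutions centralizing `q`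
  have hI : ∀ w : G, w * q = q * w → w * w = 1 → w ≠ 1 →
      ∃ u, (u = F.z ∨ u = F.τ ∨ u = F.z * F.τ) ∧ w = g * u * g⁻¹ := by
    intro w hwq hw2 hw1
    refine ⟨g⁻¹ * w * g, F.invol_CA hA hB hCA ?_ ?_ ?_, by group⟩
    · rw [← hC, Subgroup.mem_centralizer_singleton_iff]
      calc g⁻¹ * w * g * a = g⁻¹ * (w * (g * a * g⁻¹)) * g := by group
        _ = g⁻¹ * ((g * a * g⁻¹) * w) * g := by rw [hg, hwq]
        _ = a * (g⁻¹ * w * g) := by group
    · rw [show g⁻¹ * w * g * (g⁻¹ * w * g) = g⁻¹ * (w * w) * g by group, hw2]; group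
    · intro h; exact hw1 (by rw [show w = g * (g⁻¹ * w * g) * g⁻¹ by group, h]; group)
  have hI' : ∀ u, (u = F.z ∨ u = F.τ ∨ u = F.z * F.τ) →
      g * u * g⁻¹ * q = q * (g * u * g⁻¹) ∧ g * u * g⁻¹ * (g * u * g⁻¹) = 1 ∧ g * u * g⁻¹ ≠ 1 := by
    intro u hu
    obtain ⟨huC, hu2⟩ := hUmem u (Or.inr hu)
    refine ⟨by rw [← hg]; exact comm_conj (F.mem_CA.1 huC a ha).symm, mul_self_of_conj hu2, fun h => ?_⟩
    rw [conj_eq_one_iff] at h
    rcases hu with rfl | rfl | rfl
    exacts [F.z_ne h, F.τ_ne h, F.τ_ne_z ((eq_inv_of_mul_eq_one_right h).trans F.z_inv)]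
  have hqC : q ∈ F.CA := (Pord q hq).2
  have hnoA : ∀ w, w * q = q * w → w * w = 1 → w ≠ 1 → w * a ≠ a * w := by
    intro w hwq hw2 hw1 hwa
    exact hw1 (hPfree q hq w (hC ▸ Subgroup.mem_centralizer_singleton_iff.2 hwa) hw2 hwq.symm)
  -- `s` inverts `q`
  have hsq : F.s * q * F.s⁻¹ = q⁻¹ := by
    rcases hsq0 with h | h
    · exfalso
      have hsq' : F.s * q = q * F.s := mul_inv_eq_iff_eq_mul.1 h
      have h1 : a * F.s * a⁻¹ * q = q * (a * F.s * a⁻¹) := by
        have := comm_conj (g := a) hsq'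
        rwa [mul_inv_eq_of_eq_mul hq.2.1.symm] at this
      obtain ⟨u, hu, e1⟩ := hI F.s hsq' F.s_sq F.s_ne
      obtain ⟨v, hv, e2⟩ := hI _ h1 (mul_self_of_conj F.s_sq) (fun e => F.s_ne (conj_eq_one_iff.1 e))
      have h2 : a * F.s * a⁻¹ * F.s * (a * F.s * a⁻¹ * F.s) = 1 := by
        rw [e2, e1, conj_mul, mul_self_of_conj]
        have hc := hUcomm v (hUmem v (Or.inr hv)).1 (hUmem v (Or.inr hv)).2 u (hUmem u (Or.inr hu)).1
          (hUmem u (Or.inr hu)).2
        rw [mul_assoc, ← mul_assoc u v, ← hc.eq, mul_assoc, (hUmem u (Or.inr hu)).2, mul_one,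
          (hUmem v (Or.inr hv)).2]
      have h3 : a * F.s * a⁻¹ * F.s = a * a := by
        calc a * F.s * a⁻¹ * F.s = a * (F.s * a⁻¹ * F.s⁻¹) := by rw [F.s_inv]; group
          _ = a * a := by rw [F.s_inverts_A (inv_mem ha), inv_inv]
      rw [h3] at h2
      have h4 : orderOf a ∣ 4 := orderOf_dvd_of_pow_eq_one (by rw [pow_succ, pow_succ, pow_succ, pow_one, mul_assoc (a * a), h2])
      rw [hord] at h4; norm_num at h4
    · exact h
  -- an involution centralizing `q` and `s`
  obtain ⟨w, hwq, hw2, hw1, hws⟩ : ∃ w, w * q = q * w ∧ w * w = 1 ∧ w ≠ 1 ∧ w * F.s = F.s * w := by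
    have hmap : ∀ w, w * q = q * w → w * w = 1 → w ≠ 1 →
        F.s * w * F.s⁻¹ * q = q * (F.s * w * F.s⁻¹) := by
      intro w h1 _ _
      have := comm_conj (g := F.s) h1
      rw [hsq] at this
      simpa using (Commute.inv_right (show Commute _ q⁻¹ from this)).eq
    obtain ⟨a1, a2, a3⟩ := hI' F.z (Or.inl rfl)
    obtain ⟨b1, b2, b3⟩ := hI' F.τ (Or.inr (Or.inl rfl))
    obtain ⟨c1, c2, c3⟩ := hI' (F.z * F.τ) (Or.inr (Or.inr rfl))
    set w1 := g * F.z * g⁻¹
    set w2 := g * F.τ * g⁻¹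
    set w3 := g * (F.z * F.τ) * g⁻¹
    have himg : ∀ w, w * q = q * w → w * w = 1 → w ≠ 1 →
        F.s * w * F.s⁻¹ = w1 ∨ F.s * w * F.s⁻¹ = w2 ∨ F.s * w * F.s⁻¹ = w3 := by
      intro w h1 h2 h3
      obtain ⟨u, hu, e⟩ := hI _ (hmap w h1 h2 h3) (mul_self_of_conj h2) fun e => h3 (conj_eq_one_iff.1 e)
      rcases hu with rfl | rfl | rfl
      exacts [Or.inl e, Or.inr (Or.inl e), Or.inr (Or.inr e)]
    have hfix : ∀ w : G, F.s * w * F.s⁻¹ = w → w * F.s = F.s * w := fun w h =>
      (mul_inv_eq_iff_eq_mul.1 h).symm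
    have hinj : ∀ u v : G, F.s * u * F.s⁻¹ = F.s * v * F.s⁻¹ → u = v := fun u v h =>
      mul_left_cancel (mul_right_cancel h)
    have n12 : w1 ≠ w2 := fun e => F.τ_ne_z (mul_left_cancel (mul_right_cancel e)).symm
    have n13 : w1 ≠ w3 := fun e => F.τ_ne (mul_eq_left.1 (mul_left_cancel (mul_right_cancel e)).symm)
    have n23 : w2 ≠ w3 := fun e => F.z_ne (mul_eq_right.1 (mul_left_cancel (mul_right_cancel e)).symm)
    rcases himg w1 a1 a2 a3 with e | e | e
    · exact ⟨w1, a1, a2, a3, hfix _ e⟩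
    · have e' : F.s * w2 * F.s⁻¹ = w1 := by rw [← e]; exact hss w1
      rcases himg w3 c1 c2 c3 with f | f | f
      · exact absurd (hinj _ _ (f.trans e'.symm)) n23.symm
      · exact absurd (hinj _ _ (f.trans e.symm)) n13.symm
      · exact ⟨w3, c1, c2, c3, hfix _ f⟩
    · have e' : F.s * w3 * F.s⁻¹ = w1 := by rw [← e]; exact hss w1
      rcases himg w2 b1 b2 b3 with f | f | f
      · exact absurd (hinj _ _ (f.trans e'.symm)) n23
      · exact ⟨w2, b1, b2, b3, hfix _ f⟩
      · exact absurd (hinj _ _ (f.trans e.symm)) n12.symm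
  have hwz : w ≠ F.z := fun h => F.z_ne (hPfree q hq F.z F.z_CA F.z_sq (h ▸ hwq).symm)
  have hwzs : w ≠ F.z * F.s := fun h => by
    have hzq : F.z * q * F.z⁻¹ = q⁻¹ := by
      have h1 : (F.z * F.s) * q * (F.z * F.s)⁻¹ = q := mul_inv_eq_of_eq_mul (h ▸ hwq)
      calc F.z * q * F.z⁻¹ = (F.z * F.s) * (F.s⁻¹ * q * F.s) * (F.z * F.s)⁻¹ := by group
        _ = (F.z * F.s) * q⁻¹ * (F.z * F.s)⁻¹ := by
            rw [show F.s⁻¹ * q * F.s = F.s * q * F.s⁻¹ by rw [F.s_inv], hsq]
        _ = q⁻¹ := by rw [← conj_inv, h1]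
    have h2 : F.z * q * (F.z * q) = 1 := by
      calc F.z * q * (F.z * q) = (F.z * q * F.z⁻¹) * (F.z * F.z) * q := by group
        _ = 1 := by rw [hzq, F.z_sq, mul_one, inv_mul_cancel]
    have hc2 := hUcomm F.z F.z_CA F.z_sq _ (mul_mem F.z_CA hqC) h2
    have h3 : q * q = 1 := by
      have e2 : q = F.z * (F.z * q) := by rw [← mul_assoc, F.z_sq, one_mul]
      rw [e2, mul_assoc, ← mul_assoc (F.z * q) F.z, ← hc2.eq, mul_assoc, h2, mul_one, F.z_sq]
    exact hq.2.2 (eq_one_of_sq_of_odd (Podd q hq) h3 ▸ one_mem _)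
  have hwns : w ≠ F.s := fun h => by
    have h1 := hsq
    rw [mul_inv_eq_of_eq_mul (h ▸ hwq)] at h1
    exact hq.2.2 (eq_one_of_sq_of_odd (Podd q hq) (mul_eq_one_iff_eq_inv.2 h1) ▸ one_mem _)
  -- the shape of `w`
  obtain ⟨a', ha's, hza', ha'3, hwa'⟩ : ∃ a', a' * F.s = F.s * a' ∧ F.z * a' * F.z⁻¹ = a'⁻¹ ∧
      a' ^ 3 = 1 ∧ w = a' * (F.z * F.s) := by
    set c := F.φ⁻¹ * w * F.φ with hc
    have hwc : w = F.φ * c * F.φ⁻¹ := by rw [hc]; group
    have hcC : c ∈ F.C := F.mem_C.2 (by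
      calc F.φ⁻¹ * w * F.φ * F.z = F.φ⁻¹ * (w * (F.φ * F.z * F.φ⁻¹)) * F.φ := by group
        _ = F.φ⁻¹ * ((F.φ * F.z * F.φ⁻¹) * w) * F.φ := by rw [F.φ_z, hws]
        _ = F.z * (F.φ⁻¹ * w * F.φ) := by group)
    have hc2 : c * c = 1 := by
      rw [hc, show F.φ⁻¹ * w * F.φ * (F.φ⁻¹ * w * F.φ) = F.φ⁻¹ * (w * w) * F.φ by group, hw2]; group
    rcases F.invol_C hcC hc2 with h | h | ⟨y, hy, h⟩ | ⟨p, hp, h⟩
    · exact absurd (by rw [hwc, h]; group) hw1
    · exact absurd (by rw [hwc, h, F.φ_z]) hwns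
    · exfalso
      rw [hB, Subgroup.mem_bot] at hy
      rw [hy, one_mul, one_mul] at h
      have h2 : F.φ⁻¹ * q * F.φ * c = c * (F.φ⁻¹ * q * F.φ) := by
        calc F.φ⁻¹ * q * F.φ * (F.φ⁻¹ * w * F.φ) = F.φ⁻¹ * (q * w) * F.φ := by group
          _ = F.φ⁻¹ * (w * q) * F.φ := by rw [hwq]
          _ = (F.φ⁻¹ * w * F.φ) * (F.φ⁻¹ * q * F.φ) := by group
      have hqA : F.φ⁻¹ * q * F.φ ∈ F.A := by
        rcases h with h | h <;> rw [h] at h2
        · obtain ⟨p, hp, b, hb, e⟩ := F.odd_comm_τ (odd_conj' (Podd q hq)) h2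
          rw [hB, Subgroup.mem_bot] at hb
          rw [e, hb]; simpa using hp
        · have h3 := comm_conj (g := F.θ) h2
          rw [F.θ_zτ] at h3
          have h4 := F.mem_O (F.mem_C.2 h3) (odd_conj (odd_conj' (Podd q hq)))
          rw [F.O_eq hA hB hCA] at h4
          have h5 := F.θ_inv_A h4
          rw [show F.θ⁻¹ * (F.θ * (F.φ⁻¹ * q * F.φ) * F.θ⁻¹) * F.θ = F.φ⁻¹ * q * F.φ by group] at h5
          rwa [← h5] at h4
      have h6 := F.φA_comm_s hqA
      rw [show F.φ * (F.φ⁻¹ * q * F.φ) * F.φ⁻¹ = q by group] at h6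
      rw [mul_inv_eq_of_eq_mul h6.symm] at hsq
      exact hq.2.2 (eq_one_of_sq_of_odd (Podd q hq) (mul_eq_one_iff_eq_inv.2 hsq) ▸ one_mem _)
    · rcases h with h | h
      · refine ⟨_, F.φA_comm_s hp, F.z_inverts_φA hp, ?_, ?_⟩
        · rw [conj_pow, orderOf_dvd_iff_pow_eq_one.1 (hA ▸ F.A.orderOf_dvd_natCard hp), mul_one,
            mul_inv_cancel]
        rw [hwc, h, ← F.φ_s, conj_mul]
      · exfalso
        set c' := F.φ * p * F.φ⁻¹ with hc'
        have hwe : w = c' * F.z := by rw [hwc, h, hc', ← conj_mul, F.φ_zs]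
        have hc'o : orderOf c' ∣ 3 := by
          rw [hc', ← MulAut.conj_apply, MulEquiv.orderOf_eq]
          exact hA ▸ F.A.orderOf_dvd_natCard hp
        have hodd : Odd (orderOf c') := Odd.of_dvd_nat (by decide) hc'o
        obtain ⟨k, hk⟩ := exists_conj_translate F.z_sq hodd (F.z_inverts_φA hp)
        set d := c' ^ k
        have hd3 : d * d * d = 1 := by
          rw [← sq, ← pow_succ, ← pow_mul, mul_comm, pow_mul, orderOf_dvd_iff_pow_eq_one.1 hc'o, one_pow]
        have hdz : d⁻¹ * q * d * F.z = F.z * (d⁻¹ * q * d) := by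
          calc d⁻¹ * q * d * F.z = d⁻¹ * (q * (d * F.z * d⁻¹)) * d := by group
            _ = d⁻¹ * ((d * F.z * d⁻¹) * q) * d := by rw [hk, ← hwe, hwq]
            _ = _ := by group
        have hqA : d⁻¹ * q * d ∈ F.A := by
          rw [← F.O_eq hA hB hCA]; exact F.mem_O (F.mem_C.2 hdz) (odd_conj' (Podd q hq))
        have hq' : q = d * (d⁻¹ * q * d) * d⁻¹ := by group
        have hqd : q = d * a * d⁻¹ ∨ q = d * a⁻¹ * d⁻¹ := by
          rcases hAcases _ hqA with e | e | e
          · exfalso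
            rw [hq', e, mul_one, mul_inv_cancel] at hq
            exact hq.2.2 (one_mem _)
          · left; rw [hq', e]
          · right; rw [hq', e]
        have hp1 : Commute (d * a * d⁻¹) a := by
          rcases hqd with e | e
          · rw [← e]; exact hq.2.1
          · have h7 := (show Commute q a from hq.2.1).inv_left
            rw [e] at h7
            simpa [mul_assoc] using h7
        set r := d * (d * a * d⁻¹) * d⁻¹ with hr
        have hra : r * a = a * r := by
          have h8 := comm_conj (g := d * d) hp1.eq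
          have e1 : d * d * (d * a * d⁻¹) * (d * d)⁻¹ = a := by
            rw [show d * d * (d * a * d⁻¹) * (d * d)⁻¹ = d * d * d * a * (d * d * d)⁻¹ by group, hd3]; group
          have e2 : d * d * a * (d * d)⁻¹ = r := by rw [hr]; group
          rw [e1, e2] at h8
          exact h8.symm
        have hrq : r * q = q * r := by
          have h8 : Commute r (d * a * d⁻¹) := by rw [hr]; exact comm_conj hp1.eq
          rcases hqd with e | e <;> rw [e]
          · exact h8.eq
          · rw [← conj_inv]; exact h8.inv_right.eq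
        have hback : r ∈ F.A → d * a * d⁻¹ ∈ F.A := fun hrA => by
          have hn1 : ∀ y : G, y ∈ F.A → d * y * d⁻¹ = r → y = d * a * d⁻¹ := fun y _ e =>
            mul_left_cancel (mul_right_cancel (e.trans hr))
          rcases hAcases r hrA with e | e | e
          · exfalso
            rw [hr, conj_eq_one_iff, conj_eq_one_iff] at e
            exact ha1 e
          · have h10 : d * a * d⁻¹ = a := by
              calc d * a * d⁻¹ = d * (d * (d * a * d⁻¹) * d⁻¹) * d⁻¹ := by rw [← hr, e]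
                _ = (d * d * d) * a * (d * d * d)⁻¹ := by group
                _ = a := by rw [hd3]; group
            rw [h10]; exact ha
          · have h10 : d * a⁻¹ * d⁻¹ = a := by
              calc d * a⁻¹ * d⁻¹ = d * r * d⁻¹ := by rw [e]
                _ = (d * d * d) * a * (d * d * d)⁻¹ := by rw [hr]; group
                _ = a := by rw [hd3]; group
            rw [show d * a * d⁻¹ = (d * a⁻¹ * d⁻¹)⁻¹ by group, h10]
            exact inv_mem ha
        have hdA : d * a * d⁻¹ ∉ F.A := fun h => hq.2.2 (by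
          rcases hqd with e | e
          · rw [e]; exact h
          · rw [e, ← conj_inv]; exact inv_mem h)
        have hrP : P r := ⟨isConj_iff.2 ⟨d * d, by rw [hr]; group⟩, hra, fun h => hdA (hback h)⟩
        have hmem : r ∈ orb q := hone q hq ▸ (hS r).2 hrP
        simp only [orb, Finset.mem_image, Finset.mem_product] at hmem
        obtain ⟨⟨u, i⟩, ⟨hu, -⟩, e⟩ := hmem
        obtain ⟨huC, hu2⟩ := (hUin u).1 hu
        have hpwc : Commute (pw i q) q := by
          cases i
          exacts [Commute.refl q, (Commute.refl q).inv_left]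
        have hP' : P (pw i q) := by
          cases i
          exacts [hq, hPinv q hq]
        have hcq : Commute (u * pw i q * u) (pw i q) := by
          have h8 : Commute r q := hrq
          rw [← e] at h8
          cases i
          exacts [h8, h8.inv_right]
        set y := pw i q
        have hyC : y ∈ F.CA := (Pord _ hP').2
        have h11 : y⁻¹ * (u * y * u) = (y⁻¹ * u * y) * u := by group
        have h12 : (y⁻¹ * u * y) * u * ((y⁻¹ * u * y) * u) = 1 := by
          have hv := hUnorm y⁻¹ (inv_mem hyC) u huC hu2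
          rw [inv_inv] at hv
          have hc3 := hUcomm _ hv.1 hv.2 u huC hu2
          calc y⁻¹ * u * y * u * (y⁻¹ * u * y * u)
              = y⁻¹ * u * y * (u * (y⁻¹ * u * y)) * u := by group
            _ = (y⁻¹ * u * y * (y⁻¹ * u * y)) * (u * u) := by rw [← hc3.eq]; group
            _ = 1 := by rw [hv.2, hu2, mul_one]
        have h13 : y⁻¹ * (u * y * u) = 1 := by
          refine eq_one_of_sq_of_odd (Odd.of_dvd_nat ((Podd _ hP').mul (odd_conj (g := u) (Podd _ hP'))) ?_)
            (by rw [h11]; exact h12)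
          rw [← orderOf_inv y]
          have hcc : Commute y⁻¹ (u * y * u⁻¹) := by rw [inv_eq_self_of_sq hu2]; exact hcq.symm.inv_left
          have := hcc.orderOf_mul_dvd_mul_orderOf
          rwa [inv_eq_self_of_sq hu2] at this ⊢
        have hu1 : u = 1 := hPfree _ hP' u huC hu2 (by
          have h14 : u * y * u = y := (inv_mul_eq_one.1 h13).symm
          calc y * u = u * y * u * u := by rw [h14]
            _ = u * y := by rw [mul_assoc (u * y), hu2, mul_one])
        subst hu1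
        rw [one_mul, mul_one] at e
        apply hdA
        have h15 : r = q ∨ r = q⁻¹ := by
          cases i
          exacts [Or.inl e.symm, Or.inr e.symm]
        have h16 : d * a * d⁻¹ = a ∨ d * a * d⁻¹ = a⁻¹ := by
          rcases h15 with f | f <;> rcases hqd with f' | f' <;> rw [f', hr] at f
          · exact Or.inl (mul_left_cancel (mul_right_cancel f))
          · exact Or.inr (mul_left_cancel (mul_right_cancel f))
          · rw [conj_inv] at f; exact Or.inr (mul_left_cancel (mul_right_cancel f))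
          · rw [conj_inv, inv_inv] at f; exact Or.inl (mul_left_cancel (mul_right_cancel f))
        rcases h16 with f | f <;> rw [f]
        exacts [ha, inv_mem ha]
  -- the five generators
  have hawI : ∀ e : G, e ∈ F.A → e ≠ 1 → (e * w * e⁻¹ * w) ^ 2 = 1 := by
    intro e he he1
    have h1 : e * w * e⁻¹ * q = q * (e * w * e⁻¹) := by
      have := comm_conj (g := e) hwq
      rwa [mul_inv_eq_of_eq_mul (F.mem_CA.1 hqC e he)] at this
    obtain ⟨u, hu, e1⟩ := hI w hwq hw2 hw1
    obtain ⟨v, hv, e2⟩ := hI _ h1 (mul_self_of_conj hw2) (fun h => hw1 (conj_eq_one_iff.1 h))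
    rw [e2, e1, conj_mul, sq, mul_self_of_conj]
    have hc := hUcomm v (hUmem v (Or.inr hv)).1 (hUmem v (Or.inr hv)).2 u (hUmem u (Or.inr hu)).1
      (hUmem u (Or.inr hu)).2
    rw [mul_assoc, ← mul_assoc u v, ← hc.eq, mul_assoc, (hUmem u (Or.inr hu)).2, mul_one,
      (hUmem v (Or.inr hv)).2]
  set b := w * a⁻¹ * w with hb
  have hb3 : b ^ 3 = 1 := by
    calc b ^ 3 = w * a⁻¹ * (w * w) * a⁻¹ * (w * w) * a⁻¹ * w := by
          rw [pow_succ, pow_succ, pow_one, hb]; group
      _ = w * (a ^ 3)⁻¹ * w := by rw [hw2, pow_succ, pow_succ, pow_one]; group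
      _ = 1 := by rw [ha3, inv_one, mul_one, hw2]
  have hab : (a * b) ^ 2 = 1 := by
    rw [show a * b = a * w * a⁻¹ * w by rw [hb]; group]; exact hawI a ha ha1
  have hbz : (b * F.z * (b * F.z)) ^ 2 = 1 := by
    have hsq' : ∀ x : G, a' * a' = a'⁻¹ := fun _ => eq_inv_of_mul_eq_one_left (by
      rw [← sq, ← pow_succ]; exact ha'3)
    have hzs : F.z * F.s * F.z = F.s := by rw [mul_assoc, F.s_z, ← mul_assoc, F.z_sq, one_mul]
    have hwzw : w * F.z * w = a'⁻¹ * F.z := by
      calc w * F.z * w = a' * (F.z * F.s) * F.z * (a' * (F.z * F.s)) := by rw [hwa']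
        _ = a' * ((F.z * F.s * F.z) * a') * (F.z * F.s) := by group
        _ = a' * (F.s * a') * (F.z * F.s) := by rw [hzs]
        _ = a' * a' * (F.s * F.z) * F.s := by rw [← ha's]; group
        _ = a' * a' * F.z * (F.s * F.s) := by rw [F.s_z]; group
        _ = a'⁻¹ * F.z := by rw [F.s_sq, mul_one, hsq' 1]
    have hza : F.z * a⁻¹ = a⁻¹ * F.z := (F.z_comm (F.O.inv_mem (F.A_le ha))).symm
    have hza'' : F.z * a'⁻¹ * F.z = a' := by
      conv_lhs => arg 2; rw [← F.z_inv]
      rw [← conj_inv, hza', inv_inv]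
    have hconj : a'⁻¹ * a⁻¹ * a' = F.z * (w * a * w) * F.z := by
      have ea : a' = w * (F.z * F.s) := by
        calc a' = a' * ((F.z * F.s * F.z) * F.s) := by rw [hzs, F.s_sq, mul_one]
          _ = a' * (F.z * F.s) * (F.z * F.s) := by group
          _ = w * (F.z * F.s) := by rw [hwa']
      have esz : (F.z * F.s)⁻¹ = F.z * F.s := by
        rw [mul_inv_rev, F.z_inv, F.s_inv, F.s_z]
      have esw : F.s * w = w * F.s := hws.symm
      calc a'⁻¹ * a⁻¹ * a' = (F.z * F.s)⁻¹ * w⁻¹ * a⁻¹ * (w * (F.z * F.s)) := by rw [ea]; group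
        _ = F.z * F.s * w * a⁻¹ * w * (F.s * F.z) := by
            rw [esz, inv_eq_self_of_sq hw2, F.s_z]; group
        _ = F.z * ((F.s * w) * a⁻¹ * (w * F.s)) * F.z := by group
        _ = F.z * (w * (F.s * a⁻¹ * F.s) * w) * F.z := by
            rw [hws]; nth_rewrite 1 [esw]; group
        _ = F.z * (w * a * w) * F.z := by
            rw [show F.s * a⁻¹ * F.s = F.s * a⁻¹ * F.s⁻¹ by rw [F.s_inv], F.s_inverts_A (inv_mem ha),
              inv_inv]
    have hkey : b * F.z * (b * F.z) = w * F.z * (a⁻¹ * w * a * w) * (w * F.z)⁻¹ := by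
      have e1 : b * F.z * (b * F.z) = w * a⁻¹ * (w * F.z * w) * a⁻¹ * (w * F.z * w) * w := by
        rw [hb]
        calc w * a⁻¹ * w * F.z * (w * a⁻¹ * w * F.z)
            = w * a⁻¹ * (w * F.z * w) * a⁻¹ * (w * F.z) := by group
          _ = w * a⁻¹ * (w * F.z * w) * a⁻¹ * (w * F.z * (w * w)) := by rw [hw2, mul_one]
          _ = _ := by group
      calc b * F.z * (b * F.z) = w * a⁻¹ * (a'⁻¹ * F.z) * a⁻¹ * (a'⁻¹ * F.z) * w := by rw [e1, hwzw]
        _ = w * a⁻¹ * a'⁻¹ * (F.z * a⁻¹) * a'⁻¹ * F.z * w := by group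
        _ = w * a⁻¹ * a'⁻¹ * a⁻¹ * (F.z * a'⁻¹ * F.z) * w := by rw [hza]; group
        _ = w * a⁻¹ * (a'⁻¹ * a⁻¹ * a') * w := by rw [hza'']; group
        _ = w * (a⁻¹ * F.z) * (w * a * w) * (F.z * w) := by rw [hconj]; group
        _ = w * F.z * (a⁻¹ * w * a * w) * (F.z⁻¹ * w⁻¹) := by
            rw [← hza, F.z_inv, inv_eq_self_of_sq hw2]; group
        _ = _ := by rw [← mul_inv_rev]
    have h2 := hawI a⁻¹ (inv_mem ha) (inv_ne_one.2 ha1)
    rw [inv_inv] at h2
    rw [hkey, conj_pow, h2, mul_one, mul_inv_cancel]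
  have hqb : Commute q b := by
    have h1 : Commute q w := hwq.symm
    have h2 : Commute q a := hq.2.1
    exact (h1.mul_right h2.inv_right).mul_right h1
  have hq3 : q ^ 3 = 1 := by rw [← (Pord q hq).1, pow_orderOf_eq_one]
  have hbu : ∀ u, (u = F.z ∨ u = F.τ ∨ u = F.z * F.τ) → (b * u * (b * u)) ^ 2 = 1 := by
    have hmove : ∀ g : G, Commute g b → ∀ u, u = g * F.z * g⁻¹ → (b * u * (b * u)) ^ 2 = 1 := by
      intro g hgb u hu
      have e : b * u * (b * u) = g * (b * F.z * (b * F.z)) * g⁻¹ := by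
        rw [hu]
        calc b * (g * F.z * g⁻¹) * (b * (g * F.z * g⁻¹))
            = (b * g) * F.z * g⁻¹ * (b * g) * F.z * g⁻¹ := by group
          _ = (g * b) * F.z * g⁻¹ * (g * b) * F.z * g⁻¹ := by rw [hgb.eq]
          _ = _ := by group
      rw [e, conj_pow, hbz, mul_one, mul_inv_cancel]
    have himg : ∀ g ∈ F.CA, g * F.z * g⁻¹ = F.z ∨ g * F.z * g⁻¹ = F.τ ∨ g * F.z * g⁻¹ = F.z * F.τ :=
      fun g hg => by
        obtain ⟨h1, h2⟩ := hUnorm g hg F.z F.z_CA F.z_sq
        exact F.invol_CA hA hB hCA h1 h2 fun h => F.z_ne (conj_eq_one_iff.1 h)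
    have hnz : ∀ g : G, P g → g * F.z * g⁻¹ ≠ F.z := fun g hg h =>
      F.z_ne (hPfree g hg F.z F.z_CA F.z_sq (mul_inv_eq_iff_eq_mul.1 h))
    have hne2 : q * F.z * q⁻¹ ≠ q⁻¹ * F.z * q⁻¹⁻¹ := fun h => by
      refine hnz q hq ?_
      have h1 : q * q * F.z * (q * q)⁻¹ = F.z := by
        calc q * q * F.z * (q * q)⁻¹ = q * (q * F.z * q⁻¹) * q⁻¹ := by group
          _ = F.z := by rw [h]; group
      have e : q * q * (q * q) = q := by
        calc q * q * (q * q) = q ^ 3 * q := by rw [pow_succ, sq]; group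
          _ = q := by rw [hq3, one_mul]
      calc q * F.z * q⁻¹ = q * q * (q * q * F.z * (q * q)⁻¹) * (q * q)⁻¹ := by
            rw [show q * q * (q * q * F.z * (q * q)⁻¹) * (q * q)⁻¹ =
              (q * q * (q * q)) * F.z * (q * q * (q * q))⁻¹ by group, e]
        _ = F.z := by rw [h1, h1]
    intro u hu
    rcases hu with hu | hu
    · exact hmove 1 (Commute.one_left b) u (by rw [hu]; simp)
    rcases himg q hqC with e | e
    · exact absurd e (hnz q hq)
    rcases himg q⁻¹ (inv_mem hqC) with f | f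
    · exact absurd f (hnz q⁻¹ (hPinv q hq))
    rcases e with e | e <;> rcases f with f | f
    · exact absurd (e.trans f.symm) hne2
    · rcases hu with hu | hu
      · exact hmove q hqb u (hu.trans e.symm)
      · exact hmove q⁻¹ hqb.inv_left u (hu.trans f.symm)
    · rcases hu with hu | hu
      · exact hmove q⁻¹ hqb.inv_left u (hu.trans f.symm)
      · exact hmove q hqb u (hu.trans e.symm)
    · exact absurd (e.trans f.symm) hne2
  have hau : ∀ u, u ∈ F.CA → u * u = 1 → (a * (u * b * u)) ^ 2 = 1 := by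
    intro u hu hu2
    have hc : a * u = u * a := F.mem_CA.1 hu a ha
    have e : a * (u * b * u) = u * (a * b) * u⁻¹ := by
      rw [inv_eq_self_of_sq hu2]
      calc a * (u * b * u) = (a * u) * b * u := by group
        _ = _ := by rw [hc]; group
    rw [e, conj_pow, hab, mul_one, mul_inv_cancel]
  have hzτ1 : F.τ * (F.z * F.τ) = F.z := by rw [← mul_assoc, F.τ_z, mul_assoc, F.τ_sq, mul_one]
  have hpair : ∀ u v, u ∈ F.CA → u * u = 1 → v ∈ F.CA → v * v = 1 →
      (u * v = F.z ∨ u * v = F.τ ∨ u * v = F.z * F.τ) → (u * b * u * (v * b * v)) ^ 2 = 1 := by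
    intro u v hu hu2 hv hv2 huv
    have hc := hUcomm u hu hu2 v hv hv2
    have e : u * b * u * (v * b * v) = u * (b * (u * v) * (b * (u * v))) * u⁻¹ := by
      rw [inv_eq_self_of_sq hu2]
      calc u * b * u * (v * b * v) = u * b * (u * v) * b * (v * (u * u)) := by rw [hu2, mul_one]; group
        _ = u * b * (u * v) * b * ((v * u) * u) := by group
        _ = _ := by rw [← hc.eq]; group
    rw [e, conj_pow, hbu _ huv, mul_one, mul_inv_cancel]
  let zz : Fin 7 → G :=
    ![1, 1, a, b, F.z * b * F.z, F.τ * b * F.τ, (F.z * F.τ) * b * (F.z * F.τ)]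
  have hu3 : ∀ u : G, u * u = 1 → (u * b * u) ^ 3 = 1 := fun u hu => by
    have e : u * b * u = u * b * u⁻¹ := by rw [inv_eq_self_of_sq hu]
    rw [e, conj_pow, hb3, mul_one, mul_inv_cancel]
  have hb1 : ∀ u : G, (u = F.z ∨ u = F.τ ∨ u = F.z * F.τ) → (b * (u * b * u)) ^ 2 = 1 := fun u hu => by
    have := hpair 1 u (one_mem _) (one_mul 1) (hUmem u (Or.inr hu)).1 (hUmem u (Or.inr hu)).2
      (by rwa [one_mul])
    rwa [one_mul, mul_one] at this
  have p1 := hab
  have p2 := hau F.z F.z_CA F.z_sq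
  have p3 := hau F.τ F.τ_CA F.τ_sq
  have p4 := hau (F.z * F.τ) F.zτ_CA F.z_τ_sq
  have p5 := hb1 F.z (Or.inl rfl)
  have p6 := hb1 F.τ (Or.inr (Or.inl rfl))
  have p7 := hb1 (F.z * F.τ) (Or.inr (Or.inr rfl))
  have p8 := hpair F.z F.τ F.z_CA F.z_sq F.τ_CA F.τ_sq (Or.inr (Or.inr rfl))
  have p9 := hpair F.z (F.z * F.τ) F.z_CA F.z_sq F.zτ_CA F.z_τ_sq
    (Or.inr (Or.inl (by rw [← mul_assoc, F.z_sq, one_mul])))
  have p10 := hpair F.τ (F.z * F.τ) F.τ_CA F.τ_sq F.zτ_CA F.z_τ_sq (Or.inl hzτ1)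
  have t3 := hu3 F.z F.z_sq
  have t4 := hu3 F.τ F.τ_sq
  have t5 := hu3 (F.z * F.τ) F.z_τ_sq
  obtain ⟨ψ, hψ⟩ := CfsgLib.BPres.carmichael (a := (0 : Fin 7)) (b := 1) (by decide) zz
    (fun i h1 h2 => by
      fin_cases i <;> first
        | exact absurd rfl h1
        | exact absurd rfl h2
        | exact ha3
        | exact hb3
        | exact t3
        | exact t4
        | exact t5)
    (fun i j h1 h2 h3 h4 hij => by
      fin_cases i <;> fin_cases j <;> first
        | exact absurd rfl h1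
        | exact absurd rfl h2
        | exact absurd rfl h3
        | exact absurd rfl h4
        | exact absurd rfl hij
        | exact p1
        | exact p2
        | exact p3
        | exact p4
        | exact p5
        | exact p6
        | exact p7
        | exact p8
        | exact p9
        | exact p10
        | exact sq_mul_comm p1
        | exact sq_mul_comm p2
        | exact sq_mul_comm p3
        | exact sq_mul_comm p4
        | exact sq_mul_comm p5
        | exact sq_mul_comm p6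
        | exact sq_mul_comm p7
        | exact sq_mul_comm p8
        | exact sq_mul_comm p9
        | exact sq_mul_comm p10)
  haveI : IsSimpleGroup ↥(alternatingGroup (Fin 7)) := alternatingGroup.isSimpleGroup (by simp)
  have hψa : ψ (CfsgLib.BPres.cyc (0 : Fin 7) 1 2) = a := hψ 2 (by decide) (by decide)
  have hinj : Function.Injective ψ := by
    rw [← MonoidHom.ker_eq_bot_iff]
    refine ψ.normal_ker.eq_bot_or_eq_top.resolve_right fun h => ha1 ?_
    rw [← hψa]
    exact MonoidHom.mem_ker.1 (h ▸ Subgroup.mem_top _)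
  have hcard7 : Nat.card ↥(alternatingGroup (Fin 7)) = 2520 := by
    rw [nat_card_alternatingGroup, Nat.card_fin]; decide
  exact ⟨(MulEquiv.ofBijective ψ ((Nat.bijective_iff_injective_and_card _).2
    ⟨hinj, by rw [hcard7, hG]⟩)).symm⟩

end Seven

end Frame

end CfsgLib.SmallCent
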